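import Cfsg.Agent.Mrg.Omega.HOne.Cut
import Cfsg.Agent.Mrg.Omega.HTwo.EightPos
import Cfsg.Agent.Mrg.Omega.HTwo.SevenMain
import Cfsg.Agent.Mrg.Omega.HOneTwo.MoreMain
import Cfsg.Agent.Mrg.Omega.HOneEnd.Known
import Cfsg.Agent.Mrg.Omega.IId.BigD.Inst
import Cfsg.Agent.Mrg.Omega.ThmC.TwoOf
import Cfsg.Agent.Mrg.Omega.NOne.LemmaT
import Cfsg.Agent.Mrg.Omega.IId.CvBig.FourFan
import Cfsg.Agent.Mrg.Omega.HOne.CutT
import Cfsg.Agent.Mrg.Omega.IId.CvBig.Bts
import Cfsg.Agent.Mrg.Omega.IId.Cv.TwoFourEnd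
import Cfsg.Agent.Mrg.Omega.IId.CvBig.NormMix
import Cfsg.Agent.Mrg.Omega.IId.BigFour.NoBig
import Cfsg.Agent.Mrg.Omega.IId.M4.Graph
import Cfsg.Agent.Mrg.Omega.IId.M4.Entry
import Cfsg.Agent.Mrg.Omega.IId.CvBig.UsTwo
import Cfsg.Agent.Mrg.Omega.IId.CvBig.U2Par
import Cfsg.Agent.Mrg.Omega.IId.CvBig.Over
import Mathlib.GroupTheory.Sylow
import Mathlib.GroupTheory.PGroup
import Mathlib.Algebra.CharP.Two
import Mathlib.FieldTheory.Finite.Basic
import Mathlib.Tactic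
import Cfsg.Agent.Mrg.Omega.HOne.NSSide
import Cfsg.Agent.MinSimple.VModule
import Cfsg.Agent.Mrg.Omega.IId.Ns.NineB
import Cfsg.Agent.Mrg.Omega.IId.Ns.Defs
import Cfsg.Agent.Mrg.Omega.IId.Ns.Pair
import Cfsg.Agent.Mrg.Omega.IId.Ns.Half
import Cfsg.Agent.Mrg.Omega.SQT.Rank
import Cfsg.Agent.Mrg.Omega.FFMutual
import Cfsg.Agent.Mrg.Omega.IId.ThmCQ.NsTor
import Cfsg.Agent.Mrg.Omega.IId.Ns.LemH
import Cfsg.Agent.Mrg.Omega.IId.Cv.Cut
import Cfsg.Agent.Mrg.Omega.IId.SymWr.SylN.OfOne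
import Cfsg.Agent.Mrg.Omega.IId.LFour.SwTwo
import Cfsg.Agent.Mrg.Omega.IId.SwB.Core
import Cfsg.Agent.Mrg.Omega.IId.SwB.PartNat
import Cfsg.Agent.Mrg.Omega.IId.SMain
import Cfsg.Agent.Mrg.Omega.IId.Sup
import Cfsg.Agent.Mrg.Omega.IId.Fin
import Cfsg.Agent.Mrg.Omega.IId.SwCv.SylHatFin
import Cfsg.Agent.Mrg.Omega.HOne.StFour
import Cfsg.Agent.Mrg.Omega.F4Leaf.Syl.Plug
import Cfsg.Agent.Mrg.Omega.FFBr.Final
import Cfsg.Agent.Mrg.Omega.FrameI
import Cfsg.Agent.Lib.NormalAbelian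

-- merged: Cfsg.Agent.Mrg.Omega.HOne.Final
section

/-!
# Leaf II.0h1: the end, the exit `Pos`, and the leaf from `StFour`

* `endL : FFThm.Stmt → EndL`;
* `known_of_pos` : **the exit `Pos`** for all leaves (from `FFThm.Stmt` only);
* `leafH1_of : FFThm.Stmt → St1740 → StFour K → LeafH1 K`; without `StFour` in `HOne/FinalH1.lean`.
-/

set_option autoImplicit false

namespace Cfsg.Agent.Omega.HOne.Final

open Subgroup Cfsg Cfsg.Agent.ZN Cfsg.Agent.Omega.MinPar Cfsg.Agent.Omega.Frame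
open Cfsg.Agent.Omega.FrameFF Cfsg.Agent.Omega.HOne.Main Cfsg.Agent.Omega.HOne.Cut
open Cfsg.Agent.Omega.HTwo.Entry (Pos)
open Cfsg.Agent.Omega.FrameLE (AllIn)

universe u v

/-- **the END** -/
theorem endL (hFF : FFThm.Stmt.{u}) : EndL.{u} := by
  intro G _ _ hG S hF hI G₀ U R v h
  have := hG.simple
  exact h.known hFF hG.char2 hF hI

/-- the position `Pos` gives `EndIn` -/
theorem ends_of_pos {G : Type u} [Group G] [Finite G] {S : Sylow 2 G} {P V : Subgroup G} {ι : Type v}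
    {R : ι → Subgroup G} {o : ι} {r z : G} (p : Pos S P V R o r z) : Ends (S : Subgroup G) V (R o) :=
  Cut.ends_of_pos HTwo.TSMain.ts0 HTwo.Seven.three0 HOneTwo.Trans.more0 p

/-- **The exit `Pos`.** -/
theorem known_of_pos (hFF : FFThm.Stmt.{u}) {G : Type u} [Group G]
    [Finite G] (hG : Ctx G) {S : Sylow 2 G} (hF : Full (S : Subgroup G)) (hI : AllIn (S : Subgroup G))
    {P V : Subgroup G} {ι : Type v} {R : ι → Subgroup G} {o : ι} {r z : G} (p : Pos S P V R o r z) :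
    IsKnownSimple' G :=
  Cut.known_of_pos HTwo.TSMain.ts0 HTwo.Seven.three0 HOneTwo.Trans.more0 (endL hFF) hG hF hI p

/-- Leaf II.0h1 from `StFour`. -/
theorem leafH1_of {K : Cls.{u}} (hFF : FFThm.Stmt.{u}) (h40 : Outputs.St1740.{u}) (h4 : StFour K) : LeafH1 K :=
  Cut.leafH1_of' h40 h4 HTwo.TSMain.ts0 HTwo.Seven.three0 HOneTwo.Trans.more0 (stEnd_of (endL hFF))

end Cfsg.Agent.Omega.HOne.Final

end

-- merged: Cfsg.Agent.Mrg.Omega.IId.BigD.OtZ
section

section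


/-!
# CvBig, `q = 2`: (OT0) without Sylow hypothesis on `T`

* `kerS M` : the kernel `⨅_l N_S(V_l)`, a Sylow 2-subgroup of `⨅_l C(v_l)`;
* `Sit0.ot0` : **(OT0)**: `H ≥ kerS M` and all `W_v` imply `O₂(H) ≤ O₂(P)`.
-/

set_option autoImplicit false
set_option linter.unusedSectionVars false

namespace Cfsg.Agent.Omega.IId.NV.BigD

open Subgroup Pointwise Cfsg Cfsg.Agent.ZN Cfsg.Agent.ZN.ChoiceBase
open Cfsg.Agent.Omega.MinPar Cfsg.Agent.Omega.FFThm
open Cfsg.Agent.MinSimple.VModule (o2_isPGroup)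
open Cfsg.Agent.Omega.IId.NV
open Cfsg.Agent.Omega.IId.Big (Fr Vo conj_mem norm_of comm_of_conj conj_of_comm isPGroup_of_sq le_Vo Vo_le
  cent_of_closure KK_le_XX XX_le)
open Triangle (KK KK_conj KK_le_o2 mem_cent mem_KK mem_zpowers_iff_of_sq cent_conj o2_cent_conj)

universe u

local notation "cz" v:max => centralizer ({v} : Set _)
local notation "qz" v:max => ZN.o2 (centralizer ({v} : Set _))

variable {G : Type u} [Group G] [Finite G] {F : Type} [Field F] [Finite F] [CharP F 2] {S : Sylow 2 G}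
  {P V D : Subgroup G} {k : ℕ} {M : NatD F S P V D k}

variable (M) in
/-- the kernel of `S` on the factors -/
def kerS : Subgroup G := ⨅ l, stab M.toNatV l

variable (M) in
/-- the elements fixing all lines -/
def C0 : Subgroup G := ⨅ l, normalizer (line M.toNatV l : Set G)

theorem kerS_le (l : Fin k) : kerS M ≤ stab M.toNatV l := iInf_le _ l

namespace Sit0

variable {i : Fin k} (h : Sit0 M i)
include h

theorem kerS_le_S : kerS M ≤ (S : Subgroup G) := (kerS_le i).trans (stab_le _ i)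

theorem mem_C0 {x : G} (hx : x ∈ C0 M) {l : Fin k} {v : G} (hv : v ∈ line M.toNatV l) : x * v = v * x := by
  by_cases hv1 : v = 1
  · rw [hv1, mul_one, one_mul]
  have h1 := mem_iInf.1 hx l
  rw [normalizer_line_eq h.two hv hv1] at h1
  exact mem_cent.1 h1

theorem mem_C0_of {x : G} (hx : ∀ l, ∀ v ∈ line M.toNatV l, x * v = v * x) : x ∈ C0 M := by
  refine mem_iInf.2 fun l => ?_
  obtain ⟨v, hv, hv1⟩ := exists_line M l
  rw [normalizer_line_eq h.two hv hv1]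
  exact mem_cent.2 (hx l v hv)

theorem S_C0 : (S : Subgroup G) ≤ normalizer (C0 M : Set G) := by
  refine norm_of fun s hs x hx => h.mem_C0_of fun l v hv => ?_
  have h1 : s⁻¹ * v * s ∈ line M.toNatV (sg M.toNatV (h.SP (inv_mem hs)) l) := by
    rw [← conj_line M.toNatV h.SP (inv_mem hs) l, mem_cj_iff]
    have e : s⁻¹⁻¹ * (s⁻¹ * v * s) * s⁻¹ = v := by group
    rwa [e]
  have h2 := h.mem_C0 hx h1
  calc s * x * s⁻¹ * v = s * (x * (s⁻¹ * v * s)) * s⁻¹ := by group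
    _ = v * (s * x * s⁻¹) := by rw [h2]; group

theorem inf_C0 : (S : Subgroup G) ⊓ C0 M = kerS M := by
  apply le_antisymm
  · rintro s ⟨hs, hc⟩
    refine mem_iInf.2 fun l => ?_
    obtain ⟨v, hv, hv1⟩ := exists_line M l
    have h1 : s * v = v * s := h.mem_C0 hc hv
    have hsP := h.SP hs
    refine ⟨hs, (mem_normalizer_fac_iff M.toNatV hsP).2 ?_⟩
    by_contra hne
    refine hv1 (h.fr.disj hne (?_ : v ∈ fac M.toNatV (sg M.toNatV hsP l)) (line_le _ l hv))
    rw [← conj_fac M.toNatV hsP l, mem_cj_iff]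
    have e : s⁻¹ * v * s = v := by rw [mul_assoc, ← h1]; group
    rw [e]
    exact line_le _ l hv
  · refine le_inf h.kerS_le_S ?_
    refine le_iInf fun l => (kerS_le l).trans (stab_normalizes_line M.toNatV h.SP l)

theorem odd_C0 : ¬ 2 ∣ (kerS M).relIndex (C0 M) := by
  rw [← h.inf_C0]
  exact Cfsg.Agent.Omega.ThmC.TwoOf.not_dvd_relIndex_inf (P := (S : Subgroup G) ⊔ C0 M) le_sup_left le_sup_right
    (sup_le h.S_C0 le_normalizer) (MinSimple.Basic.not_dvd_relIndex S le_sup_left)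

/-- an element of `Q_v ∩ S` fixing all factors -/
theorem q_le_kerS {l : Fin k} {v : G} (hv : v ∈ line M.toNatV l) (hv1 : v ≠ 1) : qz v ≤ kerS M := by
  obtain ⟨h1, h2⟩ := qz_le_stab h.cc hv hv1
  exact le_iInf fun m => le_inf (h1.trans (stab_le _ l)) (h2 m)

/-- `W_v`, `v ∈ V_l`, normalises all factors -/
theorem KK_norm {l : Fin k} {v : G} (hv : v ∈ fac M.toNatV l) (hv1 : v ≠ 1) (m : Fin k) :
    KK v ≤ normalizer (fac M.toNatV m : Set G) := by
  by_cases hm : m = l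
  · subst hm
    exact (KK_le_XX hv hv1).trans (XX_V h.fr m)
  · intro g hg
    refine centralizer_le_normalizer _ (mem_centralizer_iff.2 fun x hx => ?_)
    exact (h.fr.Qc l m hm v hv hv1 g (h.fr.KK_le_q hv hv1 hg) x hx).symm

/-- a 2-subgroup `N` normalising all factors and normalised by all `W_v` centralises all factors -/
theorem cent_fac {N : Subgroup G} (hN2 : IsPGroup 2 N) (hN : ∀ l, N ≤ normalizer (fac M.toNatV l : Set G))
    {l : Fin k} (hKK : ∀ v ∈ fac M.toNatV l, v ≠ 1 → KK v ≤ normalizer (N : Set G)) :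
    N ≤ centralizer (fac M.toNatV l : Set G) := by
  obtain ⟨v, hv, hv1⟩ := exists_line M l
  have hvi := line_le _ l hv
  have hV2 : IsPGroup 2 (fac M.toNatV l) := isPGroup_of_sq fun x hx => h.fr.sq l x hx
  have hne : fac M.toNatV l ≠ ⊥ := fun h0 => hv1 (by rwa [h0, mem_bot] at hvi)
  obtain ⟨w, hw, hw1, hwN⟩ := Half.exists_fixed hV2 hne hN2 (hN l)
  intro x hx
  rw [mem_centralizer_iff]
  intro u hu
  by_cases hu1 : u = 1
  · rw [hu1, one_mul, mul_one]
  obtain ⟨d, hd, hdu⟩ := XX_trans h.fr hw hu hw1 hu1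
  have hdN : d ∈ normalizer (N : Set G) := (XX_le fun v hv hv1 => hKK v hv hv1) hd
  have h1 : d⁻¹ * x * d ∈ N := by
    have := (mem_normalizer_iff.1 (inv_mem hdN) x).1 hx
    rwa [inv_inv] at this
  have h2 := comm_of_conj (hwN _ h1)
  rw [← hdu]
  calc d * w * d⁻¹ * x = d * (w * (d⁻¹ * x * d)) * d⁻¹ := by group
    _ = x * (d * w * d⁻¹) := by rw [← h2]; group

/-- **(OT0)** -/
theorem ot0 {H : Subgroup G} (hk : kerS M ≤ H) (hKK : ∀ l, ∀ v ∈ fac M.toNatV l, v ≠ 1 → KK v ≤ H) :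
    ZN.o2 H ≤ ZN.o2 P := by
  have hfact : Fact (Nat.Prime 2) := ⟨Nat.prime_two⟩
  have hO2 : IsPGroup 2 (ZN.o2 H) := o2_isPGroup H
  have hHO := le_normalizer_o2 H
  have hk2 : IsPGroup 2 (kerS M) := S.isPGroup'.to_le h.kerS_le_S
  have hkC : kerS M ≤ C0 M := by rw [← h.inf_C0]; exact inf_le_right
  set O₀ := ZN.o2 H ⊓ C0 M with hO₀
  have hO₀2 : IsPGroup 2 O₀ := hO2.to_le inf_le_left
  have hkO₀ : kerS M ≤ normalizer (O₀ : Set G) := norm_of fun t ht x hx =>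
    ⟨conj_mem hHO (hk ht) hx.1, mul_mem (mul_mem (hkC ht) hx.2) ((C0 M).inv_mem (hkC ht))⟩
  have hO₀k : O₀ ≤ kerS M := HT.LemE.le_of_odd hk2 hkC h.odd_C0 hO₀2 inf_le_right hkO₀
  -- `O₀` centralises all factors
  set N := ZN.o2 H ⊓ ⨅ l, normalizer (fac M.toNatV l : Set G) with hNdef
  have hNn : ∀ l, N ≤ normalizer (fac M.toNatV l : Set G) := fun l => inf_le_right.trans (iInf_le _ l)
  have hNK : ∀ l, ∀ v ∈ fac M.toNatV l, v ≠ 1 → KK v ≤ normalizer (N : Set G) := by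
    intro l v hv hv1
    refine norm_of fun g hg x hx => ⟨conj_mem hHO (hKK l v hv hv1 hg) hx.1, mem_iInf.2 fun m => ?_⟩
    have hgm := h.KK_norm hv hv1 m hg
    exact mul_mem (mul_mem hgm (mem_iInf.1 hx.2 m)) (inv_mem hgm)
  have hNc : ∀ l, N ≤ centralizer (fac M.toNatV l : Set G) := fun l =>
    h.cent_fac (hO2.to_le inf_le_left) hNn (hNK l)
  have hO₀N : O₀ ≤ N := le_inf inf_le_left (le_iInf fun l => hO₀k.trans ((kerS_le l).trans (stab_normalizes _ l)))
  have hO₀Z : ∀ x ∈ O₀, ∀ z ∈ zc (o2 P), x * z = z * x := fun x hx z hz =>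
    h.comm_of_fac (h.SP (h.kerS_le_S (hO₀k hx)))
      (fun l v hv => (mem_centralizer_iff.1 (hNc l (hO₀N hx)) v hv).symm) hz
  have hO₀P : O₀ ≤ ZN.o2 P := by
    rw [← MinPar.IsParS.inf_centralizer S h.c2 h.par]
    exact le_inf (hO₀k.trans h.kerS_le_S) fun x hx => mem_centralizer_iff.2 fun z hz =>
      (hO₀Z x hx z (zl_le_zz M hz)).symm
  -- suppose `O > O₀`
  by_contra hcon
  have hlt : O₀ < ZN.o2 H := by
    refine lt_of_le_of_ne inf_le_left fun e => hcon ?_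
    rw [← e]
    exact hO₀P
  have hlt2 := Lib.GoldschmidtFusion.lt_inf_normalizer hO2 hlt
  obtain ⟨w, hw, hwO₀, hwT⟩ := SideOf.exists_fixed_mod (T := kerS M) (not_le_of_gt hlt2) inf_le_right
    (hO2.to_le inf_le_left) hk2 hkO₀ (norm_of fun t ht x hx =>
      ⟨conj_mem hHO (hk ht) hx.1, mul_mem (mul_mem (hkO₀ ht) hx.2)
        ((normalizer (O₀ : Set G)).inv_mem (hkO₀ ht))⟩)
  have hPk : o2 P ≤ kerS M := by
    refine le_iInf fun l => le_inf (o2_le_S M) (norm_of fun x hx v hv => ?_)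
    rw [((ZN.mem_zc.1 (V_le_zz M (NV.fac_le _ l hv))).2.1 x hx), mul_inv_cancel_right]
    exact hv
  -- `w` normalises `Q`
  have hwQ : ∀ q ∈ ZN.o2 P, w * q * w⁻¹ ∈ ZN.o2 P := by
    intro q hq
    have h1 := hwT q (hPk hq)
    have e : w * q * w⁻¹ = (q * w * q⁻¹ * w⁻¹)⁻¹ * q := by group
    rw [e]
    exact mul_mem (inv_mem (hO₀P h1)) hq
  have hwn : w ∈ normalizer (ZN.o2 P : Set G) := IITwo.Count.mem_norm hwQ
  have hwY : ∀ z ∈ zc (ZN.o2 P), w * z * w⁻¹ ∈ zc (ZN.o2 P) := fun z hz =>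
    conj_mem (normalizer_le_normalizer_zc _) hwn hz
  have hwn' : ∀ x ∈ O₀, w⁻¹ * x * w ∈ O₀ := fun x hx => by
    have := (mem_normalizer_iff.1 (inv_mem hw.2) x).1 hx
    rwa [inv_inv] at this
  apply hwO₀
  refine ⟨hw.1, h.mem_C0_of fun l v hv => ?_⟩
  by_cases hv1 : v = 1
  · rw [hv1, mul_one, one_mul]
  have hvl := line_le _ l hv
  obtain ⟨b, hb, hb1, hvb⟩ := h.fr.exists_other (i := l) v
  obtain ⟨a, ha, hab⟩ := h.fr.move hvl hb hv1 hb1 hvb
  have hak : a ∈ kerS M := h.q_le_kerS hv hv1 (h.fr.KK_le_q hvl hv1 ha)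
  have hbY : b ∈ zc (ZN.o2 P) := V_le_zz M (NV.fac_le _ l hb)
  have hvY : v ∈ zc (ZN.o2 P) := V_le_zz M (NV.fac_le _ l hvl)
  have ho : w * a * w⁻¹ * a⁻¹ ∈ O₀ := by
    have h1 := inv_mem (hwT a hak)
    have e : (a * w * a⁻¹ * w⁻¹)⁻¹ = w * a * w⁻¹ * a⁻¹ := by group
    rwa [e] at h1
  have hOy : ∀ o ∈ O₀, o * (w * b * w⁻¹) = w * b * w⁻¹ * o := fun o ho => hO₀Z o ho _ (hwY b hbY)
  have hOv : ∀ o ∈ O₀, o * v = v * o := fun o ho => hO₀Z o ho v hvY
  have key : w * v * w⁻¹ = (w * a * w⁻¹ * a⁻¹) * (a * (w * b * w⁻¹) * a⁻¹) * (w * a * w⁻¹ * a⁻¹)⁻¹ *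
      (w * b * w⁻¹)⁻¹ := by
    have e : v = a * b * a⁻¹ * b⁻¹ := by rw [hab, mul_inv_cancel_right]
    calc w * v * w⁻¹ = w * (a * b * a⁻¹ * b⁻¹) * w⁻¹ := by rw [← e]
      _ = _ := by group
  rcases h.fr.KK_act hvl ha (h.zz_q hvl hv1 (hwY b hbY)) with h1 | h1
  · rw [h1, hOy _ ho, mul_inv_cancel_right, mul_inv_cancel] at key
    exact (hv1 (by
      calc v = w⁻¹ * (w * v * w⁻¹) * w := by group
        _ = 1 := by rw [key]; group)).elim
  · rw [h1] at key
    have h2 : (w * a * w⁻¹ * a⁻¹) * (v * (w * b * w⁻¹)) = v * (w * b * w⁻¹) * (w * a * w⁻¹ * a⁻¹) := by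
      calc (w * a * w⁻¹ * a⁻¹) * (v * (w * b * w⁻¹)) = ((w * a * w⁻¹ * a⁻¹) * v) * (w * b * w⁻¹) := by group
        _ = v * ((w * a * w⁻¹ * a⁻¹) * (w * b * w⁻¹)) := by rw [hOv _ ho]; group
        _ = _ := by rw [hOy _ ho]; group
    rw [h2, mul_inv_cancel_right, mul_inv_cancel_right] at key
    exact comm_of_conj key

/-- **(OT0)**: moreover `Ω₁Z(O₂(P)) ≤ Z(O₂(H))` if `H` has characteristic 2 and contains `Ω₁Z(O₂(P))` -/
theorem ot0_z {H : Subgroup G} (hk : kerS M ≤ H) (hKK : ∀ l, ∀ v ∈ fac M.toNatV l, v ≠ 1 → KK v ≤ H)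
    (hc : H ⊓ centralizer (ZN.o2 H : Set G) ≤ ZN.o2 H) : zc (ZN.o2 P) ≤ ZN.o2 H := by
  have hPk : o2 P ≤ kerS M := by
    refine le_iInf fun l => le_inf (o2_le_S M) (norm_of fun x hx v hv => ?_)
    rw [((ZN.mem_zc.1 (V_le_zz M (NV.fac_le _ l hv))).2.1 x hx), mul_inv_cancel_right]
    exact hv
  intro z hz
  refine hc ⟨hk (hPk (ZN.zc_le _ hz)), mem_centralizer_iff.2 fun x hx => ?_⟩
  exact (ZN.mem_zc.1 hz).2.1 x (h.ot0 hk hKK hx)

end Sit0

end Cfsg.Agent.Omega.IId.NV.BigD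

end

section


/-!
# CvBig, `q = 2`, `V_i` unmixed: LEMMA E without Sylow hypothesis on `T`

* `Ins0.core` : `1 ≠ K' ≤ Ω₁Z(Q_v) ∩ C(X)`, `⟨v⟩ × K'` normalised by `C(v)`: `Ω₁Z(Q_v) ≤ ⟨v⟩ × C(X)`;
* `Ins0.le` : **LEMMA E**.
-/

set_option autoImplicit false
set_option linter.unusedSectionVars false

namespace Cfsg.Agent.Omega.IId.NV.BigD

open Subgroup Pointwise Cfsg Cfsg.Agent.ZN Cfsg.Agent.ZN.ChoiceBase
open Cfsg.Agent.Omega.MinPar Cfsg.Agent.Omega.FFThm
open Cfsg.Agent.MinSimple.VModule (o2_isPGroup)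
open Cfsg.Agent.Omega.IId.NV
open Cfsg.Agent.Omega.IId.Big (Fr Vo conj_mem norm_of comm_of_conj conj_of_comm isPGroup_of_sq le_Vo Vo_le
  cent_of_closure KK_le_XX XX_le)
open Triangle (KK KK_conj KK_le_o2 mem_cent mem_KK mem_zpowers_iff_of_sq cent_conj o2_cent_conj)
open Cfsg.Agent.Omega.BTwo (BT BTS WW QQ CenX pt)

universe u

local notation "cz" v:max => centralizer ({v} : Set _)
local notation "qz" v:max => ZN.o2 (centralizer ({v} : Set _))

section noA

variable {G : Type*} [Group G] [Finite G] {κ : Type*} {V : Subgroup G} {R : κ → Subgroup G}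

/-- no four-group `A ≤ C(X)` in a subgroup `E ≤ R C(X)` normalised by `N(R)` with `r ∈ Z(O₂(C(y)))` for `y ∈ A#` -/
theorem no_A (b : BTS V R) {i : κ} {r : G} (hr : ∀ x ∈ R i, x = 1 ∨ x = r) (hri : r ∈ R i)
    (hnc : ∃ k ∈ normalizer (R i : Set G), ∃ v ∈ V, ∃ w ∈ V, v * (k * w * k⁻¹) ≠ k * w * k⁻¹ * v)
    {E A : Subgroup G} (hKE : normalizer (R i : Set G) ≤ normalizer (E : Set G))
    (hEm : ∀ e ∈ E, e ∈ CenX V R ∨ r * e ∈ CenX V R) (hAE : A ≤ E) (hAX : A ≤ CenX V R)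
    (hA3 : ∃ y ∈ A, ∃ y' ∈ A, y ≠ 1 ∧ y' ≠ 1 ∧ y * y' ≠ 1) (hAg : ∀ y ∈ A, y ≠ 1 → HT.LemE.Good r y) : False := by
  have hr1 : r ≠ 1 := by
    rintro rfl
    refine b.R_ne i ((eq_bot_iff_forall _).2 fun x hx => ?_)
    rcases hr x hx with h | h <;> exact h
  have hrr : r * r = 1 := b.V_sq r (b.R_le i hri)
  have hKr : ∀ k ∈ normalizer (R i : Set G), k * r = r * k := by
    intro k hk
    have h1 := (mem_normalizer_iff.1 hk r).1 hri
    rcases hr _ h1 with h | h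
    · exact (cj_ne_one hr1 h).elim
    · exact comm_of_conj h
  obtain ⟨k0, hk0, v0, hv0, w0, hw0, hne⟩ := hnc
  have hEk : ∀ e ∈ E, e ∈ centralizer (BTwo.cj k0 (BTwo.XX V R) : Set G) ∨
      r * e ∈ centralizer (BTwo.cj k0 (BTwo.XX V R) : Set G) := by
    intro e he
    have h1 : k0⁻¹ * e * k0 ∈ E := by
      have := (mem_normalizer_iff.1 (inv_mem (hKE hk0)) e).1 he
      rwa [inv_inv] at this
    rw [BTwo.centralizer_cj, BTwo.mem_cj, BTwo.mem_cj]
    rcases hEm _ h1 with h2 | h2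
    · exact Or.inl h2
    · right
      have h3 : k0⁻¹ * (r * e) * k0 = r * (k0⁻¹ * e * k0) := by
        have h4 : k0⁻¹ * r = r * k0⁻¹ := by
          rw [inv_mul_eq_iff_eq_mul, ← mul_assoc, hKr k0 hk0, mul_inv_cancel_right]
        calc k0⁻¹ * (r * e) * k0 = (k0⁻¹ * r) * e * k0 := by group
          _ = _ := by rw [h4]; group
      rw [h3]; exact h2
  have ab : ∀ f : G, ∀ a ∈ ZN.o2 (centralizer ({f} : Set G)) ⊓
      centralizer (ZN.o2 (centralizer ({f} : Set G)) : Set G),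
      ∀ c ∈ ZN.o2 (centralizer ({f} : Set G)) ⊓ centralizer (ZN.o2 (centralizer ({f} : Set G)) : Set G),
      a * c = c * a := fun f a ha c hc => mem_centralizer_iff.1 hc.2 a ha.1
  obtain ⟨y, hy, y', hy', y1, y1', y1''⟩ := hA3
  have hfin : ∀ z ∈ A, z ≠ 1 → z ∈ centralizer (BTwo.cj k0 (BTwo.XX V R) : Set G) → False := by
    intro z hz hz1 hzk
    have g1 := hAg z hz hz1
    have h1 := HT.LemE.cj_le b.toBT hr g1 (hKr k0 hk0) hzk (BTwo.conj_mem_cj hw0)
    have h2 : z ∈ centralizer (BTwo.cj 1 (BTwo.XX V R) : Set G) := by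
      rw [BTwo.cj_one]; exact hAX hz
    have h3 := HT.LemE.cj_le b.toBT hr g1 (by rw [one_mul, mul_one]) h2 (by rw [BTwo.cj_one]; exact hv0)
    exact hne (ab z _ h3 _ h1)
  rcases hEk y (hAE hy) with h | h
  · exact hfin y hy y1 h
  rcases hEk y' (hAE hy') with h' | h'
  · exact hfin y' hy' y1' h'
  refine hfin (y * y') (mul_mem hy hy') y1'' ?_
  have hry : r * y = y * r := mem_centralizer_iff.1 (b.CenX_le_cen (hAX hy)) r (b.R_le i hri)
  have e1 : r * y * (r * y') = y * y' := by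
    calc r * y * (r * y') = (r * y) * r * y' := by group
      _ = y * (r * r) * y' := by rw [hry]; group
      _ = y * y' := by rw [hrr, mul_one]
  rw [← e1]
  exact mul_mem h h'

end noA

section frame

variable {G : Type u} [Group G] [Finite G] {F : Type} [Field F] [Finite F] [CharP F 2] {S : Sylow 2 G}
  {P V D : Subgroup G} {k : ℕ} {M : NatD F S P V D k}

namespace Ins0

variable {i : Fin k} {κ : Type*} {R : κ → Subgroup G} {o : κ} (h : Ins0 M i R o)
include h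

/-- the core of LEMMA E -/
theorem core {r : G} (hr : r ∈ line M.toNatV i) (hr1 : r ≠ 1) {K : Subgroup G} (hKq : K ≤ zc (qz r))
    (hKX : K ≤ CenX (fac M.toNatV i) R) (hne : K ≠ ⊥) (hT : kerS M ≤ normalizer (K : Set G))
    (hKK : ∀ l, l ≠ i → ∀ v ∈ fac M.toNatV l, v ≠ 1 → KK v ≤ normalizer (K : Set G))
    (hH : cz r ≤ normalizer ((line M.toNatV i ⊔ K : Subgroup G) : Set G)) {u : G} (hu : u ∈ zc (qz r)) :
    u ∈ CenX (fac M.toNatV i) R ∨ r * u ∈ CenX (fac M.toNatV i) R := by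
  have hri := line_le _ i hr
  have hXK : BTwo.XX (fac M.toNatV i) R ≤ centralizer (K : Set G) := fun x hx =>
    mem_centralizer_iff.2 fun y hy => (mem_centralizer_iff.1 (hKX hy) x hx).symm
  have hqK : qz r ≤ centralizer (K : Set G) := fun x hx =>
    mem_centralizer_iff.2 fun y hy => ((ZN.mem_zc.1 (hKq hy)).2.1 x hx).symm
  have hKKi : ∀ v ∈ fac M.toNatV i, v ≠ 1 → KK v ≤ centralizer (K : Set G) := by
    intro v hv hv1 g hg
    obtain ⟨d, hd, hdv⟩ := h.trans_V hv hri hv1 hr1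
    have h1 : d * g * d⁻¹ ∈ centralizer (K : Set G) := by
      refine hqK (h.fr.KK_le_q hri hr1 ?_)
      have := KK_conj (h := d) hg
      rwa [hdv] at this
    have h2 := hXK hd
    have e : g = d⁻¹ * (d * g * d⁻¹) * d := by group
    rw [e]
    exact mul_mem (mul_mem (inv_mem h2) h1) h2
  -- `O := O₂(C(K))`
  set O := ZN.o2 (centralizer (K : Set G)) with hO
  have hON : centralizer (K : Set G) ≤ normalizer (O : Set G) := le_normalizer_o2 _
  have hO2 : IsPGroup 2 O := o2_isPGroup _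
  have hOP : O ≤ ZN.o2 P := by
    refine le_trans ?_ (h.toSit0.ot0 (H := normalizer (K : Set G)) hT fun l v hv hv1 => ?_)
    · refine le_o2 ((o2_le _).trans (centralizer_le_normalizer _)) hO2 ?_
      exact (Omega.NOne.LemmaT.normalizer_le_normalizer_centralizer K).trans (normalizer_le_normalizer_o2 _)
    · by_cases hl : l = i
      · subst hl
        exact (hKKi v hv hv1).trans (centralizer_le_normalizer _)
      · exact hKK l hl v hv hv1
  have hOV : ∀ x ∈ O, ∀ v ∈ V, x * v = v * x := fun x hx v hv => (ZN.mem_zc.1 (V_le_zz M hv)).2.1 x (hOP hx)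
  set K₁ := line M.toNatV i ⊔ K with hK₁
  have hK₁K : centralizer (K₁ : Set G) ≤ centralizer (K : Set G) := centralizer_le (show K ≤ K₁ from le_sup_right)
  have hK₁r : centralizer (K₁ : Set G) ≤ cz r := fun x hx =>
    mem_cent.2 (mem_centralizer_iff.1 hx r ((le_sup_left : line M.toNatV i ≤ K₁) hr)).symm
  have hOK₁ : O ≤ centralizer (K₁ : Set G) := by
    intro x hx
    have h1 : K₁ ≤ cz x := by
      refine sup_le (fun y hy => mem_cent.2 (hOV x hx y (NV.fac_le _ i (line_le _ i hy))).symm) fun y hy => ?_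
      exact mem_cent.2 (mem_centralizer_iff.1 ((o2_le _) hx) y hy)
    exact mem_centralizer_iff.2 fun y hy => mem_cent.1 (h1 hy)
  have hOq : O ≤ qz r := by
    have h1 : O ≤ ZN.o2 (centralizer (K₁ : Set G)) := le_o2 hOK₁ hO2 (hK₁K.trans hON)
    refine h1.trans (le_o2 ((o2_le _).trans hK₁r) (o2_isPGroup _) ?_)
    exact (hH.trans (Omega.NOne.LemmaT.normalizer_le_normalizer_centralizer K₁)).trans
      (normalizer_le_normalizer_o2 _)
  have hK2 : IsPGroup 2 K := (o2_isPGroup _).to_le (hKq.trans (ZN.zc_le _))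
  have hchar := Omega.NOne.LemmaT.char2_centralizer h.c2 hK2 hne
  have hzO : zc (qz r) ≤ O := fun z hz => hchar ⟨hqK (ZN.zc_le _ hz), mem_centralizer_iff.2 fun x hx =>
    (ZN.mem_zc.1 hz).2.1 x (hOq hx)⟩
  -- `Ω₁Z(Q_r) ≤ Q_b` for all `b ∈ V_i#`
  have hub : ∀ b ∈ fac M.toNatV i, b ≠ 1 → u ∈ qz b := by
    intro b hb hb1
    obtain ⟨d, hd, hdb⟩ := h.trans_V hb hri hb1 hr1
    have h1 : d * u * d⁻¹ ∈ qz r := hOq (conj_mem hON (hXK hd) (hzO hu))
    have h2 : d⁻¹ * (d * u * d⁻¹) * d⁻¹⁻¹ ∈ qz (d⁻¹ * r * d⁻¹⁻¹) := by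
      rw [o2_cent_conj]
      exact ⟨_, h1, rfl⟩
    have e1 : d⁻¹ * (d * u * d⁻¹) * d⁻¹⁻¹ = u := by group
    have e2 : d⁻¹ * r * d⁻¹⁻¹ = b := by rw [← hdb]; group
    rwa [e1, e2] at h2
  have hfr := h.fr
  have hrz : ∀ z ∈ zc (qz r), ∀ x ∈ qz r, x * z = z * x := fun z hz => (ZN.mem_zc.1 hz).2.1
  have hrr : r * r = 1 := hfr.sq i r hri
  have hrq : r ∈ zc (qz r) := ZN.mem_zc.2 ⟨hfr.VQ i i r hri hr1 hri, fun x hx =>
    mem_cent.1 ((o2_le _) hx), by rw [pow_two]; exact hrr⟩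
  obtain ⟨b, hb, hb1, hrb⟩ := hfr.exists_other (i := i) r
  obtain ⟨a, ha, hab⟩ := hfr.move hri hb hr1 hb1 hrb
  obtain ⟨c, hc, hcr⟩ := hfr.move hb hri hb1 hr1 (Ne.symm hrb)
  have haq := hfr.KK_le_q hri hr1 ha
  have hbr : b * r = r * b := hfr.comm i i b hb r hri
  have hbb : b * b = 1 := hfr.sq i b hb
  have claim1 : ∀ g ∈ KK b, g * r = r * g → g * u = u * g := by
    intro g hg hgr
    rcases hfr.KK_act hb hg (hub b hb hb1) with h1 | h1
    · exact comm_of_conj h1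
    · exfalso
      have h2 : g * u * g⁻¹ ∈ zc (qz r) :=
        conj_mem ((le_normalizer_o2 _).trans (normalizer_le_normalizer_zc _)) (mem_cent.2 hgr) hu
      rw [h1] at h2
      have h3 : b ∈ zc (qz r) := (mul_mem_cancel_right hu).1 h2
      have h4 := hrz b h3 a haq
      rw [h4, mul_inv_cancel_right] at hab
      exact hr1 (mul_eq_right.1 hab.symm)
  have hdich : ∀ g ∈ KK b, g * r = r * g ∨ (c⁻¹ * g) * r = r * (c⁻¹ * g) := by
    intro g hg
    rcases hfr.KK_act hb hg (hfr.VQ i i b hb hb1 hri) with h1 | h1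
    · exact Or.inl (comm_of_conj h1)
    · right
      have h2 : g * r = b * r * g := by rw [← h1]; group
      have h3 : c⁻¹ * (b * r) = r * c⁻¹ := by rw [← hcr]; group
      calc c⁻¹ * g * r = c⁻¹ * (g * r) := by group
        _ = c⁻¹ * (b * r) * g := by rw [h2]; group
        _ = r * (c⁻¹ * g) := by rw [h3]; group
  have claim2 : ∃ w, (w = u ∨ w = r * u) ∧ ∀ g ∈ KK b, g * w = w * g := by
    rcases hfr.KK_act hb hc (hub b hb hb1) with h1 | h1
    · refine ⟨u, Or.inl rfl, fun g hg => ?_⟩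
      rcases hdich g hg with h2 | h2
      · exact claim1 g hg h2
      · have h3 := claim1 _ (mul_mem (inv_mem hc) hg) h2
        have h4 := comm_of_conj h1
        calc g * u = c * (c⁻¹ * g * u) := by group
          _ = (c * u) * (c⁻¹ * g) := by rw [h3]; group
          _ = u * g := by rw [h4]; group
    · have h4 : c * (r * u) = r * u * c := by
        apply comm_of_conj
        calc c * (r * u) * c⁻¹ = (c * r * c⁻¹) * (c * u * c⁻¹) := by group
          _ = (b * r) * b * u := by rw [hcr, h1]; group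
          _ = r * (b * b) * u := by rw [hbr]; group
          _ = r * u := by rw [hbb, mul_one]
      refine ⟨r * u, Or.inr rfl, fun g hg => ?_⟩
      rcases hdich g hg with h2 | h2
      · have h3 := claim1 g hg h2
        calc g * (r * u) = (g * r) * u := by group
          _ = r * (g * u) := by rw [h2]; group
          _ = r * u * g := by rw [h3]; group
      · have h3 := claim1 _ (mul_mem (inv_mem hc) hg) h2
        have h5 : c⁻¹ * g * (r * u) = r * u * (c⁻¹ * g) := by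
          calc c⁻¹ * g * (r * u) = (c⁻¹ * g * r) * u := by group
            _ = r * (c⁻¹ * g * u) := by rw [h2]; group
            _ = r * u * (c⁻¹ * g) := by rw [h3]; group
        calc g * (r * u) = c * (c⁻¹ * g * (r * u)) := by group
          _ = (c * (r * u)) * (c⁻¹ * g) := by rw [h5]; group
          _ = r * u * g := by rw [h4]; group
  obtain ⟨w, hw, hwb⟩ := claim2
  have hwq : w ∈ zc (qz r) := by
    rcases hw with rfl | rfl
    · exact hu
    · exact mul_mem hrq hu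
  have hwX : w ∈ CenX (fac M.toNatV i) R := by
    refine h.mem_cenX fun v hv hv1 g hg => ?_
    rcases hfr.cases4 hri hb hr1 hb1 hrb hv with rfl | rfl | rfl | rfl
    · exact (hv1 rfl).elim
    · exact hrz w hwq g (hfr.KK_le_q hri hr1 hg)
    · exact hwb g hg
    · have h1 := KK_conj (h := a⁻¹) hg
      have e1 : a⁻¹ * (r * b) * a⁻¹⁻¹ = b := by rw [← hab]; group
      rw [e1, inv_inv] at h1
      have h2 := hwb _ h1
      have h3 := hrz w hwq a haq
      calc g * w = a * (a⁻¹ * g * a) * (a⁻¹ * w) := by group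
        _ = a * (a⁻¹ * g * a) * (w * a⁻¹) := by
            rw [show a⁻¹ * w = w * a⁻¹ by rw [inv_mul_eq_iff_eq_mul, ← mul_assoc, h3, mul_inv_cancel_right]]
        _ = a * ((a⁻¹ * g * a) * w) * a⁻¹ := by group
        _ = (a * w) * (a⁻¹ * g * a) * a⁻¹ := by rw [h2]; group
        _ = w * g := by rw [h3]; group
  rcases hw with rfl | rfl
  · exact Or.inl hwX
  · exact Or.inr hwX

/-- **LEMMA E** (no Sylow hypothesis) -/
theorem le (hu : Unm M i) (j : κ) : HTwo.ThmA.LE (fac M.toNatV i) R j := by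
  have hfact : Fact (Nat.Prime 2) := ⟨Nat.prime_two⟩
  obtain ⟨r, hr, hr1⟩ := exists_line M i
  have hri := line_le _ i hr
  have hfr := h.fr
  have hrr : r * r = 1 := hfr.sq i r hri
  have hRo : R o = line M.toNatV i := h.ro
  have hNL : normalizer (R o : Set G) = cz r := by rw [hRo]; exact h.norm_line hr hr1
  have hR : ∀ x ∈ R o, x = 1 ∨ x = r := fun x hx => eq_of_line h.two hr hr1 (by rwa [← hRo])
  have hrR : r ∈ R o := by rw [hRo]; exact hr
  have hrz : ∀ z ∈ zc (qz r), ∀ x ∈ qz r, x * z = z * x := fun z hz => (ZN.mem_zc.1 hz).2.1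
  have hrq : r ∈ zc (qz r) := ZN.mem_zc.2 ⟨hfr.VQ i i r hri hr1 hri, fun x hx =>
    mem_cent.1 ((o2_le _) hx), by rw [pow_two]; exact hrr⟩
  refine HTwo.ThmA.le_all h.bts.toBT (i := o) (fun Λ hΛ hN => ?_) j
  by_contra hΛR
  set X₀ := CenX (fac M.toNatV i) R with hX₀
  set E := R o ⊔ Λ with hE
  have hKE : cz r ≤ normalizer (E : Set G) := by
    intro k hk
    rw [← hNL] at hk
    rw [← BTwo.cj_eq_self_iff, hE, BTwo.cj_sup, BTwo.cj_eq_self_iff.2 hk, BTwo.cj_eq_self_iff.2 (hN hk)]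
  have hEm : ∀ l ∈ E, ∃ a ∈ R o, a * l ∈ X₀ := by
    intro l hl
    have h1 : E ≤ HTwo.Par.RC h.bts.toBT o := by
      refine sup_le (fun a ha => ⟨a⁻¹, inv_mem ha, ?_⟩) hΛ
      rw [inv_mul_cancel]
      exact one_mem _
    exact h1 hl
  have hE0 : E ⊓ X₀ ≠ ⊥ := by
    intro h
    apply hΛR
    intro x hx
    obtain ⟨a, ha, hm⟩ := hΛ x hx
    have h1 : a * x ∈ E ⊓ X₀ :=
      ⟨mul_mem ((le_sup_left : R o ≤ E) ha) ((le_sup_right : Λ ≤ E) hx), hm⟩
    rw [h, mem_bot, mul_eq_one_iff_eq_inv] at h1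
    have h2 : x = a⁻¹ := by rw [h1, inv_inv]
    rw [h2]; exact inv_mem ha
  have hE2 : IsPGroup 2 (E ⊓ X₀ : Subgroup G) := h.bts.CenX_isPGroup.to_le inf_le_right
  -- `N(V_i) ∩ C(r)` normalises `E ∩ C(X)`
  have hNX : ∀ g ∈ cz r, g ∈ normalizer (fac M.toNatV i : Set G) →
      g ∈ normalizer (X₀ : Set G) := fun g _ hg => h.bts.NV_le_NCenX hg
  have hNE : ∀ g ∈ cz r, g ∈ normalizer (fac M.toNatV i : Set G) →
      g ∈ normalizer ((E ⊓ X₀ : Subgroup G) : Set G) := fun g h1 h2 => by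
    rw [← BTwo.cj_eq_self_iff, BTwo.cj_inf, BTwo.cj_eq_self_iff.2 (hKE h1), BTwo.cj_eq_self_iff.2 (hNX g h1 h2)]
  have hqE : qz r ≤ normalizer ((E ⊓ X₀ : Subgroup G) : Set G) := fun g hg =>
    hNE g ((o2_le _) hg) (h.T_V (h.q_T hr hr1 hg))
  -- the subgroup `K`
  set K := zc (qz r) ⊓ (E ⊓ X₀) with hK
  have hKne : K ≠ ⊥ := by
    obtain ⟨e, he, he1, hee⟩ := Half.exists_fixed hE2 hE0 (o2_isPGroup _) hqE
    obtain ⟨n, hn⟩ := hE2 ⟨e, he⟩
    have hn' : e ^ 2 ^ n = 1 := congrArg Subtype.val hn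
    -- a power of `e` of order 2
    obtain ⟨m, hm, hm1⟩ : ∃ m : ℕ, e ^ 2 ^ m * e ^ 2 ^ m = 1 ∧ e ^ 2 ^ m ≠ 1 := by
      have hex : ∃ n, e ^ 2 ^ n = 1 := ⟨n, hn'⟩
      classical
      have h1 := Nat.find_spec hex
      have h0 : Nat.find hex ≠ 0 := by
        intro h0
        rw [h0, pow_zero, pow_one] at h1
        exact he1 h1
      obtain ⟨m, hm⟩ := Nat.exists_eq_succ_of_ne_zero h0
      refine ⟨m, ?_, Nat.find_min hex (by omega)⟩
      rw [hm, pow_succ, pow_mul] at h1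
      rw [← pow_two]; exact h1
    have hfE : e ^ 2 ^ m ∈ E ⊓ X₀ := pow_mem he _
    have hfc : ∀ x ∈ qz r, x * e ^ 2 ^ m = e ^ 2 ^ m * x := fun x hx =>
      ((show Commute x e from comm_of_conj (hee x hx)).pow_right _).eq
    have hfr' : e ^ 2 ^ m ∈ cz r := mem_cent.2
      ((mem_centralizer_iff.1 (h.bts.CenX_le_cen hfE.2) r hri).symm)
    have hfq : e ^ 2 ^ m ∈ qz r := Big.Supply.cz_char2 h.c2 hrr hr1
      ⟨hfr', mem_centralizer_iff.2 fun x hx => hfc x hx⟩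
    intro h0
    apply hm1
    rw [← mem_bot, ← h0]
    exact ⟨ZN.mem_zc.2 ⟨hfq, hfc, by rw [pow_two]; exact hm⟩, hfE⟩
  have hczq : cz r ≤ normalizer (zc (qz r) : Set G) := (le_normalizer_o2 _).trans (normalizer_le_normalizer_zc _)
  have hNK : ∀ g ∈ cz r, g ∈ normalizer (fac M.toNatV i : Set G) → g ∈ normalizer (K : Set G) := fun g h1 h2 => by
    rw [← BTwo.cj_eq_self_iff, hK, BTwo.cj_inf, BTwo.cj_eq_self_iff.2 (hczq h1), BTwo.cj_eq_self_iff.2 (hNE g h1 h2)]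
  have hKX : K ≤ X₀ := inf_le_right.trans inf_le_right
  have hK₁ : line M.toNatV i ⊔ K = zc (qz r) ⊓ E := by
    apply le_antisymm
    · refine sup_le (fun x hx => ?_) (inf_le_inf le_rfl inf_le_left)
      rcases eq_of_line h.two hr hr1 hx with rfl | rfl
      · exact one_mem _
      · exact ⟨hrq, (le_sup_left : R o ≤ E) hrR⟩
    · rintro x ⟨hx, hxE⟩
      obtain ⟨a, ha, hax⟩ := hEm x hxE
      have haq : a ∈ zc (qz r) := by
        rcases hR a ha with rfl | rfl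
        · exact one_mem _
        · exact hrq
      have h1 : a * x ∈ K := ⟨mul_mem haq hx, mul_mem ((le_sup_left : R o ≤ E) ha) hxE, hax⟩
      have e : x = a⁻¹ * (a * x) := by group
      rw [e]
      exact mul_mem ((le_sup_left : line M.toNatV i ≤ _) (inv_mem (by rwa [← hRo])))
        ((le_sup_right : K ≤ _) h1)
  have hcore : ∀ u ∈ zc (qz r), u ∈ X₀ ∨ r * u ∈ X₀ := fun u huq => by
    refine h.core hr hr1 inf_le_left hKX hKne (fun t ht => ?_) (fun l hl v hv hv1 g hg => ?_) ?_ huq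
    · exact hNK t (h.T_cz hr (kerS_le i ht)) (h.T_V (kerS_le i ht))
    · have h1 : ∀ x ∈ fac M.toNatV i, g * x = x * g := fun x hx =>
        hfr.Qc l i (Ne.symm hl) v hv hv1 g (hfr.KK_le_q hv hv1 hg) x hx
      exact hNK g (mem_cent.2 (h1 r hri)) (centralizer_le_normalizer _
        (mem_centralizer_iff.2 fun x hx => (h1 x hx).symm))
    · rw [hK₁]
      intro g hg
      rw [← BTwo.cj_eq_self_iff, BTwo.cj_inf, BTwo.cj_eq_self_iff.2 (hczq hg), BTwo.cj_eq_self_iff.2 (hKE hg)]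
  obtain ⟨l, hl⟩ : ∃ l : Fin k, l ≠ i := by
    have hk := h.k2
    by_contra hcon
    push Not at hcon
    have h1 : Fintype.card (Fin k) ≤ 1 := Fintype.card_le_one_iff.2 fun a b => by rw [hcon a, hcon b]
    rw [Fintype.card_fin] at h1
    omega
  refine no_A (E := zc (qz r)) (A := fac M.toNatV l) h.bts hR hrR ?_ (by rw [hNL]; exact hczq) hcore
    (fun y hy => ?_) (fun y hy => ?_) ?_ fun y hy hy1 => ?_
  · obtain ⟨g, hg, v, hv, w, hw, hne⟩ := hu
    exact ⟨g, by rw [hRo]; exact hg, v, hv, w, hw, hne⟩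
  · exact ZN.mem_zc.2 ⟨hfr.VQ i l r hri hr1 hy, fun x hx => hfr.Qc i l hl r hri hr1 x hx y hy, by
      rw [pow_two]; exact hfr.sq l y hy⟩
  · refine h.mem_cenX fun v hv hv1 g hg => ?_
    exact hfr.Qc i l hl v hv hv1 g (hfr.KK_le_q hv hv1 hg) y hy
  · obtain ⟨a, ha, b, hb, ha1, hb1, hab⟩ := hfr.exists_two l
    refine ⟨a, ha, b, hb, ha1, hb1, fun h0 => hab ?_⟩
    have h2 := hfr.sq l b hb
    calc a = a * b * b := by rw [mul_assoc, h2, mul_one]
      _ = b := by rw [h0, one_mul]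
  · exact ⟨hfr.VQ l i y hy hy1 hri, mem_centralizer_iff.2 fun x hx =>
      hfr.Qc l i (Ne.symm hl) y hy hy1 x hx r hri⟩

end Ins0

end frame

end Cfsg.Agent.Omega.IId.NV.BigD

end

end

-- merged: Cfsg.Agent.Mrg.Omega.IId.CvBig.FourX
section

/-!
# CvBig, CASE 2a, all `q`, `k ≥ 3`: the vector `x` (text: helper796 (2); typed by helper916)

* `exists_x_fr` : `1 ≠ x ∈ A ∩ C(X i)`, if `T` centralises `A` and `|C_{V_i}(T)| < |A|`;
* `exists_x` : `1 ≠ x ∈ Ω₁(Z(S₁)) ∩ C(X i)`, `S₁ ≥ stab M i` Sylow, `D ≠ 1`, any `k ≥ 2`.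
-/

set_option autoImplicit false
set_option linter.unusedSectionVars false

namespace Cfsg.Agent.Omega.IId.CvBig.Four

open Subgroup Cfsg.Agent.Omega.BTwo Cfsg.Agent.Omega.IId.Cv.TwoFour

universe u

theorem exists_x_fr {G : Type*} [Group G] [Finite G] {κ : Type*} [Finite κ] {ι : κ → Type*}
    {Vf Lf : κ → Subgroup G} {R K : ∀ l, ι l → Subgroup G} {Q : Subgroup G} (h : Fr Vf Lf R K Q) {i l : κ}
    (hl : l ≠ i) {a : ι i} {T A : Subgroup G} (hTL : T ≤ Lf i) (hQT : Q ≤ T) (hQQ : QQ (R i a) ≤ T)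
    (hAT : ∀ x ∈ A, ∀ t ∈ T, t * x = x * t)
    (hcard : Nat.card (Vf i ⊓ centralizer (T : Set G) : Subgroup G) < Nat.card A) :
    ∃ x ∈ A, x ≠ 1 ∧ x ∈ Wh Vf K Q ∧ x ∈ centralizer (XK (K i) : Set G) := by
  have k := h.kt i
  have hAW : A ≤ Wh Vf K Q := by
    intro y hy
    have h1 : ∀ q ∈ QQ (R i a), y * q = q * y := fun q hq => (hAT y hy q (hQQ hq)).symm
    have h2 : y ∈ QQ (R i a) := by
      refine h.ch i a (mem_inf.2 ⟨centralizer_le_normalizer _ (mem_centralizer_iff.2 fun r hr => ?_),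
        mem_centralizer_iff.2 fun q hq => (h1 q hq).symm⟩)
      exact (h1 r ((k.R_le a).trans (k.V_Q a) hr)).symm
    exact h.Vm hl (mem_Uc h2 h1) (mem_centralizer_iff.2 fun q hq => hAT y hy q (hQT hq))
  have hex : ∀ x : A, ∃ v : (Vf i ⊓ centralizer (T : Set G) : Subgroup G),
      (v : G)⁻¹ * (x : G) ∈ centralizer (XK (K i) : Set G) := by
    intro x
    obtain ⟨v, hv, hc⟩ := h.dec (hAW x.2) i
    refine ⟨⟨v, mem_inf.2 ⟨hv, mem_centralizer_iff.2 fun t ht => ?_⟩⟩, hc⟩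
    have htV : t ∈ normalizer (Vf i : Set G) := k.L_V (hTL ht)
    have htX := k.L_le_NX (hTL ht)
    have h1 : t * v * t⁻¹ ∈ Vf i := conj_mem_of_normalizer htV hv
    have h2 : t * (v⁻¹ * x) * t⁻¹ ∈ centralizer (XK (K i) : Set G) :=
      conj_mem_of_normalizer (normalizer_le_normalizer_centralizer _ htX) hc
    have h3 : v⁻¹ * (t * v * t⁻¹) ∈ centralizer (XK (K i) : Set G) := by
      have h4 := hAT x x.2 t ht
      have e : v⁻¹ * (t * v * t⁻¹) = (v⁻¹ * x) * (t * (v⁻¹ * x) * t⁻¹)⁻¹ := by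
        calc v⁻¹ * (t * v * t⁻¹) = v⁻¹ * (x * t) * (t⁻¹ * (x : G)⁻¹ * t) * v * t⁻¹ := by group
          _ = v⁻¹ * (x * t) * (x * t)⁻¹ * t * v * t⁻¹ := by group
          _ = (v⁻¹ * x) * (t * (v⁻¹ * x) * t⁻¹)⁻¹ := by
            have h5 : (x : G)⁻¹ * t * v = (x : G)⁻¹ * t * v := rfl
            have h6 : t * (v⁻¹ * (x : G)) * t⁻¹ = t * v⁻¹ * t⁻¹ * x := by
              calc t * (v⁻¹ * (x : G)) * t⁻¹ = t * v⁻¹ * t⁻¹ * (t * x) * t⁻¹ := by group
                _ = _ := by rw [h4]; group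
            rw [h6]; group
      rw [e]
      exact mul_mem hc (inv_mem h2)
    have h5 := h.uniq (mul_mem (inv_mem hv) h1) h3
    have h6 : v = t * v * t⁻¹ := inv_mul_eq_one.1 h5
    calc t * v = t * v * t⁻¹ * t := by group
      _ = v * t := by rw [← h6]
  choose φ hφ using hex
  by_contra hcon
  push Not at hcon
  refine absurd (Nat.card_le_card_of_injective φ fun x y hxy => ?_) (not_le.2 hcard)
  have h1 : (y : G)⁻¹ * x ∈ centralizer (XK (K i) : Set G) := by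
    have e : (y : G)⁻¹ * x = ((φ y : G)⁻¹ * y)⁻¹ * ((φ x : G)⁻¹ * x) := by rw [hxy]; group
    rw [e]
    exact mul_mem (inv_mem (hφ y)) (hφ x)
  have h2 : (y : G)⁻¹ * x = 1 := by
    by_contra h3
    exact hcon _ (mul_mem (inv_mem y.2) x.2) h3 (hAW (mul_mem (inv_mem y.2) x.2)) h1
  exact Subtype.ext (inv_mul_eq_one.1 h2).symm

section nat

open Cfsg Cfsg.Agent.MinSimple
open Cfsg.Agent.ZN (o2 zc zl)
open Cfsg.Agent.Omega.MinPar Cfsg.Agent.Omega.FFThm

/-- **`1 ≠ x ∈ Ω₁(Z(S₁)) ∩ C(X i)`** for a Sylow 2-subgroup `S₁ ≥ stab M i` of `G` -/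
theorem exists_x {G : Type u} [Group G] [Finite G] {F : Type} [Field F] [Finite F] [CharP F 2] {S : Sylow 2 G}
    {P V D : Subgroup G} {k : ℕ} (M : NatD F S P V D k) (hD : D ≠ ⊥) {i l : Fin k} (hl : l ≠ i)
    {ι : Fin k → Type*} {Lf : Fin k → Subgroup G} {R K : ∀ l, ι l → Subgroup G} {Q : Subgroup G}
    (h : Fr (fun l => NV.fac M.toNatV l) Lf R K Q) {a : ι i} (hTL : NV.stab M.toNatV i ≤ Lf i)
    (hQT : Q ≤ NV.stab M.toNatV i) (hQQ : QQ (R i a) ≤ NV.stab M.toNatV i) {S₁ : Sylow 2 G}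
    (hle : NV.stab M.toNatV i ≤ S₁) :
    ∃ x ∈ zc (S₁ : Subgroup G), x ≠ 1 ∧ x ∈ Wh (fun l => NV.fac M.toNatV l) K Q ∧
      x ∈ centralizer (XK (K i) : Set G) := by
  have : Fact (Nat.Prime 2) := ⟨Nat.prime_two⟩
  refine exists_x_fr h hl hTL hQT hQQ (fun x hx t ht => (VModule.mem_zc.1 hx).2.1 t (hle ht)) ?_
  have h1 : NV.fac M.toNatV i ⊓ centralizer (NV.stab M.toNatV i : Set G) ≤
      NV.line M.toNatV i ⊓ centralizer (NV.stab M.toNatV i : Set G) := fun v hv =>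
    mem_inf.2 ⟨NV.fix_le_line M.toNatV (NV.SP M) hv.1 fun t ht => mem_centralizer_iff.1 hv.2 t ht, hv.2⟩
  have h2 := Subgroup.card_le_of_le h1
  have h3 := CvBig.card_zc_ge M i
  have h4 : Nat.card (zc (S₁ : Subgroup G)) = Nat.card (zc (S : Subgroup G)) :=
    Half.card_zc_of_card_eq S S₁.isPGroup' (by rw [S.card_eq_multiplicity, S₁.card_eq_multiplicity])
  have h5 : 1 < Nat.card D := (Subgroup.one_lt_card_iff_ne_bot _).2 hD
  have h6 : 0 < Nat.card (NV.line M.toNatV i ⊓ centralizer (NV.stab M.toNatV i : Set G) : Subgroup G) := Nat.card_pos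
  rw [h4]
  nlinarith

end nat

end Cfsg.Agent.Omega.IId.CvBig.Four

end

-- merged: Cfsg.Agent.Mrg.Omega.IId.CvBig.FourInst
section

/-!
# CvBig, CASE 2a, `q ≥ 4`, `k ≥ 3`: the frame `Four.Fr`, `Four.FT` over `NatD` (text: helper796; typed by helper916)

* `partner_at` : the partner at every factor; `atLine_all`;
* `fr` : `Four.Fr`; `ft` : `Four.FT` over `stab M i`;
* `kp` : a 2-element normalising `stab M i`, `line M i` and permuting the other lines is in `stab M i`.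
-/

set_option autoImplicit false
set_option linter.unusedSectionVars false

namespace Cfsg.Agent.Omega.IId.NV.FourI

open Subgroup Cfsg Cfsg.Agent.ZN
open Cfsg.Agent.Omega.MinPar Cfsg.Agent.Omega.FFThm
open Cfsg.Agent.Lib.SL2Mat
open Cfsg.Agent.MinSimple

open Cfsg.Agent.Omega.NatPair (ap ap_mul ap_one ap_inv_ap ap_ap_inv exists_ap ap_add ext2)
open Cfsg.Agent.Omega.Mix (RMod Char2)
open Cfsg.Agent.Omega.IId.M4 (toRMod toRMod_line nmG)
open Cfsg.Agent.Omega.IId.Cv.TwoFour (AtLine Partner vec10_ne)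
open Cfsg.Agent.Omega.IId.CvBig.Four (Fr FT FS)
open Cfsg.Agent.Omega.BTwo (cj mem_cj cj_mono cj_eq_self_iff conj_mem_cj card_cj)

universe u

section frame

variable {G : Type u} [Group G] [Finite G] {F : Type} [Field F] [Finite F] [CharP F 2] {S : Sylow 2 G}
  {P V D : Subgroup G} {k : ℕ} (M : NatD F S P V D k) (hC : ∀ l, QL M l ≤ (S : Subgroup G))

theorem line10 (i : Fin k) : (toRMod (pre M.toNatV i)).line ![1, 0] = line M.toNatV i := by
  rw [toRMod_line, pre_line]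

/-- an element of `S` with `cj s (fac M i) = fac M l` moves the line -/
theorem cj_line_S {s : G} (hs : s ∈ (S : Subgroup G)) {i l : Fin k}
    (h : cj s (fac M.toNatV i) = fac M.toNatV l) : cj s (line M.toNatV i) = line M.toNatV l := by
  have h1 := conj_line M.toNatV (SP M) hs i
  have h2 : sg M.toNatV (SP M hs) i = l := (sg_eq_iff M.toNatV (SP M hs)).2 h
  rw [h2] at h1
  exact h1

theorem exists_tr (i l : Fin k) : ∃ s ∈ (S : Subgroup G), cj s (fac M.toNatV i) = fac M.toNatV l ∧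
    cj s (line M.toNatV i) = line M.toNatV l := by
  obtain ⟨s, hs, h⟩ := exists_trans M.toNatV (SP M) i l
  exact ⟨s, hs, h, cj_line_S M hs h⟩

include hC

/-- the partner at every factor -/
theorem partner_at {i : Fin k} {F' : Type} [Field F'] [Finite F'] [CharP F' 2] {V' N' : Subgroup G}
    {M' : RMod F' V' N'} (p : Partner (line M.toNatV i) (toRMod (pre M.toNatV i)) M') (l : Fin k) :
    AtLine (toRMod (pre M.toNatV l)) ![1, 0] := by
  obtain ⟨s, hs, hf, hl⟩ := exists_tr M i l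
  have hch : Char2 (normalizer (line M.toNatV l : Set G)) := by
    intro y hy hq
    exact char2_line' M l (mem_inf.2 ⟨hy, mem_centralizer_iff.2 fun q hq' => (hq q hq').symm⟩)
  have hQ : cj s (BTwo.QQ (line M.toNatV i)) = BTwo.QQ (line M.toNatV l) := by
    rw [Mix.cj_QQ, hl]
  have p' : Partner (line M.toNatV l) (toRMod (pre M.toNatV l)) (M'.conj s) :=
    { K' := by
        have h1 := cj_mono (g := s) p.K'
        rw [Cv.TwoFour.cj_KX, hl] at h1
        exact h1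
      VQ := fac_le_QL_self M hC l
      QN := (QL_le_stab M hC l).trans (stab_le_nmG (SP M) M.toNatV l)
      QN' := by
        rw [← hQ]
        exact cj_mono p.QN'
      ne := by
        obtain ⟨v, hv, w, hw, hne⟩ := p.ne
        refine ⟨s * v * s⁻¹, ?_, s * w * s⁻¹, conj_mem_cj hw, fun e => hne ?_⟩
        · rw [← hf]; exact conj_mem_cj hv
        · have e1 : s * (v * w) * s⁻¹ = s * (w * v) * s⁻¹ := by
            calc s * (v * w) * s⁻¹ = s * v * s⁻¹ * (s * w * s⁻¹) := by group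
              _ = s * w * s⁻¹ * (s * v * s⁻¹) := e
              _ = s * (w * v) * s⁻¹ := by group
          exact mul_left_cancel (mul_right_cancel e1)
      line := ⟨![1, 0], vec10_ne, (line10 M l).symm⟩
      line' := by
        obtain ⟨w, hw, h1⟩ := p.line'
        exact ⟨w, hw, by rw [M'.conj_line, ← h1]; exact hl.symm⟩ }
  obtain ⟨w, hw, -, a⟩ := p'.atLine hch
  exact a.all hw vec10_ne

omit hC in
/-- the points of `fac M l` are the conjugates of `line M l` -/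
theorem exists_gr (l : Fin k) (a : Mix.Pt (toRMod (pre M.toNatV l))) :
    ∃ g ∈ grp M.toNatV {l}, cj g (line M.toNatV l) = Mix.pt (toRMod (pre M.toNatV l)) a := by
  obtain ⟨R, w, hw, rfl⟩ := a
  obtain ⟨A, hA⟩ := exists_ap (vec10_ne (F := F)) hw
  obtain ⟨g, hg, hgA⟩ := exists_lift M.toNatV l A
  refine ⟨g, hg, ?_⟩
  have hI : (toRMod (pre M.toNatV l)).Ind g A := by
    intro y
    refine ext_fac M.toNatV (grp_conj_fac hg ((pre M.toNatV l).e_mem y)) ((pre M.toNatV l).e_mem _) ?_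
    exact (hgA _ ((pre M.toNatV l).e_mem y).1).trans
      (by rw [pre_e]; exact (pre_e M.toNatV l _).symm)
  have h1 := (toRMod (pre M.toNatV l)).cj_line_of_ind hI ![1, 0]
  rw [line10, hA] at h1
  exact h1

omit hC in
theorem mem_QQ {l : Fin k} {a : Mix.Pt (toRMod (pre M.toNatV l))} {g q : G}
    (hg : cj g (line M.toNatV l) = Mix.pt (toRMod (pre M.toNatV l)) a)
    (hq : q ∈ BTwo.QQ (Mix.pt (toRMod (pre M.toNatV l)) a)) : g⁻¹ * q * g ∈ QL M l := by
  rw [← hg, ← Mix.cj_QQ, mem_cj] at hq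
  exact hq

omit hC in
include M in
/-- `C_G(O₂(P)) ≤ O₂(P)` -/
theorem cent_o2P : centralizer (o2 P : Set G) ≤ o2 P := by
  have h0 : P ≤ normalizer (o2 P : Set G) := MinSimple.VModule.le_normalizer_o2 P
  have h1 : o2 (normalizer (o2 P : Set G)) ≤ o2 P := o2_le_o2 S (SP M) h0
  have h3 := MinSimple.Basic.char2_normalizer M.hG (MinSimple.VModule.o2_isPGroup P) M.star.o2_ne
  refine le_trans (le_inf (centralizer_le_normalizer _) ?_) (h3.trans h1)
  exact centralizer_le h1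

/-- **the frame `Four.Fr`** -/
theorem fr (al : ∀ l, AtLine (toRMod (pre M.toNatV l)) ![1, 0]) :
    Fr (fun l => fac M.toNatV l) (fun l => nmG (pre M.toNatV l)) (fun l => Mix.pt (toRMod (pre M.toNatV l)))
      (fun l a => KX (Mix.pt (toRMod (pre M.toNatV l)) a)) (o2 P) where
  kt l := (al l).kt vec10_ne
  comm l m _ v hv w hw := NV.comm M.toNatV (fac_le _ _ hv) (fac_le _ _ hw)
  QV' l m hm a q hq v hv := by
    obtain ⟨g, hg, h1⟩ := exists_gr M l a
    exact cj_QL_comm M hC hm hg (ChoiceBase.mem_cj.2 (mem_QQ M h1 hq)) hv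
  VQ' l m a v hv := by
    obtain ⟨g, hg, h1⟩ := exists_gr M l a
    have h2 := ChoiceBase.mem_cj.1 (zl_le_cj_QL M hC (i := l) (grp_le _ _ hg) (M.V_le (fac_le _ _ hv)))
    rw [← h1, ← Mix.cj_QQ, mem_cj]
    exact h2
  ch l a := by
    obtain ⟨R, w, hw, rfl⟩ := a
    rintro x ⟨hx1, hx2⟩
    exact ((al l).all vec10_ne hw).ch x hx1 fun q hq => (mem_centralizer_iff.1 hx2 q hq).symm
  cQ := cent_o2P M
  QC l g hg v hv := o2P_comm M hg (M.V_le (fac_le _ _ hv))
  CQ l a q hq h := by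
    obtain ⟨g, hg, h1⟩ := exists_gr M l a
    have hgP : g ∈ P := grp_le _ _ hg
    have h2 := mem_QQ M h1 hq
    have h3 : g⁻¹ * q * g ∈ o2 P := by
      refine mem_o2P_of_triv M (hC l h2) fun m v hv => ?_
      have h4 : g * v * g⁻¹ ∈ fac M.toNatV m := (mem_normalizer_iff.1 (grp_normalizes M.toNatV {l} {m} hg) v).1 hv
      have h5 := h m _ h4
      calc g⁻¹ * q * g * v * (g⁻¹ * q * g)⁻¹ = g⁻¹ * (q * (g * v * g⁻¹)) * q⁻¹ * g := by group
        _ = g⁻¹ * (g * v * g⁻¹ * q) * q⁻¹ * g := by rw [h5]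
        _ = v := by group
    have h4 := (mem_normalizer_iff.1 (VModule.le_normalizer_o2 P hgP) _).1 h3
    have e : g * (g⁻¹ * q * g) * g⁻¹ = q := by group
    rwa [e] at h4
  nQ l a q hq := by
    obtain ⟨g, hg, h1⟩ := exists_gr M l a
    have h2 := cj_QL_le_P M hC (grp_le _ _ hg) (ChoiceBase.mem_cj.2 (mem_QQ M h1 hq))
    exact VModule.le_normalizer_o2 P h2

omit hC in
theorem o2_le_stab (i : Fin k) : o2 P ≤ stab M.toNatV i := by
  refine le_inf (o2_le_S M) fun x hx => centralizer_le_normalizer _ (mem_centralizer_iff.2 fun v hv => ?_)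
  exact (o2P_comm M hx (M.V_le (fac_le _ _ hv))).symm

omit hC in
theorem pt10 (l : Fin k) : Mix.pt (toRMod (pre M.toNatV l)) (Cv.TwoFour.i₀ (toRMod (pre M.toNatV l))) =
    line M.toNatV l := line10 M l

theorem QL_le_stab' (i l : Fin k) : QL M l ≤ stab M.toNatV i := by
  by_cases h : l = i
  · rw [h]; exact QL_le_stab M hC i
  · exact le_inf (hC l) ((QL_le_cent M hC (Ne.symm h)).trans (centralizer_le_normalizer _))

/-- **the frame `Four.FT` over `stab M i`** -/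
theorem ft (al : ∀ l, AtLine (toRMod (pre M.toNatV l)) ![1, 0]) (i : Fin k) :
    FT (fun l => fac M.toNatV l) (fun l => nmG (pre M.toNatV l)) (fun l => Mix.pt (toRMod (pre M.toNatV l)))
      (fun l a => KX (Mix.pt (toRMod (pre M.toNatV l)) a)) (o2 P)
      (fun l => Cv.TwoFour.i₀ (toRMod (pre M.toNatV l))) (stab M.toNatV i) i where
  toFr := fr M hC al
  card l m a b := by
    obtain ⟨R, w, hw, rfl⟩ := a
    obtain ⟨R', w', hw', rfl⟩ := b
    exact ((toRMod (pre M.toNatV l)).card_line hw).trans ((toRMod (pre M.toNatV m)).card_line hw').symm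
  T2 := S.isPGroup'.to_le (stab_le _ _)
  QT := o2_le_stab M i
  QQT l := by
    show BTwo.QQ (Mix.pt (toRMod (pre M.toNatV l)) (Cv.TwoFour.i₀ (toRMod (pre M.toNatV l)))) ≤ _
    rw [pt10]
    exact QL_le_stab' M hC i l
  TV := stab_normalizes _ _
  TQ := ((stab_le _ _).trans (SP M)).trans (VModule.le_normalizer_o2 P)
  perm g hg l := ⟨_, conj_fac M.toNatV (SP M (stab_le _ _ hg)) l⟩
  lin g hg l m h := by
    show cj g (Mix.pt (toRMod (pre M.toNatV l)) (Cv.TwoFour.i₀ (toRMod (pre M.toNatV l)))) =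
      Mix.pt (toRMod (pre M.toNatV m)) (Cv.TwoFour.i₀ (toRMod (pre M.toNatV m)))
    rw [pt10, pt10]
    exact cj_line_S M (stab_le _ _ hg) h
  TL g hg l h := stab_le_nmG (SP M) M.toNatV l (mem_inf.2 ⟨stab_le _ _ hg, h⟩)
  TCQ g hg h := mem_o2P_of_triv M (stab_le _ _ hg) fun l v hv => by rw [h l v hv, mul_inv_cancel_right]

omit hC in
/-- an element normalising `stab M i` and `line M i`, with square in `stab M i`, which permutes the other lines -/
theorem kp (i : Fin k) {t : G} (ht : t ∉ stab M.toNatV i) (hN : t ∈ normalizer (stab M.toNatV i : Set G))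
    (h2 : t * t ∈ stab M.toNatV i) (hR : t ∈ normalizer (line M.toNatV i : Set G))
    (hp : ∀ l, l ≠ i → ∃ m, m ≠ i ∧ cj t (line M.toNatV l) = line M.toNatV m) : False := by
  classical
  have hfact : Fact (Nat.Prime 2) := ⟨Nat.prime_two⟩
  -- the group permuting the lines
  let N₁ : Subgroup G :=
    { carrier := {g | ∃ σ : Equiv.Perm (Fin k), ∀ l, cj g (line M.toNatV l) = line M.toNatV (σ l)}
      one_mem' := ⟨1, fun l => BTwo.cj_one _⟩
      mul_mem' := by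
        rintro a b ⟨σ, hσ⟩ ⟨τ, hτ⟩
        exact ⟨σ * τ, fun l => by rw [BTwo.cj_mul, hτ, hσ]; rfl⟩
      inv_mem' := by
        rintro a ⟨σ, hσ⟩
        refine ⟨σ⁻¹, fun l => ?_⟩
        have h1 := hσ (σ⁻¹ l)
        rw [show σ (σ⁻¹ l) = l from σ.apply_symm_apply l] at h1
        rw [← h1, ← BTwo.cj_mul, inv_mul_cancel, BTwo.cj_one] }
  have hSN : (S : Subgroup G) ≤ N₁ := fun s hs => ⟨sg M.toNatV (SP M hs), fun l => conj_line M.toNatV (SP M) hs l⟩
  have htN : t ∈ N₁ := by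
    have hex : ∀ l, ∃ m, cj t (line M.toNatV l) = line M.toNatV m := by
      intro l
      by_cases hl : l = i
      · exact ⟨i, by rw [hl]; exact cj_eq_self_iff.2 hR⟩
      · obtain ⟨m, -, hm⟩ := hp l hl
        exact ⟨m, hm⟩
    choose f hf using hex
    have hinj : Function.Injective f := by
      intro a b hab
      have h1 : cj t (line M.toNatV a) = cj t (line M.toNatV b) := by rw [hf, hf, hab]
      exact line_inj (M := M.toNatV) (BTwo.cj_injective h1).le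
    exact ⟨Equiv.ofBijective f ((Finite.injective_iff_bijective).1 hinj), fun l => hf l⟩
  have hT2 : IsPGroup 2 (stab M.toNatV i) := S.isPGroup'.to_le (stab_le _ _)
  have ht2 : IsPGroup 2 (zpowers t) := by
    obtain ⟨n, hn⟩ := hT2 ⟨t * t, h2⟩
    have hn' : (t * t) ^ 2 ^ n = 1 := congrArg Subtype.val hn
    rintro ⟨x, m, rfl⟩
    refine ⟨n + 1, Subtype.ext ?_⟩
    show (t ^ m) ^ 2 ^ (n + 1) = 1
    rw [← zpow_natCast, ← zpow_mul, mul_comm, zpow_mul, zpow_natCast, pow_succ', pow_mul, pow_two, hn', one_zpow]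
  set U : Subgroup G := zpowers t ⊔ stab M.toNatV i with hU
  have hU2 : IsPGroup 2 U := by
    refine IsPGroup.to_sup_of_normal_right' ht2 hT2 ?_
    rw [zpowers_le]
    exact hN
  have hUN : U ≤ N₁ := sup_le (by rw [zpowers_le]; exact htN) ((stab_le _ _).trans hSN)
  have hUR : U ≤ normalizer (line M.toNatV i : Set G) :=
    sup_le (by rw [zpowers_le]; exact hR) (stab_normalizes_line M.toNatV (SP M) i)
  obtain ⟨Q', hUQ, hQN⟩ := exists_sylow_over (T₁ := S) hU2 hUN hSN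
  obtain ⟨g, hg, hgQ⟩ := M4.exists_cj_eq hSN hQN S.isPGroup' Q'.isPGroup' (MinSimple.Basic.not_dvd_relIndex S hSN)
    (MinSimple.Basic.not_dvd_relIndex Q' hQN)
  have hgU : cj g U ≤ (S : Subgroup G) := by
    rw [← hgQ]
    exact cj_mono hUQ
  obtain ⟨σ, hσ⟩ := hg
  obtain ⟨s, hs, -, hsl⟩ := exists_tr M (σ i) i
  have h3 : cj (s * g) U ≤ stab M.toNatV i := by
    rintro _ ⟨x, hx, rfl⟩
    change s * g * x * (s * g)⁻¹ ∈ stab M.toNatV i
    have h4 : g * x * g⁻¹ ∈ (S : Subgroup G) := hgU (conj_mem_cj hx)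
    have h5 : s * g * x * (s * g)⁻¹ ∈ (S : Subgroup G) := by
      have e : s * g * x * (s * g)⁻¹ = s * (g * x * g⁻¹) * s⁻¹ := by group
      rw [e]
      exact mul_mem (mul_mem hs h4) (inv_mem hs)
    refine mem_inf.2 ⟨h5, ?_⟩
    have h6 : cj (s * g) (line M.toNatV i) = line M.toNatV i := by rw [BTwo.cj_mul, hσ, hsl]
    have h7 : s * g * x * (s * g)⁻¹ ∈ normalizer (line M.toNatV i : Set G) := by
      have h8 := conj_mem_cj (g := s * g) (hUR hx)
      rw [← BTwo.normalizer_cj, h6] at h8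
      exact h8
    have h9 := conj_line M.toNatV (SP M) h5 i
    have h10 : cj (s * g * x * (s * g)⁻¹) (line M.toNatV i) = line M.toNatV i := cj_eq_self_iff.2 h7
    have h11 : sg M.toNatV (SP M h5) i = i := by
      refine line_inj (M := M.toNatV) (le_of_eq ?_)
      rw [← h9]
      exact h10
    exact (mem_normalizer_fac_iff M.toNatV (SP M h5)).2 h11
  have h4 : Nat.card U ≤ Nat.card (stab M.toNatV i) := by
    rw [← card_cj (s * g) U]
    exact Subgroup.card_le_of_le h3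
  have h5 : stab M.toNatV i = U := eq_of_le_of_card_ge le_sup_right h4
  exact ht (by rw [h5]; exact mem_sup_left (mem_zpowers t))

/-- **CASE 2a, `q ≥ 4`, `k ≥ 3`** (helper796, #21992): a Sylow 2-subgroup of `N_G(line M i)` over `stab M i`
normalises `fac M i`. -/
theorem big2A4 {i : Fin k} (hk : 2 < k) (hD : D ≠ ⊥) {F' : Type} [Field F'] [Finite F'] [CharP F' 2]
    {V' N' : Subgroup G} {M' : RMod F' V' N'} (p : Partner (line M.toNatV i) (toRMod (pre M.toNatV i)) M')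
    (hT : ∀ U : Subgroup G, IsPGroup 2 U → stab M.toNatV i ≤ U → U ≤ normalizer (fac M.toNatV i : Set G) →
      U ≤ normalizer (line M.toNatV i : Set G) → ∀ t ∈ U, (pre M.toNatV i).Nm t) (h4 : 4 ≤ Nat.card F) :
    ∃ T₁, Cv.OverT M i T₁ := by
  have hfact : Fact (Nat.Prime 2) := ⟨Nat.prime_two⟩
  have al := fun l => partner_at M hC p l
  have hT2 : IsPGroup 2 (stab M.toNatV i) := S.isPGroup'.to_le (stab_le _ _)
  obtain ⟨Th, hle, hThH, hTh2, hThs⟩ := Half.exists_sylow_le hT2 (le_inf (stab_normalizes M.toNatV i)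
    (stab_normalizes_line M.toNatV (SP M) i) :
      stab M.toNatV i ≤ normalizer (fac M.toNatV i : Set G) ⊓ normalizer (line M.toNatV i : Set G))
  have hThV := hThH.trans inf_le_left
  have hThR := hThH.trans inf_le_right
  by_cases hodd : ¬ 2 ∣ Th.relIndex (normalizer (line M.toNatV i : Set G))
  · exact ⟨Th, hTh2, hle, hThV, hThR, hodd⟩
  exfalso
  rw [not_not] at hodd
  -- a bigger 2-group in `N(R)`
  obtain ⟨S', hTS, hS'N, hS'2, hS's⟩ := Half.exists_sylow_le hTh2 hThR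
  have hlt : ¬ S' ≤ Th := fun h => hS's (by rw [le_antisymm h hTS]; exact hodd)
  obtain ⟨w₁, hw₁S, hw₁N, hw₁⟩ :=
    Cfsg.Agent.Omega.F4Leaf.Syl.LocP.exists_step hTh2 hS'2 (hTS.trans le_normalizer) hlt
  obtain ⟨n, hn1, hn2⟩ := CvBig.Four.exists_pow_sq (hS'2.to_le (by rw [zpowers_le]; exact hw₁S)) hw₁
  obtain ⟨S₁, hS₁⟩ := hS'2.exists_le_sylow
  obtain ⟨l, hl⟩ : ∃ l : Fin k, l ≠ i := by
    have : Nontrivial (Fin k) := Fin.nontrivial_iff_two_le.2 (by omega)
    exact exists_ne i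
  have hfr := fr M hC al
  have hQQi : BTwo.QQ (Mix.pt (toRMod (pre M.toNatV i)) (Cv.TwoFour.i₀ (toRMod (pre M.toNatV i)))) ≤
      stab M.toNatV i := (ft M hC al i).QQT i
  obtain ⟨x, hxz, hx1, hxW, hxX⟩ := CvBig.Four.exists_x M hD hl hfr (stab_le_nmG (SP M) M.toNatV i)
    (o2_le_stab M i) hQQi (S₁ := S₁) (hle.trans (hTS.trans hS₁))
  obtain ⟨-, hxc, hx2⟩ := VModule.mem_zc.1 hxz
  have hfs : FS (fun l => fac M.toNatV l) (fun l => nmG (pre M.toNatV l))
      (fun l => Mix.pt (toRMod (pre M.toNatV l)))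
      (fun l a => KX (Mix.pt (toRMod (pre M.toNatV l)) a)) (o2 P)
      (fun l => Cv.TwoFour.i₀ (toRMod (pre M.toNatV l))) Th i :=
    { toFr := hfr
      Th2 := hTh2
      ThV := hThV
      ThL := fun t ht => M4.mem_nmG.2 ⟨hThV ht, hT Th hTh2 hle hThV hThR t ht,
        hT Th hTh2 hle hThV hThR _ (inv_mem ht)⟩
      ThR := by
        show Th ≤ normalizer (Mix.pt (toRMod (pre M.toNatV i)) (Cv.TwoFour.i₀ (toRMod (pre M.toNatV i))) : Set G)
        rw [pt10]
        exact hThR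
      syl := by
        show ¬ 2 ∣ Th.relIndex (normalizer (fac M.toNatV i : Set G) ⊓
          normalizer (Mix.pt (toRMod (pre M.toNatV i)) (Cv.TwoFour.i₀ (toRMod (pre M.toNatV i))) : Set G))
        rw [pt10]
        exact hThs
      QTh := (o2_le_stab M i).trans hle
      QQTh := fun l => ((ft M hC al i).QQT l).trans hle }
  have huR : w₁ ^ n ∈ normalizer
      (Mix.pt (toRMod (pre M.toNatV i)) (Cv.TwoFour.i₀ (toRMod (pre M.toNatV i))) : Set G) := by
    rw [pt10]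
    exact pow_mem (hS'N hw₁S) n
  obtain ⟨w, hw⟩ := hfs.step hl hxW hxX
    (MinSimple.Basic.char2_centralizer M.hG hx2 hx1) hS'2 hTS
    (fun s hs => mem_centralizer_singleton_iff.2 (hxc s (hS₁ hs))) (pow_mem hw₁S n) (pow_mem hw₁N n) huR hn1 hn2
  have hA := hfs.fa hw
  obtain ⟨n₀, hn₀, hn₀R⟩ := CvBig.Four.exists_N (al i) hA h4
  have hKK : ∀ n : G, stab M.toNatV i ≤ normalizer (cj n (Mix.pt (toRMod (pre M.toNatV i))
      (Cv.TwoFour.i₀ (toRMod (pre M.toNatV i)))) : Set G) → stab M.toNatV i ≤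
      normalizer (cj n (KX (Mix.pt (toRMod (pre M.toNatV i)) (Cv.TwoFour.i₀ (toRMod (pre M.toNatV i))))) : Set G) := by
    intro n hn
    rw [Cv.TwoFour.cj_KX]
    exact hn.trans (normalizer_le_normalizer_KX _)
  obtain ⟨Rc, Kc, sv⟩ := CvBig.Four.exists_sv (o := fun l => Cv.TwoFour.i₀ (toRMod (pre M.toNatV l)))
    hfr hA hle hw.wW hKK hn₀ hn₀R
  · refine (ft M hC al i).kill sv (fun j => ?_) fun t ht hN h2 hR hp => ?_
    · by_cases hji : j = i
      · exact ⟨l, hl, fun h => hl (h.trans hji)⟩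
      · obtain ⟨m, hm⟩ : ∃ m : Fin k, m ∉ ({i, j} : Finset (Fin k)) := by
          by_contra hcon
          push Not at hcon
          have h5 : (Finset.univ : Finset (Fin k)) ⊆ {i, j} := fun m _ => hcon m
          have h6 := Finset.card_le_card h5
          rw [Finset.card_univ, Fintype.card_fin] at h6
          have h7 := Finset.card_le_two (a := i) (b := j)
          omega
        simp only [Finset.mem_insert, Finset.mem_singleton, not_or] at hm
        exact ⟨m, hm.1, hm.2⟩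
    · refine kp M i ht hN h2 ?_ fun l hl => ?_
      · have h5 : t ∈ normalizer
          (Mix.pt (toRMod (pre M.toNatV i)) (Cv.TwoFour.i₀ (toRMod (pre M.toNatV i))) : Set G) := hR
        rwa [pt10] at h5
      · obtain ⟨m, hm, h5⟩ := hp l hl
        have h6 : cj t (Mix.pt (toRMod (pre M.toNatV l)) (Cv.TwoFour.i₀ (toRMod (pre M.toNatV l)))) =
          Mix.pt (toRMod (pre M.toNatV m)) (Cv.TwoFour.i₀ (toRMod (pre M.toNatV m))) := h5
        rw [pt10, pt10] at h6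
        exact ⟨m, hm, h6⟩

end frame

end Cfsg.Agent.Omega.IId.NV.FourI

end

-- merged: Cfsg.Agent.Mrg.Omega.IId.CvBig.FourDone
section

/-!
# CvBig, CASE 2a, `q ≥ 4`: `Big2A4P`, `Big2A4 K` (text: helper796; plug: helper36)
-/

set_option autoImplicit false

namespace Cfsg.Agent.Omega.IId.NV

universe u

theorem big2A4P : Big2A4P.{u} := fun _ _ _ _ _ _ _ _ _ _ _ _ M _ hk hC hD _ _ _ _ _ _ _ p hT h4 =>
  FourI.big2A4 M hC hk hD p hT h4

end Cfsg.Agent.Omega.IId.NV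

namespace Cfsg.Agent.Omega.IId.Cv

open Cfsg.Agent.Omega.Frame (Cls)

universe u

theorem big2A4 (K : Cls.{u}) : Big2A4 K := big2A4_of NV.big2A4P K

end Cfsg.Agent.Omega.IId.Cv

end

-- merged: Cfsg.Agent.Mrg.Omega.IId.CvBig.TypF
section

/-!
# `BigU4`, piece (T3): `FK` with `TypU` for `F₄(q)`, `q` even

* `typ_UGN` : the conjugating elements of `typ_UG` lie in any `Y` which contains the torus and the parabolic of `X_r`;
* `Emb.typN` : `y ∈ N(G₀) ∩ N(X_r)`;
* `fkU_of` : `fk_of` with `TypU`.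
-/

set_option autoImplicit false
set_option Elab.async false
set_option linter.unusedSectionVars false

namespace Cfsg.Agent.Omega.IId.CvBig.TypF

open CoxeterSystem Cfsg.Agent.ChevalleyStructure.CoxeterGeom Cfsg.Agent.Tits.Roots Cfsg.Agent.Tits.Core
open Cfsg Cfsg.Lie Cfsg.Agent.ChevalleyStructure Cfsg.Agent.ChevalleyStructure.Elts
  Cfsg.Agent.ChevalleyStructure.RootVec Cfsg.Agent.ChevalleyStructure.CoxeterGeomTypes
open Cfsg.Agent.Nodes Cfsg.Agent.Nodes.Reps Cfsg.Agent.Nodes.BNOf Cfsg.Agent.Nodes.RGDChev Cfsg.Agent.Nodes.Coroot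
  Cfsg.Agent.Nodes.KindF Cfsg.Agent.KFacts.ChevTwo Cfsg.Agent.KFacts.ChevTwoTab
  Cfsg.Agent.KFacts.ChevTwoInst Cfsg.Agent.KFacts.RgdTI Cfsg.Agent.KFacts.RgdOdd
  Cfsg.Agent.KFacts.F4Star Cfsg.Agent.KFacts.F4Cent Cfsg.Agent.KFacts.F4Pair Cfsg.Agent.KFacts.F4Torus
open Cfsg.Agent.KFacts.F4Chart (torH torH_mem torH_conj)
open Cfsg.Agent.Omega.All.F4K
open Cfsg.Agent.Omega.HOneEnd.FFour
open Subgroup Cfsg.Agent.Omega.All.HOne
open Cfsg.Agent.Omega.IId.M4 (FK)
open Cfsg.Agent.Omega.IId.Cv (TypU)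

universe u v

variable {K : Type v} [Field K] [Finite K] [CharP K 2] {G : Type u} [Group G] {j : ↥(chevF4.group K) →* G}

theorem typ_UGN (hj : Function.Injective j) {Y Z : Subgroup G} {r : Fin 4 → ℤ} (hr : Dom r) (hC : CG j r ≤ Y)
    (hT : ∀ ν, (j.comp (torH K)) ν ∈ Y) (hZ : ∀ r, Dom r → ∃ z ∈ XG j r, z ∈ Z ∧ z ≠ 1) :
    ∀ u ∈ UG j r, ∃ y ∈ Y, y * u * y⁻¹ ∈ Z := by
  obtain ⟨zs, hs, hsZ, hs1⟩ := hZ _ (Or.inr rfl)
  obtain ⟨zl, hl, hlZ, hl1⟩ := hZ _ (Or.inl rfl)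
  rw [← SE_X j (Or.inr rfl), v44_s0] at hs
  rw [← SE_X j (Or.inl rfl), v47_rho] at hl
  rw [← SE_U j hr]
  rcases hr with rfl | rfl
  · obtain ⟨rt, hrt⟩ := exists_rt (K := K)
    have h := (chA hj).typ_l rt hrt parL hC hT hs hsZ hs1 hl hlZ hl1
    rw [← v47_rho] at h
    exact h
  · have h := (chA hj).typ_s parS hC hT hs hsZ hs1 hl hlZ hl1
    rw [← v44_s0] at h
    exact h

/-- the torus normalises `X_r` -/
theorem tor_N [Finite G] (hj : Function.Injective j) {r : Fin 4 → ℤ} (hr : Dom r) (ν : Fin 4 → Kˣ) :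
    (j.comp (torH K)) ν ∈ normalizer (XG j r : Set G) := by
  refine Subgroup.mem_normalizer_fintype fun x hx => ?_
  rw [SetLike.mem_coe, ← SE_X j hr] at hx ⊢
  obtain ⟨u, rfl⟩ := ((chA hj).mem_SE_singleton hr.mem).1 hx
  rw [(chA hj).tor r hr.mem]
  exact ((chA hj).mem_SE_singleton hr.mem).2 ⟨_, rfl⟩

/-- **`TypU` over `Emb`.** -/
theorem typN [Finite G] {T : Subgroup G} (E : Emb j T (normalizer (j.range : Set G))) {r : Fin 4 → ℤ} (hr : Dom r) :
    ∀ u ∈ UG j r, ∃ y ∈ normalizer (j.range : Set G), y ∈ normalizer (XG j r : Set G) ∧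
      y * u * y⁻¹ ∈ Cfsg.Agent.ZN.zc T := by
  intro u hu
  have hC : CG j r ≤ normalizer (j.range : Set G) ⊓ normalizer (XG j r : Set G) := by
    intro g hg
    rw [E.CG_eq hr] at hg
    refine ⟨le_normalizer hg.1, mem_normalizer_fintype fun x hx => ?_⟩
    rw [SetLike.mem_coe] at hx ⊢
    have h1 := mem_centralizer_iff.1 hg.2 x hx
    rw [← h1, mul_inv_cancel_right]
    exact hx
  obtain ⟨y, hy, h⟩ := typ_UGN (Z := Cfsg.Agent.ZN.zc T) E.inj hr hC
    (fun ν => ⟨le_normalizer ⟨torH K ν, rfl⟩, tor_N E.inj hr ν⟩) (fun s hs => by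
      obtain ⟨z, h1, h2, h3⟩ := Cfsg.Agent.Omega.All.exists_zc_mem E.two (E.side' hs).X_S (E.side' hs).S_X
        (XG_sq E.inj hs) (XG_ne E.inj hs)
      exact ⟨z, h2, h1, h3⟩) u hu
  exact ⟨y, hy.1, hy.2, h⟩

variable {G₀ : Subgroup G}

/-- **`fk_of` with `TypU`.** -/
theorem fkU_of [Finite G] (φ : ↥G₀ ≃* ↥(chevF4.group K)) {T R : Subgroup G} (hT : IsPGroup 2 T)
    (hTG : T ≤ normalizer (G₀ : Set G)) (hTR : T ≤ normalizer (R : Set G)) (hR : R ≤ G₀)
    (hc : centralizer (G₀ : Set G) = ⊥)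
    (hU : ((T ⊓ G₀).subgroupOf G₀).map φ.toMonoidHom = RGD.Sup (XF K) (RGD.Pos cF isType.isCartan))
    {s : Fin 4 → ℤ} (hs : Dom s) (hX : (R.subgroupOf G₀).map φ.toMonoidHom = XF K s) :
    ∃ Xb Ca Cb Qa Qb Ua Ub : Subgroup G, FK T G₀ R Xb Ca Cb Qa Qb Ua Ub ∧ TypU T G₀ R Ua := by
  have E := emb_of φ hT hTG hTR hR hc hU hs hX
  obtain ⟨r, hr, hrs⟩ := exists_other hs
  have hXR := XG_emb φ hR hX
  have hj : (emb φ).range = G₀ := emb_range φ
  have E' : Emb (emb φ) T (normalizer ((emb φ).range : Set G)) := by rw [hj]; exact E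
  have h1 := E'.fk hr hs hrs
  have h2 := typN E' hs
  rw [hj, hXR] at h1 h2
  exact ⟨_, _, _, _, _, _, _, h1, fun u hu _ => h2 u hu⟩

end Cfsg.Agent.Omega.IId.CvBig.TypF

end

-- merged: Cfsg.Agent.Mrg.Omega.IId.CvBig.IdU
section

/-!
# `BigU4`, piece (T3): THEOREM ID with the K-facts over `T` and `TypU` (helper532, helper38)

* `idU : IdU`.
-/

set_option autoImplicit false
set_option linter.unusedSectionVars false

namespace Cfsg.Agent.Omega.IId.CvBig.IdU

open Cfsg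
open Cfsg.Agent.Omega.HOneEnd (EndIn)
open Cfsg.Agent.Omega.IId.M4
open Cfsg.Agent.Omega.IId.Cv (TypU)

universe u

/-- **THEOREM ID with `TypU`**, without the hypothesis on `|R|`. -/
theorem idU' (G : Type u) [Group G] [Finite G] (T G₀ U R : Subgroup G) (v : G) (h : EndIn T G₀ U R v) :
    (∃ Xb Ca Cb Qa Qb Ua : Subgroup G, SpK T G₀ R Xb Ca Cb Qa Qb Ua ∧ TypU T G₀ R Ua) ∨
      ∃ Xb Ca Cb Qa Qb Ua Ub : Subgroup G, FK T G₀ R Xb Ca Cb Qa Qb Ua Ub ∧ TypU T G₀ R Ua := by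
  have hR : R ≤ G₀ := h.R_U.trans (by rw [← h.S_inf]; exact inf_le_right)
  rcases Cfsg.Agent.Omega.HOneEnd.ThmId.thm_id h with
    ⟨F, i1, i2, i3, n, hn, φ, -, e2⟩ | ⟨K, i1, i2, i3, φ, e1, s, hs, e2⟩
  · left
    have hW : Finite (CoxeterMatrix.B n).Group := Cfsg.Agent.Nodes.TypeC.finite_W (CoxeterMatrix.B n).toCoxeterSystem
    obtain ⟨Xb, Ca, Cb, Qa, Qb, Ua, h1, -, h2⟩ :=
      Cfsg.Agent.Omega.IId.TypUSp.spKU_of_id (CoxeterMatrix.B n).toCoxeterSystem h hn φ e2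
    exact ⟨Xb, Ca, Cb, Qa, Qb, Ua, h1, h2⟩
  · right
    exact TypF.fkU_of φ h.S_two h.S_G₀ h.S_R hR h.cent (by rw [h.S_inf]; exact e1) hs e2

/-- **`IdU`.** -/
theorem idU : Cfsg.Agent.Omega.IId.Cv.IdU.{u} := fun G _ _ _ T G₀ U R v h _ => idU' G T G₀ U R v h

end Cfsg.Agent.Omega.IId.CvBig.IdU

end

-- merged: Cfsg.Agent.Mrg.Omega.IId.CvBig.SylFree
section

section


/-!
# CvBig: `D = 1` on one side: CASE 1 there (helper468, over helper873's `BigFour/SylFour.lean`)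

`L : LineD M M' i i'`, THEOREM C on both sides.

* `act_on` : `O₂(N_G(R))` acts on `V_i` as `V'_{i'}` does;
* `syl_free` : `M : NatD F S P V ⊥ k`, `2 ≤ k`: `stab M i` is a Sylow 2-subgroup of `N_G(line M i)`;
* `mix_free` : `D = 1`: mixed pairs are impossible.
-/

set_option autoImplicit false
set_option linter.unusedSectionVars false

namespace Cfsg.Agent.Omega.IId.NV

open Subgroup Cfsg Cfsg.Agent.ZN Cfsg.Agent.ZN.ChoiceBase
open Cfsg.Agent.Omega.MinPar Cfsg.Agent.Omega.FFThm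
open Cfsg.Agent.Lib.SL2Mat
open Cfsg.Agent.MinSimple
open Cfsg.Agent.Omega.NatPair (ap ap_mul ap_one)
open Cfsg.Agent.Omega.IId.Cv (LineD UnM)

universe u

variable {G : Type u} [Group G] [Finite G] {F F' : Type} [Field F] [Finite F] [CharP F 2] [Field F'] [Finite F']
  [CharP F' 2] {S S' : Sylow 2 G} {P V D P' V' D' : Subgroup G} {k k' : ℕ}

theorem lineD_symm {M : NatD F S P V D k} {M' : NatD F' S' P' V' D' k'} {i : Fin k} {i' : Fin k'}
    (L : LineD M M' i i') : LineD M' M i' i where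
  eq := by rw [Subgroup.commutator_comm, L.eq, L.eq']
  eq' := L.eq'.symm
  card := L.card.symm
  le := by rw [← L.eq']; exact L.le'
  le' := by rw [← L.eq']; exact L.le
  ne := by
    obtain ⟨v, hv, w, hw, h⟩ := L.ne
    exact ⟨w, hw, v, hv, Ne.symm h⟩

/-- `O₂(N_G(R))` acts on `V_i` as `V'_{i'}` does. -/
theorem act_on {M : NatD F S P V D k} {M' : NatD F' S' P' V' D' k'} {i : Fin k} {i' : Fin k'}
    (L : LineD M M' i i') (hC : ∀ i, QL M i ≤ (S : Subgroup G)) (hC' : ∀ i, QL M' i ≤ (S' : Subgroup G)) {x : G}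
    (hx : x ∈ QL M i) : ∃ w ∈ fac M'.toNatV i', ∀ v ∈ fac M.toNatV i, x * w * v = v * (x * w) := by
  obtain ⟨b, hb⟩ := o2_up_big M hC hx
  obtain ⟨w, hw, hwv⟩ := full_fac L hC hC' (-b)
  refine ⟨w, hw, fun v hv => ?_⟩
  obtain ⟨h1, h2⟩ := hwv v hv
  have h3 : x * (w * v * w⁻¹) * x⁻¹ = v := by
    refine ext_fac M.toNatV ((mem_normalizer_iff.1 (stab_normalizes _ i (QL_le_stab M hC i hx)) _).1 h1) hv ?_
    rw [hb _ h1, h2, ← ap_mul, up_mul, add_neg_cancel, up_zero, ap_one]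
  calc x * w * v = x * (w * v * w⁻¹) * x⁻¹ * (x * w) := by group
    _ = v * (x * w) := by rw [h3]

/-- **`D = 1`: `stab M i` is a Sylow 2-subgroup of `N_G(line M i)`.** -/
theorem syl_free {M : NatD F S P V ⊥ k} {M' : NatD F' S' P' V' D' k'} {i : Fin k} {i' : Fin k'}
    (L : LineD M M' i i') (hC : ∀ i, QL M i ≤ (S : Subgroup G)) (hC' : ∀ i, QL M' i ≤ (S' : Subgroup G))
    (hk : 2 ≤ k) : ¬ 2 ∣ (stab M.toNatV i).relIndex (normalizer (line M.toNatV i : Set G)) := by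
  have hV : V = zl (S : Subgroup G) P := by
    refine le_antisymm M.V_le fun v hv => ?_
    obtain ⟨n, hn, d, hd, rfl⟩ := M.dec v hv
    rw [mem_bot] at hd
    rw [hd, mul_one]
    exact hn
  subst hV
  let M₀ : NatK F (S : Subgroup G) P (zl (S : Subgroup G) P) ⊥ k := M.toNatV.toNatK
  have hfac : ∀ l, IId.fac M₀ l = NV.fac M.toNatV l := fun _ => rfl
  have hline : ∀ l, IId.line M₀ l = NV.line M.toNatV l := fun _ => rfl
  have hcc : IId.CC M₀ := fun l m hml => by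
    rw [hfac, hline, Subgroup.le_centralizer_iff]
    exact QL_le_cent M hC hml
  have hp : BigFour.SylPt.Ptn (IId.fac M₀ i) (IId.line M₀ i) (fac M'.toNatV i') := by
    rw [hfac, hline]
    refine ⟨?_, fun x hx => act_on L hC hC' hx, fun x hx => ?_, fun v hv hvR r hr => ?_⟩
    · intro w hw
      have h1 : w ∈ KX (line M.toNatV i) := by
        rw [L.eq']
        exact fac_le_KX_self M' hC' i' hw
      exact ⟨KX_le_centralizer _ h1, (mem_KX.1 h1).2⟩
    · refine act_on (lineD_symm L) hC' hC (x := x) ?_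
      rw [L.eq'] at hx
      exact hx
    · have hu1 : M.e v i 1 ≠ 0 := fun h => hvR ((mem_line _).2 ⟨hv, h⟩)
      obtain ⟨a, ha, hav⟩ := full_fac L hC hC' (M.e r i 0 / M.e v i 1)
      refine ⟨a, ha, ext_fac M.toNatV (mul_mem (hav v hv).1 (inv_mem hv)) (line_le _ _ hr) ?_⟩
      rw [M.mul _ (hav v hv).1.1 _ (inv_mem hv.1), Pi.add_apply, (hav v hv).2, e_inv M.toNatV hv.1, Pi.neg_apply]
      apply NatPair.ext2
      · rw [Pi.add_apply, NatPair.ap_zero', Pi.neg_apply, up_00, up_01]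
        field_simp
        ring
      · rw [Pi.add_apply, NatPair.ap_one', Pi.neg_apply, up_10, up_11, ((mem_line _).1 hr).2]
        ring
  have hx : BigFour.SylPt.Cx M₀ := BigFour.SylPt.Cx.of_ptn M.hG M.star hcc hp
  have : Nontrivial (Fin k) := Fin.nontrivial_iff_two_le.2 hk
  exact BigFour.SylFour.syl hx (exists_ne i)

/-- **`D = 1`: mixed pairs are impossible.** -/
theorem mix_free {M : NatD F S P V ⊥ k} {M' : NatD F' S' P' V' D' k'} {i : Fin k} {i' : Fin k'}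
    (L : LineD M M' i i') (hC : ∀ i, QL M i ≤ (S : Subgroup G)) (hC' : ∀ i, QL M' i ≤ (S' : Subgroup G))
    (hu : ¬ UnM M i) (hu' : ¬ UnM M' i') (hk : 2 ≤ k) : False :=
  mixK_end L hC hC' hu hu' hk (S.isPGroup'.to_le (stab_le _ _)) (stab_normalizes _ i)
    (stab_normalizes_line M.toNatV (SP M) i) (syl_free L hC hC' hk)

end Cfsg.Agent.Omega.IId.NV

end

section


/-!
# CvBig, mixed pairs: `N_G(V_i)` is semilinear or `O₂(C_G(r))` centralises `V_i` (helper468)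

* `el_le_S` : `O₂(C_G(r)) ≤ stab M i` for an element `1 ≠ r ∈ line M i` centralised by `stab M i`;
* `nm_or_cent` : `N_G(V_i)` normalises the `SL₂(F)`, or `O₂(C_G(r))` centralises `V_i` for all `1 ≠ r ∈ V_i`;
* `nm_or` : for a mixed pair: the first for `V_i` or for `V'_{i'}`.
-/

set_option autoImplicit false
set_option linter.unusedSectionVars false

namespace Cfsg.Agent.Omega.IId.NV

open Subgroup Cfsg Cfsg.Agent.ZN Cfsg.Agent.ZN.ChoiceBase
open Cfsg.Agent.Omega.MinPar Cfsg.Agent.Omega.FFThm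
open Cfsg.Agent.Lib.SL2Mat
open Cfsg.Agent.MinSimple
open Cfsg.Agent.Omega.NatPair (ap ap_mul ap_one PreMod)
open Cfsg.Agent.MinSimple.VModule (zc_le zc_comm zc_sq zc_le_zl o2_isPGroup normalizer_le_normalizer_zc)
open Cfsg.Agent.Omega.IId.Cv (LineD UnM)

universe u

section one

variable {G : Type u} [Group G] [Finite G] {F : Type} [Field F] [Finite F] [CharP F 2] {S : Sylow 2 G}
  {P V D : Subgroup G} {k : ℕ} {M : NatD F S P V D k} (hC : ∀ i, QL M i ≤ (S : Subgroup G))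

/-- conjugates of `O₂(C_G(z))` -/
theorem o2_cent_conj {z t : G} : o2 (centralizer ({t * z * t⁻¹} : Set G)) = cj t (o2 (centralizer ({z} : Set G))) := by
  have hcz : centralizer ({t * z * t⁻¹} : Set G) = cj t (centralizer ({z} : Set G)) := by
    ext x
    rw [mem_cj, mem_centralizer_singleton_iff, mem_centralizer_singleton_iff]
    constructor
    · intro h
      calc t⁻¹ * x * t * z = t⁻¹ * (x * (t * z * t⁻¹)) * t := by group
        _ = t⁻¹ * (t * z * t⁻¹ * x) * t := by rw [h]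
        _ = z * (t⁻¹ * x * t) := by group
    · intro h
      calc x * (t * z * t⁻¹) = t * (t⁻¹ * x * t * z) * t⁻¹ := by group
        _ = t * (z * (t⁻¹ * x * t)) * t⁻¹ := by rw [h]
        _ = t * z * t⁻¹ * x := by group
  rw [hcz, ChoiceBase.pCore_cj]

include hC

/-- **`N_G(V_i)` normalises the `SL₂(F)`, or `O₂(C_G(r))` centralises `V_i`.** -/
theorem nm_or_cent (h : ∀ m, FullAt M m) (i : Fin k) :
    (∀ g ∈ normalizer (fac M.toNatV i : Set G), (pre M.toNatV i).Nm g) ∨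
      ∀ r ∈ fac M.toNatV i, r ≠ 1 → ∀ g ∈ o2 (centralizer ({r} : Set G)), ∀ v ∈ fac M.toNatV i, g * v = v * g := by
  obtain ⟨y, hy, hy1, hys⟩ := exists_zel M
  have d := eld hC h hy hy1 hys
  have hOS := d.le_S i
  set O := o2 (centralizer ({y i} : Set G)) with hO
  have hOc : O ≤ centralizer ({y i} : Set G) := VModule.o2_le _
  have hOs : O ≤ stab M.toNatV i := by
    intro o ho
    have hoP : o ∈ P := SP M (hOS ho)
    refine mem_inf.2 ⟨hOS ho, ?_⟩
    rw [mem_normalizer_fac_iff M.toNatV hoP]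
    by_contra hne
    have hc := mem_centralizer_singleton_iff.1 (hOc ho)
    have h1 : y i ∈ fac M.toNatV (sg M.toNatV hoP i) := by
      rw [← conj_fac M.toNatV hoP, mem_cj]
      have e : o⁻¹ * y i * o = y i := by
        calc o⁻¹ * y i * o = o⁻¹ * (y i * o) := by group
          _ = y i := by rw [← hc]; group
      rw [e]; exact hy i
    have h2 : y i ∈ fac M.toNatV (sg M.toNatV hoP i) ⊓ fac M.toNatV i := ⟨h1, hy i⟩
    rw [fac_inf M.toNatV hne, mem_bot] at h2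
    exact hy1 i h2
  by_cases hcen : O ≤ centralizer (fac M.toNatV i : Set G)
  · right
    intro r hr hr1 g hg v hv
    obtain ⟨t, ht, e⟩ := exists_grp M.toNatV (hy i) hr (hy1 i) hr1
    rw [← e, o2_cent_conj, mem_cj] at hg
    have h1 : t⁻¹ * v * t ∈ fac M.toNatV i :=
      Cfsg.Agent.Omega.IITwo.Count.conj_mem' (grp_normalizes M.toNatV {i} {i} ht) hv
    have h2 := mem_centralizer_iff.1 (hcen hg) _ h1
    calc g * v = t * (t⁻¹ * g * t * (t⁻¹ * v * t)) * t⁻¹ := by group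
      _ = t * (t⁻¹ * v * t * (t⁻¹ * g * t)) * t⁻¹ := by rw [h2]
      _ = v * g := by group
  · left
    refine nm_of_o2 (pre M.toNatV i) (hy i) (hy1 i) (o2_isPGroup _) (hOs.trans (stab_normalizes _ i))
      (fun o ho => Nm_stab (SP M) M.toNatV i o (hOs ho)) (fun o ho => mem_centralizer_singleton_iff.1 (hOc ho))
      (fun n _ hnr => VModule.le_normalizer_o2 _ (mem_centralizer_singleton_iff.2 hnr)) hcen

end one

section two

variable {G : Type u} [Group G] [Finite G] {F F' : Type} [Field F] [Finite F] [CharP F 2] [Field F'] [Finite F']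
  [CharP F' 2] {S S' : Sylow 2 G} {P V D P' V' D' : Subgroup G} {k k' : ℕ}

/-- `O₂(C_G(r))` does not centralise both `V_i` and `V'_{i'}`. -/
theorem not_both {M : NatD F S P V D k} {M' : NatD F' S' P' V' D' k'} {i : Fin k} {i' : Fin k'}
    (L : LineD M M' i i')
    (h : ∀ r ∈ fac M.toNatV i, r ≠ 1 → ∀ g ∈ o2 (centralizer ({r} : Set G)), ∀ v ∈ fac M.toNatV i, g * v = v * g)
    (h' : ∀ r ∈ fac M'.toNatV i', r ≠ 1 → ∀ g ∈ o2 (centralizer ({r} : Set G)), ∀ v ∈ fac M'.toNatV i',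
      g * v = v * g) : False := by
  obtain ⟨r, hr, hr1⟩ := (Subgroup.bot_or_exists_ne_one (line M.toNatV i)).resolve_left
    (line_ne_bot' (M := M.toNatV) i)
  have hrf := line_le _ _ hr
  have hrf' : r ∈ fac M'.toNatV i' := by
    rw [L.eq'] at hr
    exact line_le _ _ hr
  obtain ⟨v, hv, w, hw, hne⟩ := L.ne
  have hr2 : r ^ 2 = 1 := by
    rw [pow_two]
    exact NV.sq M.toNatV hrf.1
  have hch := MinSimple.Basic.char2_centralizer M.hG hr2 hr1
  have h1 : v ∈ o2 (centralizer ({r} : Set G)) := hch (mem_inf.2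
    ⟨mem_centralizer_singleton_iff.2 (NV.comm M.toNatV hv.1 hrf.1),
      mem_centralizer_iff.2 fun y hy => h r hrf hr1 y hy v hv⟩)
  exact hne (h' r hrf' hr1 v h1 w hw)

/-- **For a mixed pair, `N_G(V_i)` or `N_G(V'_{i'})` is semilinear.** -/
theorem nm_or {M : NatD F S P V D k} {M' : NatD F' S' P' V' D' k'} {i : Fin k} {i' : Fin k'}
    (L : LineD M M' i i') (hC : ∀ i, QL M i ≤ (S : Subgroup G)) (hC' : ∀ i, QL M' i ≤ (S' : Subgroup G))
    (hu : ¬ UnM M i) (hu' : ¬ UnM M' i') :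
    (∀ g ∈ normalizer (fac M.toNatV i : Set G), (pre M.toNatV i).Nm g) ∨
      ∀ g ∈ normalizer (fac M'.toNatV i' : Set G), (pre M'.toNatV i').Nm g := by
  rcases nm_or_cent hC (fun m => (fullAt_of L hC hC' hu).all m) i with h | h
  · exact Or.inl h
  · rcases nm_or_cent hC' (fun m => (fullAt_of (lineD_symm L) hC' hC hu').all m) i' with h' | h'
    · exact Or.inr h'
    · exact (not_both L h h').elim

end two

end Cfsg.Agent.Omega.IId.NV

end

end

-- merged: Cfsg.Agent.Mrg.Omega.IId.CvBig.MixDrive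
section

/-!
# CvBig: `BigMix K` from helper796's `big2A4`

`D = 1`: helper468's `mix_free`; `q = 2`: `big2A2` and `mixK_end`; `q ≥ 4`: `mixed_false_of`.
-/

set_option autoImplicit false

namespace Cfsg.Agent.Omega.IId.Cv

open Cfsg Cfsg.Agent.Omega.Frame Cfsg.Agent.Omega.IId.NV

universe u

/-- **`BigMix K`** from `big2A4`. -/
theorem bigMix_of (h : Big2A4P.{u}) (K : Cls.{u}) : BigMix K := by
  intro G _ _ S S' hH P P' _ F F' _ _ _ _ _ _ V V' D D' k k' M M' hk _ hC hC' _ i i' e hu hu'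
  have L := lineD_of_ent e
  exfalso
  by_cases h0 : D = ⊥
  · subst h0
    exact mix_free L hC hC' hu hu' (by omega)
  · rcases FrameFF.two_le_card (F := F) with hq | hq
    · obtain ⟨v, hv, w, hw, hne⟩ := e.ne
      obtain ⟨T₁, hT⟩ := big2A2 K G S hH P F V D k M hk hC h0 i ⟨w, e.le_KX' hw, v, hv, Ne.symm hne⟩ hq
      exact mixK_end L hC hC' hu hu' (by omega) hT.two hT.fac hT.line hT.syl
    · exact mixed_false_of h L hC hC' hu hu' hk h0 hq

end Cfsg.Agent.Omega.IId.Cv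

end

-- merged: Cfsg.Agent.Mrg.Omega.IId.CvBig.U2End
section

/-!
# `BigU2` (bb OMEGA 22450): `T₁` is not a Sylow 2-subgroup of `G`, `q = 2`: contradiction

* `SitT.exists_insT₀`, `InsT.parX`, `InsT.exists_Y` : the inputs of `Par.false_of`;
* **`Cv.bigU2 : BigU2 K`**.
-/

set_option autoImplicit false
set_option linter.unusedSectionVars false

namespace Cfsg.Agent.Omega.IId.NV.BigD

open Subgroup Pointwise Cfsg Cfsg.Agent.ZN Cfsg.Agent.ZN.ChoiceBase
open Cfsg.Agent.Omega.MinPar Cfsg.Agent.Omega.FFThm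
open Cfsg.Agent.MinSimple.VModule (o2_isPGroup)
open Cfsg.Agent.Omega.IId.NV
open Cfsg.Agent.Omega.IId.Big (Fr Vo conj_mem norm_of comm_of_conj conj_of_comm isPGroup_of_sq le_Vo Vo_le
  cent_of_closure KK_le_XX XX_le)
open Triangle (KK KK_conj KK_le_o2 mem_cent mem_KK mem_zpowers_iff_of_sq cent_conj o2_cent_conj)
open Cfsg.Agent.Omega.BTwo (BT BTS WW QQ CenX pt)
open Cfsg.Agent.Omega.NatPair (NatMod PreMod)

universe u

local notation "cz" v:max => centralizer ({v} : Set _)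
local notation "qz" v:max => ZN.o2 (centralizer ({v} : Set _))

section frame

variable {G : Type u} [Group G] [Finite G] {F : Type} [Field F] [Finite F] [CharP F 2] {S : Sylow 2 G}
  {P V D : Subgroup G} {k : ℕ} {M : NatD F S P V D k}

theorem SitT.exists_insT₀ {i : Fin k} {T : Subgroup G} (h : SitT M i T) (hC : ∀ l, QL M l ≤ (S : Subgroup G)) :
    ∃ (N : NatMod F (fac M.toNatV i)) (o : BTwo.Pt N), InsT M i T (pt N) o := by
  obtain ⟨N, b⟩ := bts_big_two M hC h.two h.unm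
  exact ⟨N, ⟨N.line ![1, 0], ![1, 0], FourSide.vec_ne, rfl⟩, { h with bts := b.bts, ro := b.line }⟩

namespace InsT

variable {i : Fin k} {T : Subgroup G} {κ : Type*} {R : κ → Subgroup G} {o : κ} (h : InsT M i T R o)
include h

theorem XX_le_XX : BTwo.XX (fac M.toNatV i) R ≤ Big.XX (fac M.toNatV) i := by
  refine iSup_le fun j g hg => ?_
  obtain ⟨v, hv, hv1⟩ := h.bts.exists_ne j
  exact KK_le_XX (h.bts.R_le j hv) hv1 (h.WW_le hv hv1 hg)

/-- the instance `Par` -/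
theorem parX {r : G} (hr : ∀ x, x ∈ R o ↔ x = 1 ∨ x = r) (hr1 : r ≠ 1)
    (hS : ∀ S₁ : Sylow 2 G, (S₁ : Subgroup G) ≠ T) (hD : D ≠ ⊥) :
    HT.OtCore.Par T (fac M.toNatV i) (Big.XX (fac M.toNatV) i) r := by
  have hri : r ∈ line M.toNatV i := by rw [← h.ro]; exact (hr r).2 (Or.inr rfl)
  have hot := h.otdT hr hr1
  have hcen : ∀ {z : G}, (∀ v ∈ fac M.toNatV i, v ≠ 1 → ∀ g ∈ KK v, g * z = z * g) →
      ∀ x ∈ Big.XX (fac M.toNatV) i, x * z = z * x := fun {z} hz x hx =>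
    mem_cent.1 (XX_le (B := cz z) (fun v hv hv1 g hg => mem_cent.2 (hz v hv hv1 g hg)) hx)
  refine
    { hG := h.c2
      ot := { hot with
              X_V := XX_V h.fr i
              trans := fun v hv hv1 => XX_trans h.fr (line_le _ i hri) hv hr1 hv1 }
      WV := h.WV i
      zT := ?_
      dec := ?_
      two := ?_ }
  · intro u hu hu1
    have h1 : ∀ l, ∀ y ∈ fac M.toNatV l, y ∈ qz u := fun l y hy => h.fr.VQ i l u hu hu1 hy
    have h2 : zc (qz u) ≤ centralizer (V : Set G) := by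
      intro z hz
      refine mem_centralizer_iff.2 fun y hy => ?_
      have h3 : (⨆ l, fac M.toNatV l) ≤ cz z := iSup_le fun l y hy =>
        mem_cent.2 ((ZN.mem_zc.1 hz).2.1 y (h1 l y hy))
      exact mem_cent.1 (h3 (V_le_iSup hy))
    have h3 : centralizer (V : Set G) ≤ normalizer (zc (qz u) : Set G) := by
      have h4 : centralizer (V : Set G) ≤ cz u := fun x hx =>
        mem_cent.2 (mem_centralizer_iff.1 hx u (NV.fac_le _ i hu)).symm
      exact h4.trans ((ZN.le_normalizer_o2 _).trans (MinSimple.VModule.normalizer_le_normalizer_zc _))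
    exact (le_o2_of_cent (M := M) ((o2_isPGroup _).to_le (ZN.zc_le _)) h2 h3).trans h.o2_T
  · intro c hc hcc hTc
    obtain ⟨u, hu, hz⟩ := h.decT hri hr1 (ZN.mem_zc.2 ⟨hc, hTc, by rw [pow_two]; exact hcc⟩)
    have h1 := hcen (h.cen_ofT hz)
    rcases hu with rfl | rfl
    · left
      intro x hx
      have := h1 x hx
      rwa [one_mul] at this
    · right
      intro x hx
      have := h1 x hx
      rwa [← hTc u (hot.V_T hot.r_mem)]
  · obtain ⟨x, hx, y, hy, hx1, hy1, hxy⟩ := h.twoT hS hD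
    have hm : ∀ {x : G}, x ∈ zc T ⊓ centralizer ((T ⊔ BTwo.XX (fac M.toNatV i) R : Subgroup G) : Set G) → x ≠ 1 →
        x * x = 1 ∧ x ≠ 1 ∧ (∀ t ∈ T, t * x = x * t) ∧ ∀ g ∈ Big.XX (fac M.toNatV) i, g * x = x * g :=
      fun {x} hx hx1 => ⟨by rw [← pow_two]; exact (ZN.mem_zc.1 hx.1).2.2, hx1, (ZN.mem_zc.1 hx.1).2.1,
        hcen (h.cen_ofT hx)⟩
    exact ⟨x, ZN.zc_le _ hx.1, y, ZN.zc_le _ hy.1, hm hx hx1, hm hy hy1, hxy⟩

/-- the instance `Wd` -/
theorem exists_Y {r c : G} (hr : ∀ x, x ∈ R o ↔ x = 1 ∨ x = r) (hr1 : r ≠ 1)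
    (hp : HT.OtCore.Par T (fac M.toNatV i) (Big.XX (fac M.toNatV) i) r) (hc : c ∈ zc T)
    (hcX : c ∈ CenX (fac M.toNatV i) R) (hs : HT.Sig (fac M.toNatV i) R o c) :
    ∃ Y ≤ cz (c * r), HT.TComp.GSysW (cz (c * r)) Y r := by
  have hri : r ∈ line M.toNatV i := by rw [← h.ro]; exact (hr r).2 (Or.inr rfl)
  obtain ⟨v, hv, hsd⟩ := h.exists_sd hri hr1
  subst hv
  have hcZ : c ∈ zc T ⊓ centralizer ((T ⊔ BTwo.XX (fac M.toNatV i) R : Subgroup G) : Set G) := by
    refine ⟨hc, ?_⟩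
    have h2 : T ⊔ BTwo.XX (fac M.toNatV i) R ≤ cz c :=
      sup_le (fun t ht => mem_cent.2 ((ZN.mem_zc.1 hc).2.1 t ht)) fun x hx => mem_cent.2 (mem_centralizer_iff.1 hcX x hx)
    exact mem_centralizer_iff.2 fun x hx => mem_cent.1 (h2 hx)
  refine CvBig.U2W.Wd.exists_Y (S := S) (Q := ZN.o2 P) (V := fac M.toNatV) (v := v) (i := i) (T := T) (c := c)
    { sd := hsd
      Tp := h.T_p
      T1T := ?_
      TV := fun t ht x hx => (mem_normalizer_iff.1 (h.T_fac ht) x).1 hx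
      Tc := h.T_czT hri
      odd := h.oddT hri hr1
      cQ := h.zcT_le hc
      cN := ?_
      hU := ?_ } h.c2
  · rintro t ⟨ht, htv⟩
    refine h.st_T (mem_inf.2 ⟨ht, mem_normalizer_iff.2 fun x => ⟨fun hx => hsd.fix_line ht (mem_cent.1 htv) hx, fun hx => ?_⟩⟩)
    have h2 := hsd.fix_line (inv_mem ht) ((show Commute t (v i) from mem_cent.1 htv).inv_left).eq hx
    have e : t⁻¹ * (t * x * t⁻¹) * t⁻¹⁻¹ = x := by group
    rwa [e] at h2
  · intro g hg
    have hgN : g ∈ normalizer (fac M.toNatV i : Set G) := CvBig.U2W.mem_norm hg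
    obtain ⟨d, hd, e⟩ := h.trans_V (v := g * v i * g⁻¹) (w := v i) (hg _ (line_le _ i hri)) (line_le _ i hri)
      (cj_ne_one hr1) hr1
    have h1 : d * g ∈ normalizer (fac M.toNatV i : Set G) := mul_mem (h.bts.X_le_NV hd) hgN
    have h2 : d * g ∈ normalizer (R o : Set G) := by
      rw [h.norm_R ((hr _).2 (Or.inr rfl)) hr1]
      refine mem_cent.2 (comm_of_conj ?_)
      calc d * g * v i * (d * g)⁻¹ = d * (g * v i * g⁻¹) * d⁻¹ := by group
        _ = v i := e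
    have h3 := HT.Sig.comm h.httT hr hcZ hs h2 h1
    have h4 : d * c = c * d := mem_centralizer_iff.1 hcX d hd
    apply mul_left_cancel (a := d)
    calc d * (g * c) = d * g * c := by group
      _ = c * d * g := by rw [h3]; group
      _ = d * (c * g) := by rw [← h4]; group
  · intro w hw _ hwv x hx
    exact hp.mem_zc hw (fun e => hwv (mem_cent.2 (comm_of_conj e))) hx

theorem false_of (hS : ∀ S₁ : Sylow 2 G, (S₁ : Subgroup G) ≠ T) (hD : D ≠ ⊥) : False := by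
  obtain ⟨r, hr1, -, hr⟩ := h.httT.exists_gen o
  have hri : r ∈ line M.toNatV i := by rw [← h.ro]; exact (hr r).2 (Or.inr rfl)
  have hp := h.parX hr hr1 hS hD
  obtain ⟨w, hw, -, -, hwv⟩ := h.exists_swapT hS
  exact hp.false_of h.bts hr (h.otdT hr hr1) h.XX_le_XX (h.toIns0.le h.unm) hw (hwv r hri hr1)
    fun c hc hcX _ hs => h.exists_Y hr hr1 hp hc hcX hs

end InsT

end frame

end Cfsg.Agent.Omega.IId.NV.BigD

namespace Cfsg.Agent.Omega.IId.Cv

open Subgroup Cfsg Cfsg.Agent.Omega.MinPar Cfsg.Agent.Omega.Frame Cfsg.Agent.Omega.FFThm Cfsg.Agent.Omega.FrameMulti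
open Cfsg.Agent.Omega.IId.NV.BigD (Sit0 SitT)

universe u

/-- **`BigU2`** -/
theorem bigU2 (K : Cls.{u}) : BigU2 K := by
  intro G _ _ S hH P F _ _ _ V D k M hk hC hD i hu T hT hS hq
  have h0 : SitT M i T := { Sit0.of_unm hq (by omega) (NV.BigD.ccd M hq) hu with unm := hu, ov := hT }
  obtain ⟨N, o, h⟩ := h0.exists_insT₀ hC
  exact h.false_of hS hD

end Cfsg.Agent.Omega.IId.Cv

end

-- merged: Cfsg.Agent.Mrg.Omega.IId.CvBig.US4
section

section


/-!
# `BigUS4` (`k > 2`, `q ≥ 4`, `T₁` a Sylow 2-subgroup of `G`) from `ChainT`, `EndL`, LEMMA NORM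

`bigUS4_of : ChainT → EndL → NmBig → BigUS4 K`.
-/

set_option autoImplicit false
set_option linter.unusedSectionVars false

namespace Cfsg.Agent.Omega.IId.Cv

open Subgroup Pointwise Cfsg Cfsg.Agent.ZN Cfsg.Agent.ZN.ChoiceBase
open Cfsg.Agent.Omega.MinPar Cfsg.Agent.Omega.Frame Cfsg.Agent.Omega.FFThm Cfsg.Agent.Omega.FrameMulti
open Cfsg.Agent.Omega.NatPair (NatMod)
open Cfsg.Agent.Omega.HOne.Cut (EndL)

universe u

/-- **`T₁` is a Sylow 2-subgroup of `G`, `q ≥ 4`, `k > 2`** -/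
theorem bigUS4_of {K : Cls.{u}} (hCh : ChainT.{u}) (hE : EndL.{u}) (hNm : NmBig.{u}) : BigUS4 K := by
  intro G _ _ S hH P F _ _ _ V D k M _ hC hD i hu T₁ hT h4
  obtain ⟨N, e⟩ := NV.bts_big M hC (hNm G S P F V D k M hC i hu h4) hu
  obtain ⟨o, ho⟩ : ∃ o, BTwo.pt N o = NV.line M.toNatV i := ⟨⟨N.line ![1, 0], _, vec_one_ne, rfl⟩, e.line⟩
  refine known_four hCh hE (hH.conj T₁).toHyp h4 N e.bts (o := o) hT.fac ?_
    fun h => hD (le_bot_iff.1 (e.cenD.trans h.le))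
  rw [ho]
  exact hT.line

end Cfsg.Agent.Omega.IId.Cv

end

section


/-!
# `BigU4` (`q ≥ 4`, `T₁ ≥ T` not Sylow in `G`): the end (helper958 #21752, (T2))

`M : NatD F S P V D k`, `V_i` unmixed (`BtsK M i N`), `R = line M i`, `T₁` with `OverT M i T₁`, `D ≠ 1`, `q ≥ 4`.
The chain over `T₁` gives `G₀`, the identification `IdU` gives `X_b` (`G₀ = Sp_{2n}(q)` or `F₄(q)`).

* `norm_le_Qa`, `QL_eq` : `N_G(R) ≤ N_G(Q_a)`, `O₂(N_G(R)) = Q_a`;
* `exists_zc_b` : `u ∈ U_a`, `u ∉ R`, `u ∈ C(X)` is conjugate in `N(G₀) ∩ N(R)` to an element of `X_b ∩ Ω₁(Z(T₁))`;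
* `exists_norm_T` : an element of `Ω₁(Z(T₁))` conjugate to `r ∈ Ω₁(Z(T₁))` is so in `N_G(T₁)`;
* `killU` : `ChainT`, `IdU` give a contradiction; `bigU4_of` : the socket `BigU4 K` from `ChainT`, `IdU`, `NmBig`.
-/

set_option autoImplicit false
set_option linter.unusedSectionVars false

namespace Cfsg.Agent.Omega.IId.Cv

open Subgroup Pointwise Cfsg Cfsg.Agent.ZN Cfsg.Agent.ZN.ChoiceBase
open Cfsg.Agent.Omega.MinPar Cfsg.Agent.Omega.Frame Cfsg.Agent.Omega.FFThm Cfsg.Agent.Omega.FrameMulti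
open Cfsg.Agent.Omega.NatPair (ap NatMod)
open Cfsg.Agent.Omega.HOneEnd (EndIn)
open Cfsg.Agent.Omega.IId.M4 (FK SpK mem_other)
open Cfsg.Agent.Omega.HOne.TLift (SitT OutT)
open Cfsg.Agent.Omega.HOneQ.SylIOf (TSyl)
open Cfsg.Agent.Omega.All.HOne (Side)
open Cfsg.Agent.MinSimple

universe u

/-! ### `O₂(N_G(R)) = Q_a` -/

section QL

variable {G : Type u} [Group G]

theorem cj_cs (g x : G) : cj g (centralizer ({x} : Set G)) = centralizer ({g * x * g⁻¹} : Set G) := by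
  ext w
  rw [mem_cj_iff, mem_centralizer_singleton_iff, mem_centralizer_singleton_iff]
  constructor
  · intro h
    calc w * (g * x * g⁻¹) = g * (g⁻¹ * w * g * x) * g⁻¹ := by group
      _ = g * x * g⁻¹ * w := by rw [h]; group
  · intro h
    calc g⁻¹ * w * g * x = g⁻¹ * (w * (g * x * g⁻¹)) * g := by group
      _ = x * (g⁻¹ * w * g) := by rw [h]; group

variable [Finite G] {T Y Ca R Qa Ua : Subgroup G}

/-- `N_G(R) ≤ N_G(Q_a)` -/
theorem norm_le_Qa (N : SylM T R) (D : Side T Y Ca R Qa Ua) (hCQ : Ca ≤ normalizer (Qa : Set G))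
    (hG : IsCharacteristicTwoType G) : normalizer (R : Set G) ≤ normalizer (Qa : Set G) := by
  obtain ⟨z, -, hz, hz1⟩ := N.exists_z D
  intro g hg
  have h1 : g * z * g⁻¹ ∈ R := (mem_normalizer_iff.1 hg z).1 hz
  have h2 : g * z * g⁻¹ ≠ 1 := fun h => hz1 (by
    have e : z = g⁻¹ * (g * z * g⁻¹) * g := by group
    rw [e, h]; group)
  have h3 := N.o2_eq D hCQ hG h1 h2
  have h4 := N.o2_eq D hCQ hG hz hz1
  rw [mem_normalizer_iff_cj]
  calc cj g Qa = cj g (o2 (centralizer ({z} : Set G))) := by rw [h4]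
    _ = Qa := by rw [← ChoiceSit.o2_cj, cj_cs, h3]

/-- `O₂(N_G(R)) = Q_a` -/
theorem QL_eq (N : SylM T R) (D : Side T Y Ca R Qa Ua) (hCQ : Ca ≤ normalizer (Qa : Set G))
    (hG : IsCharacteristicTwoType G) (hc : o2 (normalizer (R : Set G)) ≤ centralizer (R : Set G)) :
    o2 (normalizer (R : Set G)) = Qa := by
  obtain ⟨z, -, hz, hz1⟩ := N.exists_z D
  have h4 := N.o2_eq D hCQ hG hz hz1
  have hcz := N.cen_le_X D hCQ hG hz hz1
  apply le_antisymm
  · rw [← h4]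
    refine VModule.le_o2 (hc.trans (centralizer_le ?_)) (VModule.o2_isPGroup _)
      (hcz.trans (VModule.le_normalizer_o2 _))
    intro w hw
    rw [Set.mem_singleton_iff] at hw
    rw [hw]; exact hz
  · have h5 : Qa ≤ centralizer ({z} : Set G) := by
      rw [← h4]; exact VModule.o2_le _
    refine VModule.le_o2 (h5.trans hcz) ?_ (norm_le_Qa N D hCQ hG)
    rw [← h4]
    exact VModule.o2_isPGroup _

/-- A 2-subgroup of `C` is conjugate in `C` into a Sylow 2-subgroup of `C`. -/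
theorem exists_cj_le_syl {C T X : Subgroup G} (hX : X ≤ C) (hTp : IsPGroup 2 T)
    (hXp : IsPGroup 2 X) (hidx : ¬ 2 ∣ T.relIndex C) : ∃ c ∈ C, cj c X ≤ T := by
  have : Fact (Nat.Prime 2) := ⟨Nat.prime_two⟩
  have hS' : IsPGroup 2 (T.subgroupOf C) := hTp.comap_of_injective C.subtype Subtype.val_injective
  have hX' : IsPGroup 2 (X.subgroupOf C) := hXp.comap_of_injective C.subtype Subtype.val_injective
  obtain ⟨Q, hQ⟩ := hX'.exists_le_sylow
  obtain ⟨c, hc⟩ := MulAction.exists_smul_eq C Q (hS'.toSylow hidx)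
  refine ⟨c, c.2, ?_⟩
  rintro _ ⟨y, hy, rfl⟩
  have h1 : (⟨y, hX hy⟩ : C) ∈ (Q : Subgroup C) := hQ (Subgroup.mem_subgroupOf.2 hy)
  have h2 : c * ⟨y, hX hy⟩ * c⁻¹ ∈ ((c • Q : Sylow 2 C) : Subgroup C) := by
    have : c * ⟨y, hX hy⟩ * c⁻¹ = (MulAut.conj c) • (⟨y, hX hy⟩ : C) := rfl
    rw [this]
    exact Subgroup.smul_mem_pointwise_smul _ _ _ h1
  rw [hc] at h2
  exact Subgroup.mem_subgroupOf.1 h2

/-- `r, z` centralised by `T`, `T` Sylow in `C_G(r)`, `z = r^h`: `z = r^s` with `s ∈ N_G(T)`. -/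
theorem exists_norm_T (hT : IsPGroup 2 T) {r z h : G}
    (hidx : ¬ 2 ∣ T.relIndex (centralizer ({r} : Set G))) (hz : T ≤ centralizer ({z} : Set G))
    (he : h * r * h⁻¹ = z) : ∃ s ∈ normalizer (T : Set G), s * r * s⁻¹ = z := by
  have h1 : cj h⁻¹ T ≤ centralizer ({r} : Set G) := by
    have h2 := cj_mono h⁻¹ hz
    rw [cj_cs] at h2
    have e : h⁻¹ * z * h⁻¹⁻¹ = r := by rw [← he]; group
    rwa [e] at h2
  obtain ⟨c, hc, hle⟩ := exists_cj_le_syl h1 hT (hT.map _) hidx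
  have h3 : cj (c * h⁻¹) T = T := by
    rw [← cj_cj]
    exact Subgroup.eq_of_le_of_card_ge hle (by rw [card_cj, card_cj])
  refine ⟨(c * h⁻¹)⁻¹, inv_mem (mem_normalizer_iff_cj.2 h3), ?_⟩
  rw [mem_centralizer_singleton_iff] at hc
  calc (c * h⁻¹)⁻¹ * r * (c * h⁻¹)⁻¹⁻¹ = h * (c⁻¹ * (r * c)) * h⁻¹ := by group
    _ = h * r * h⁻¹ := by rw [← hc]; group
    _ = z := he

end QL

/-! ### Elements of `Ω₁(Z(T))` in `X_b` -/

section bts

variable {G : Type u} [Group G] [Finite G] {F : Type} [Field F] {V : Subgroup G} {N : NatMod F V} {o : BTwo.Pt N}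

/-- `u ∈ U_a ∩ C(X)` outside `R` is conjugate to an element of `X_b ∩ Ω₁(Z(T))`. -/
theorem exists_zc_b (b : BTwo.BTS V (BTwo.pt N)) {T G₀ Xb Ua : Subgroup G}
    (zU : ∀ z ∈ T ⊓ G₀, T ⊓ G₀ ≤ centralizer ({z} : Set G) → ∃ x ∈ BTwo.pt N o, ∃ y ∈ Xb, z = x * y)
    (mix : ∀ x ∈ BTwo.pt N o, ∀ y ∈ Xb, x ≠ 1 → y ≠ 1 →
      G₀ ⊓ centralizer ({x * y} : Set G) ≤ normalizer (BTwo.pt N o : Set G))
    (hX : BTwo.XX V (BTwo.pt N) ≤ G₀) (hT : TypU T G₀ (BTwo.pt N o) Ua) {u : G} (hu : u ∈ Ua) (hG : u ∈ G₀)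
    (hc : u ∈ BTwo.CenX V (BTwo.pt N)) (hn : u ∉ BTwo.pt N o) :
    ∃ y, y * u * y⁻¹ ∈ zc T ∧ y * u * y⁻¹ ∈ Xb := by
  obtain ⟨y, hy, hyR, hz⟩ := hT u hu hn
  refine ⟨y, hz, ?_⟩
  obtain ⟨h1, h2, -⟩ := VModule.mem_zc.1 hz
  refine mem_other zU mix ⟨h1, (mem_normalizer_iff.1 hy u).1 hG⟩ ?_
    (fun h => hn ((mem_normalizer_iff.1 hyR u).2 h)) ?_
  · rintro t ⟨ht, -⟩
    exact mem_centralizer_singleton_iff.2 (h2 t ht)
  · intro h3
    apply X_not b o
    intro x hx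
    have h4 : y * x * y⁻¹ ∈ normalizer (BTwo.pt N o : Set G) := by
      apply h3
      refine mem_inf.2 ⟨(mem_normalizer_iff.1 hy x).1 (hX hx), ?_⟩
      rw [mem_centralizer_singleton_iff]
      have h5 := mem_centralizer_iff.1 hc x hx
      calc y * x * y⁻¹ * (y * u * y⁻¹) = y * (x * u) * y⁻¹ := by group
        _ = y * u * y⁻¹ * (y * x * y⁻¹) := by rw [h5]; group
    have h6 := mul_mem (mul_mem (inv_mem hyR) h4) hyR
    have e : y⁻¹ * (y * x * y⁻¹) * y = x := by group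
    rwa [e] at h6

end bts

/-! ### The end -/

section kill

variable {G : Type u} [Group G] [Finite G] {F : Type} [Field F] [Finite F] [CharP F 2] {S : Sylow 2 G}
  {P V D : Subgroup G} {k : ℕ} {M : NatD F S P V D k} {i : Fin k} {T₁ : Subgroup G}

/-- A conjugate of `S` in `N_G(R)`: `T₁` is Sylow in `G`. -/
theorem OverT.sylow_of (h : OverT M i T₁) {g : G}
    (hle : cj g (S : Subgroup G) ≤ normalizer (NV.line M.toNatV i : Set G)) :
    ∃ S₁ : Sylow 2 G, (S₁ : Subgroup G) = T₁ := by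
  obtain ⟨c, -, hc⟩ := exists_cj_le_syl hle h.two (S.isPGroup'.map _) h.syl
  obtain ⟨S₁, hS₁⟩ := h.two.exists_le_sylow
  refine ⟨S₁, (Subgroup.eq_of_le_of_card_ge hS₁ ?_).symm⟩
  have h1 : Nat.card (S₁ : Subgroup G) = Nat.card (S : Subgroup G) := by
    have : Fact (Nat.Prime 2) := ⟨Nat.prime_two⟩
    rw [S₁.card_eq_multiplicity, S.card_eq_multiplicity]
  have h2 := card_le_of_le hc
  rw [card_cj, card_cj] at h2
  rw [h1]; exact h2

/-- `D ∩ X_b^{..}`: no element of `D#` is conjugate into `R`. -/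
theorem OverT.no_D (h : OverT M i T₁) (hns : ∀ S₁ : Sylow 2 G, (S₁ : Subgroup G) ≠ T₁)
    (hcen : ∀ x ∈ NV.line M.toNatV i, x ≠ 1 →
      centralizer ({x} : Set G) ≤ normalizer (NV.line M.toNatV i : Set G)) {d g : G} (hd : d ∈ D) (hd1 : d ≠ 1)
    (hg : g * d * g⁻¹ ∈ NV.line M.toNatV i) : False := by
  have h1 : (S : Subgroup G) ≤ centralizer ({d} : Set G) := by
    intro s hs
    rw [mem_centralizer_singleton_iff]
    exact (mem_centralizer_iff.1 (M.cD (NV.SP M hs)) d hd).symm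
  have h2 := cj_mono g h1
  rw [cj_cs] at h2
  have h3 : g * d * g⁻¹ ≠ 1 := fun h => hd1 (by
    have e : d = g⁻¹ * (g * d * g⁻¹) * g := by group
    rw [e, h]; group)
  obtain ⟨S₁, hS₁⟩ := h.sylow_of (h2.trans (hcen _ hg h3))
  exact hns S₁ hS₁

/-- **CASE `T₁` not Sylow in `G`, `q ≥ 4`: contradiction.** -/
theorem killU (hC : ChainT.{u}) (hI : IdU.{u}) (ctx : Ctx G) (hQ : ∀ l, NV.QL M l ≤ (S : Subgroup G)) (hk : 2 ≤ k)
    (hD : D ≠ ⊥) {N : NatMod F (NV.fac M.toNatV i)} (e : NV.BtsK M i N) (h : OverT M i T₁)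
    (hns : ∀ S₁ : Sylow 2 G, (S₁ : Subgroup G) ≠ T₁) (h4 : 4 ≤ Nat.card F) : False := by
  have hG := M.hG
  obtain ⟨o, ho⟩ : ∃ o, BTwo.pt N o = NV.line M.toNatV i := ⟨⟨N.line ![1, 0], _, vec_one_ne, rfl⟩, e.line⟩
  have hTR : T₁ ≤ normalizer (BTwo.pt N o : Set G) := by rw [ho]; exact h.line
  have hodd : Odd (T₁.relIndex (normalizer (BTwo.pt N o : Set G))) := by
    rw [ho, ← Nat.not_even_iff_odd, even_iff_two_dvd]
    exact h.syl
  have hX0 : BTwo.CenX (NV.fac M.toNatV i) (BTwo.pt N) ≠ ⊥ := fun h0 => hD (le_bot_iff.1 (e.cenD.trans h0.le))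
  obtain ⟨G₀, U, v, O⟩ := hC G T₁ F (NV.fac M.toNatV i) N
    { ctx := ctx
      two := h.two
      le_N := h.fac
      exists_pt := ⟨o, hTR, hodd⟩
      bts := e.bts
      four := h4
      CenX_ne := hX0 } o ⟨h.two, h.fac, hTR, hodd⟩
  have hX := O.X_le
  have hQ' : NV.QL M i ≤ G₀ := by
    have h0 := O.Q_le
    rw [ho] at h0
    exact h0
  have hR4 : 4 ≤ Nat.card (BTwo.pt N o) := by
    rw [ho, ← e.line, N.card_line vec_one_ne]
    exact h4
  have N1 : SylM T₁ (BTwo.pt N o) := by rw [ho]; exact h.sylM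
  obtain ⟨d, hd1⟩ := (Subgroup.ne_bot_iff_exists_ne_one).1 hD
  have hd0 : (d : G) ≠ 1 := fun h => hd1 (Subtype.ext h)
  obtain ⟨j, hj⟩ : ∃ j : Fin k, j ≠ i := by
    have : Nontrivial (Fin k) := Fin.nontrivial_iff_two_le.2 hk
    exact exists_ne i
  have key : ∀ {Xb Ca Qa Ua : Subgroup G}, Side T₁ (normalizer (G₀ : Set G)) Ca (BTwo.pt N o) Qa Ua →
      Ca ≤ normalizer (Qa : Set G) →
      (∀ z ∈ T₁ ⊓ G₀, T₁ ⊓ G₀ ≤ centralizer ({z} : Set G) → ∃ x ∈ BTwo.pt N o, ∃ y ∈ Xb, z = x * y) →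
      (∀ x ∈ BTwo.pt N o, ∀ y ∈ Xb, x ≠ 1 → y ≠ 1 →
        G₀ ⊓ centralizer ({x * y} : Set G) ≤ normalizer (BTwo.pt N o : Set G)) →
      TypU T₁ G₀ (BTwo.pt N o) Ua →
      (∀ s ∈ normalizer (T₁ : Set G), ∀ r ∈ BTwo.pt N o, r ≠ 1 → s * r * s⁻¹ ∈ Xb → cj s (BTwo.pt N o) = Xb) →
      False := by
    intro Xb Ca Qa Ua D1 hCQ zU mix hty hsw
    have hQa : NV.QL M i = Qa := by
      rw [← QL_eq N1 D1 hCQ hG (by rw [ho]; exact NV.o2_cent_line' M i), ho]
      rfl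
    have hUa : zc (NV.QL M i) ≤ Ua := by
      rw [D1.U_eq, ← hQa]
      intro x hx
      obtain ⟨h1, h2, -⟩ := VModule.mem_zc.1 hx
      exact ⟨h1, mem_centralizer_iff.2 fun y hy => h2 y hy⟩
    have hcen : ∀ x ∈ NV.line M.toNatV i, x ≠ 1 →
        centralizer ({x} : Set G) ≤ normalizer (NV.line M.toNatV i : Set G) := by
      rw [← ho]
      exact fun x hx h1 => N1.cen_le_X D1 hCQ hG hx h1
    obtain ⟨r, hrz, hr, hr1⟩ := N1.exists_z D1
    have hrl : r ∈ NV.line M.toNatV i := ho ▸ hr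
    obtain ⟨t, ht, htj⟩ := NV.exists_trans M.toNatV (NV.SP M) i j
    have hu : t * r * t⁻¹ ∈ NV.fac M.toNatV j := by
      rw [← htj, mem_cj_iff]
      have e1 : t⁻¹ * (t * r * t⁻¹) * t = r := by group
      rw [e1]
      exact NV.line_le _ _ hrl
    have hun : t * r * t⁻¹ ∉ BTwo.pt N o := by
      rw [ho]
      intro h0
      have h1 : t * r * t⁻¹ ∈ NV.fac M.toNatV i ⊓ NV.fac M.toNatV j := ⟨NV.line_le _ _ h0, hu⟩
      rw [NV.fac_inf M.toNatV hj.symm, mem_bot] at h1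
      apply hr1
      have e1 : r = t⁻¹ * (t * r * t⁻¹) * t := by group
      rw [e1, h1]; group
    have hul := NV.fac_le_zc M hQ hj hu
    obtain ⟨y, hyz, hyb⟩ := exists_zc_b e.bts zU mix hX hty (hUa hul) (hQ' (VModule.zc_le _ hul)) (e.cen j hj hu) hun
    have hTr : T₁ ≤ centralizer ({r} : Set G) := fun w hw =>
      mem_centralizer_singleton_iff.2 ((VModule.mem_zc.1 hrz).2.1 w hw)
    have hidx : ¬ 2 ∣ T₁.relIndex (centralizer ({r} : Set G)) := fun h2 => h.syl (h2.trans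
      ⟨_, (Subgroup.relIndex_mul_relIndex T₁ _ _ hTr (hcen r hrl hr1)).symm⟩)
    obtain ⟨s, hs, hsz⟩ := exists_norm_T h.two hidx
      (fun w hw => mem_centralizer_singleton_iff.2 ((VModule.mem_zc.1 hyz).2.1 w hw))
      (h := y * t) (show y * t * r * (y * t)⁻¹ = y * (t * r * t⁻¹) * y⁻¹ by group)
    have hXb := hsw s hs r hr hr1 (by rw [hsz]; exact hyb)
    have hdz := NV.D_le_zcQL M hQ i d.2
    have hdn : (d : G) ∉ BTwo.pt N o := by
      intro h
      rw [ho] at h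
      have h1 : (d : G) ∈ V ⊓ D := ⟨NV.fac_le _ _ (NV.line_le _ _ h), d.2⟩
      rw [M.inf, mem_bot] at h1
      exact hd0 h1
    obtain ⟨y', -, hy'⟩ := exists_zc_b e.bts zU mix hX hty (hUa hdz) (hQ' (VModule.zc_le _ hdz)) (e.cenD d.2) hdn
    rw [← hXb, mem_cj_iff] at hy'
    refine h.no_D hns hcen d.2 hd0 (g := s⁻¹ * y') ?_
    rw [← ho]
    have e1 : s⁻¹ * y' * (d : G) * (s⁻¹ * y')⁻¹ = s⁻¹ * (y' * d * y'⁻¹) * s := by group
    rw [e1]
    exact hy'
  rcases hI G hG _ G₀ U _ v O.endIn hR4 with ⟨Xb, Ca, Cb, Qa, Qb, Ua, k, ht⟩ | ⟨Xb, Ca, Cb, Qa, Qb, Ua, Ub, k, ht⟩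
  · refine key k.side_a k.C_Qa k.zU k.mix ht fun s hs r hr hr1 h5 => ?_
    exact (N1.swap_false k.side_a k.C_Qa hG hs hr hr1 h5 k.C_X k.T_C k.Q_max k.fld k.abel).elim
  · refine key k.side_a k.C_Qa k.zU k.mix ht fun s hs r hr hr1 h5 => ?_
    exact N1.swap_X k.side_a k.C_Qa hG hs hr hr1 h5 k.side_b

end kill

/-- **`BigU4`** from the chain over `T`, the identification and LEMMA NORM. -/
theorem bigU4_of {K : Cls.{u}} (hC : ChainT.{u}) (hI : IdU.{u}) (hN : NmBig.{u}) : BigU4 K := by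
  intro G _ _ S hH P F _ _ _ V D k M hk hQ hD i hu T₁ hT hns h4
  obtain ⟨N, e⟩ := NV.bts_big M hQ (hN G S P F V D k M hQ i hu h4) hu
  exact killU hC hI hH.toHyp.ctx hQ (by omega) hD e hT hns h4

end Cfsg.Agent.Omega.IId.Cv

end

end

-- merged: Cfsg.Agent.Omega.IId.CvNS.Opp
section

/-!
# II.d, `CvNonsplit`, all `k ≥ 2`: OPPOSITE TRANSVECTION GROUPS (helper78, bb #20998), abstract part

`Dat M Y e f g n κ` : `Y` elementary abelian, normalised by `M`; `e, g : F → Y` additive and independent, `M` centralises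
`e(F)`; `f : F → M` acts on `Y` by `y ↦ y e(w t²) g(w t)`, `t = t(y)`; `n ∈ M` with `t(n g(x) n⁻¹) = κ x` and
`n² g(x) n⁻² ∈ g(x) e(F)`.  (`M = C_G(Z₁)`, `Z₁ = e(F)`, `Y = Ω₁(Z(O₂(M)))`, `U₁ = g(F)`, `f(F) ⊆ N₁`, `n` a Weyl element of
`E'¹`.)

* `exists_conj_comm` : `B` finite, `T ≥ [B, B]` a 2-group, `k, h` `r`-elements, `r` odd: some conjugate of `k` commutes
  with `h`;
* `Dat.main` : an `r`-element `h ∈ M` commuting with `f(F)`, `g(F)`, `r ∣ |F| - 1` odd; then some `x ∈ M` commutes with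
  `[Y, h]` and `x g(1) x⁻¹` is not centralised by `f(F)`.
-/

set_option autoImplicit false
set_option linter.unusedSectionVars false
set_option linter.unusedVariables false

namespace Cfsg.Agent.Omega.IId.CvNS.Opp

open Subgroup

universe u

/-! ### The group theoretic lemma -/

theorem eq_one_of_two {B : Type*} [Group B] {r : ℕ} (hr : r.Prime) (h2 : r ≠ 2) {c : B} {i j : ℕ}
    (h1 : c ^ 2 ^ i = 1) (h3 : c ^ r ^ j = 1) : c = 1 := by
  have hc : Nat.Coprime (2 ^ i) (r ^ j) :=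
    Nat.Coprime.pow _ _ ((Nat.coprime_primes Nat.prime_two hr).2 (Ne.symm h2))
  have h4 : orderOf c ∣ Nat.gcd (2 ^ i) (r ^ j) :=
    Nat.dvd_gcd (orderOf_dvd_of_pow_eq_one h1) (orderOf_dvd_of_pow_eq_one h3)
  rw [hc] at h4
  exact orderOf_eq_one_iff.1 (Nat.dvd_one.1 h4)

theorem exists_conj_comm {B : Type*} [Group B] [Finite B] (T : Subgroup B) (hT : IsPGroup 2 T)
    (hc : ∀ a b : B, a * b * a⁻¹ * b⁻¹ ∈ T) {r : ℕ} (hr : r.Prime) (h2 : r ≠ 2) (k h : B)
    (hk : ∃ i, k ^ r ^ i = 1) (hh : ∃ i, h ^ r ^ i = 1) :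
    ∃ w : B, (w * k * w⁻¹) * h = h * (w * k * w⁻¹) := by
  have hf : Fact r.Prime := ⟨hr⟩
  have key : ∀ x : B, (∃ i, x ^ r ^ i = 1) → ∃ R : Sylow r B, x ∈ R := by
    rintro x ⟨i, hi⟩
    have h1 : IsPGroup r (zpowers x) := by
      rw [IsPGroup]
      rintro ⟨y, hy⟩
      obtain ⟨j, rfl⟩ := mem_zpowers_iff.1 hy
      refine ⟨i, Subtype.ext ?_⟩
      change (x ^ j) ^ r ^ i = 1
      rw [← zpow_natCast, ← zpow_mul, mul_comm, zpow_mul, zpow_natCast, hi, one_zpow]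
    obtain ⟨R, hR⟩ := h1.exists_le_sylow
    exact ⟨R, hR (mem_zpowers x)⟩
  obtain ⟨R, hR⟩ := key h hh
  obtain ⟨R', hR'⟩ := key k hk
  obtain ⟨w, hw⟩ := MulAction.exists_smul_eq B R' R
  have h1 : w * k * w⁻¹ ∈ R := by
    rw [← hw]
    exact ⟨k, hR', rfl⟩
  refine ⟨w, ?_⟩
  set c := (w * k * w⁻¹) * h * (w * k * w⁻¹)⁻¹ * h⁻¹ with hcdef
  have h3 : c ∈ R := R.mul_mem (R.mul_mem (R.mul_mem h1 hR) (R.inv_mem h1)) (R.inv_mem hR)
  have h4 : c ∈ T := hc _ _
  obtain ⟨i, hi⟩ := hT ⟨c, h4⟩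
  obtain ⟨j, hj⟩ := R.isPGroup' ⟨c, h3⟩
  have h5 : c = 1 := eq_one_of_two hr h2 (congrArg Subtype.val hi) (congrArg Subtype.val hj)
  have h6 : (w * k * w⁻¹) * h = c * (h * (w * k * w⁻¹)) := by rw [hcdef]; group
  rw [h6, h5, one_mul]

/-- The same with `T` normal, `[k, h] ∈ T`. -/
theorem exists_conj_comm' {B : Type*} [Group B] [Finite B] (T : Subgroup B) [hn : T.Normal] (hT : IsPGroup 2 T)
    {r : ℕ} (hr : r.Prime) (h2 : r ≠ 2) (k h : B) (hc : k * h * k⁻¹ * h⁻¹ ∈ T)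
    (hk : ∃ i, k ^ r ^ i = 1) (hh : ∃ i, h ^ r ^ i = 1) :
    ∃ w : B, (w * k * w⁻¹) * h = h * (w * k * w⁻¹) := by
  let q : B →* B ⧸ T := QuotientGroup.mk' T
  have hq : ∀ x, q x = 1 ↔ x ∈ T := fun x => QuotientGroup.eq_one_iff x
  set C : Subgroup (B ⧸ T) := closure {q k, q h} with hC
  have hkh : q k * q h = q h * q k := by
    have h1 := (hq _).2 hc
    rw [map_mul, map_mul, map_mul, map_inv, map_inv] at h1
    calc q k * q h = (q k * q h * (q k)⁻¹ * (q h)⁻¹) * (q h * q k) := by group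
      _ = q h * q k := by rw [h1, one_mul]
  have hcomm : ∀ a ∈ C, ∀ b ∈ C, a * b = b * a := by
    have h3 : ∀ x ∈ ({q k, q h} : Set (B ⧸ T)), ∀ y ∈ ({q k, q h} : Set (B ⧸ T)), x * y = y * x := by
      rintro x (rfl | rfl) y (rfl | rfl)
      · rfl
      · exact hkh
      · exact hkh.symm
      · rfl
    have h1 : C ≤ centralizer (C : Set (B ⧸ T)) := by
      rw [hC, centralizer_closure, closure_le]
      intro x hx
      exact mem_centralizer_iff.2 fun y hy => h3 y hy x hx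
    intro a ha b hb
    exact mem_centralizer_iff.1 (h1 hb) a ha
  set B' : Subgroup B := C.comap q with hB'
  have hTB : T ≤ B' := fun x hx => by
    rw [hB', mem_comap, (hq x).2 hx]
    exact one_mem _
  have hkB : k ∈ B' := subset_closure (Or.inl rfl)
  have hhB : h ∈ B' := subset_closure (Or.inr rfl)
  have hT' : IsPGroup 2 (T.subgroupOf B') := by
    rintro ⟨⟨x, hx⟩, hx'⟩
    obtain ⟨i, hi⟩ := hT ⟨x, mem_subgroupOf.1 hx'⟩
    have h3 : x ^ 2 ^ i = 1 := congrArg Subtype.val hi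
    exact ⟨i, Subtype.ext (Subtype.ext h3)⟩
  have hc' : ∀ a b : B', a * b * a⁻¹ * b⁻¹ ∈ T.subgroupOf B' := by
    intro a b
    rw [mem_subgroupOf]
    change (a : B) * b * (a : B)⁻¹ * (b : B)⁻¹ ∈ T
    rw [← hq, map_mul, map_mul, map_mul, map_inv, map_inv, hcomm _ a.2 _ b.2]
    group
  obtain ⟨i, hi⟩ := hk
  obtain ⟨j, hj⟩ := hh
  obtain ⟨w, hw⟩ := exists_conj_comm (T.subgroupOf B') hT' hc' hr h2 ⟨k, hkB⟩ ⟨h, hhB⟩
    ⟨i, Subtype.ext hi⟩ ⟨j, Subtype.ext hj⟩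
  exact ⟨w, congrArg Subtype.val hw⟩

/-! ### The configuration -/

variable {G : Type u} [Group G] {F : Type} [Field F]

/-- The configuration. -/
structure Dat (M Y : Subgroup G) (e f g : F → G) (n : G) (κ : F) : Prop where
  nor : ∀ m ∈ M, ∀ y ∈ Y, m * y * m⁻¹ ∈ Y
  ab : ∀ x ∈ Y, ∀ y ∈ Y, x * y = y * x
  sq : ∀ x ∈ Y, x * x = 1
  eY : ∀ x, e x ∈ Y
  gY : ∀ x, g x ∈ Y
  e_add : ∀ x y, e (x + y) = e x * e y
  g_add : ∀ x y, g (x + y) = g x * g y
  ind : ∀ x y, e x * g y = 1 → x = 0 ∧ y = 0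
  eM : ∀ m ∈ M, ∀ x, m * e x * m⁻¹ = e x
  fM : ∀ w, f w ∈ M
  fg : ∀ w x, f w * g x * (f w)⁻¹ = g x
  act : ∀ y ∈ Y, ∃ t, ∀ w, f w * y * (f w)⁻¹ = y * (e (w * t ^ 2) * g (w * t))
  nM : n ∈ M
  tn : ∀ x w, f w * (n * g x * n⁻¹) * (f w)⁻¹ = n * g x * n⁻¹ * (e (w * (κ * x) ^ 2) * g (w * (κ * x)))
  nn : ∀ x, ∃ z, n * (n * g x * n⁻¹) * n⁻¹ = g x * e z
  κ0 : κ ≠ 0

open Classical in
/-- The parameter of `y`. -/
noncomputable def tt (e f g : F → G) (y : G) : F :=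
  if h : ∃ t, ∀ w, f w * y * (f w)⁻¹ = y * (e (w * t ^ 2) * g (w * t)) then h.choose else 0

/-- The second parameter. -/
noncomputable def ts (e f g : F → G) (n y : G) : F := tt e f g (n⁻¹ * y * n)

namespace Dat

variable {M Y : Subgroup G} {e f g : F → G} {n : G} {κ : F} (D : Dat M Y e f g n κ)

include D

theorem e_zero : e 0 = 1 := by
  have h := D.e_add 0 0
  rw [add_zero] at h
  exact (mul_eq_left.1 h.symm)

theorem g_zero : g 0 = 1 := by
  have h := D.g_add 0 0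
  rw [add_zero] at h
  exact (mul_eq_left.1 h.symm)

theorem inv_eq {y : G} (hy : y ∈ Y) : y⁻¹ = y := inv_eq_of_mul_eq_one_left (D.sq y hy)

theorem nor' {m : G} (hm : m ∈ M) {y : G} (hy : y ∈ Y) : m⁻¹ * y * m ∈ Y := by
  have := D.nor m⁻¹ (inv_mem hm) y hy
  rwa [inv_inv] at this

variable [CharP F 2]

theorem tt_eq {y : G} {t : F} (h : ∀ w, f w * y * (f w)⁻¹ = y * (e (w * t ^ 2) * g (w * t))) :
    tt e f g y = t := by
  have hex : ∃ t, ∀ w, f w * y * (f w)⁻¹ = y * (e (w * t ^ 2) * g (w * t)) := ⟨t, h⟩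
  have h1 : tt e f g y = hex.choose := by rw [tt, dif_pos hex]
  have h2 := hex.choose_spec 1
  rw [← h1, h 1] at h2
  simp only [one_mul] at h2
  set s := tt e f g y with hs
  have h3 := mul_left_cancel h2
  have h4 : e (t ^ 2 + s ^ 2) * g (t + s) = 1 := by
    rw [D.e_add, D.g_add]
    calc e (t ^ 2) * e (s ^ 2) * (g t * g s) = (e (t ^ 2) * g t) * (e (s ^ 2) * g s) := by
          rw [mul_assoc, mul_assoc, ← mul_assoc (e (s ^ 2)), D.ab _ (D.eY (s ^ 2)) _ (D.gY t), mul_assoc]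
      _ = (e (s ^ 2) * g s) * (e (s ^ 2) * g s) := by rw [h3]
      _ = 1 := D.sq _ (mul_mem (D.eY _) (D.gY _))
  have h5 := (D.ind _ _ h4).2
  exact (CharTwo.add_eq_zero.1 h5).symm

theorem tt_spec {y : G} (hy : y ∈ Y) (w : F) :
    f w * y * (f w)⁻¹ = y * (e (w * tt e f g y ^ 2) * g (w * tt e f g y)) := by
  obtain ⟨t, ht⟩ := D.act y hy
  rw [D.tt_eq ht]
  exact ht w

theorem tt_mul {x y : G} (hx : x ∈ Y) (hy : y ∈ Y) : tt e f g (x * y) = tt e f g x + tt e f g y := by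
  refine D.tt_eq fun w => ?_
  set s := tt e f g x
  set t := tt e f g y
  have e1 : f w * (x * y) * (f w)⁻¹ = (f w * x * (f w)⁻¹) * (f w * y * (f w)⁻¹) := by group
  rw [e1, D.tt_spec hx, D.tt_spec hy]
  have h2 : w * (s + t) ^ 2 = w * s ^ 2 + w * t ^ 2 := by rw [CharTwo.add_sq]; ring
  rw [h2, mul_add, D.e_add, D.g_add]
  have c1 := D.ab _ (D.eY (w * s ^ 2)) y hy
  have c2 := D.ab _ (D.gY (w * s)) y hy
  have c3 := D.ab _ (D.gY (w * s)) _ (D.eY (w * t ^ 2))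
  calc x * (e (w * s ^ 2) * g (w * s)) * (y * (e (w * t ^ 2) * g (w * t)))
      = x * (e (w * s ^ 2) * (g (w * s) * y) * (e (w * t ^ 2) * g (w * t))) := by group
    _ = x * ((e (w * s ^ 2) * y) * (g (w * s) * e (w * t ^ 2)) * g (w * t)) := by rw [c2]; group
    _ = x * y * (e (w * s ^ 2) * e (w * t ^ 2) * (g (w * s) * g (w * t))) := by rw [c1, c3]; group

theorem tt_e (x : F) : tt e f g (e x) = 0 := by
  refine D.tt_eq fun w => ?_
  rw [zero_pow two_ne_zero, mul_zero, D.e_zero, D.g_zero, mul_one, mul_one, D.eM _ (D.fM w)]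

theorem tt_g (x : F) : tt e f g (g x) = 0 := by
  refine D.tt_eq fun w => ?_
  rw [zero_pow two_ne_zero, mul_zero, D.e_zero, D.g_zero, mul_one, mul_one, D.fg]

theorem tt_u (x : F) : tt e f g (n * g x * n⁻¹) = κ * x := D.tt_eq fun w => D.tn x w

theorem tt_n (y : G) : ts e f g n (n * y * n⁻¹) = tt e f g y := by
  rw [ts]; congr 1; group

theorem ts_mul {x y : G} (hx : x ∈ Y) (hy : y ∈ Y) :
    ts e f g n (x * y) = ts e f g n x + ts e f g n y := by
  rw [ts, ts, ts, ← D.tt_mul (D.nor' D.nM hx) (D.nor' D.nM hy)]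
  congr 1; group

theorem ts_e (x : F) : ts e f g n (e x) = 0 := by
  rw [ts]
  have h := D.eM _ (inv_mem D.nM) x
  rw [inv_inv] at h
  rw [h, D.tt_e]

theorem ts_g (x : F) : ts e f g n (g x) = κ * x := by
  obtain ⟨z, hz⟩ := D.nn x
  have h1 := D.tt_n (n * g x * n⁻¹)
  rw [hz, D.ts_mul (D.gY x) (D.eY z), D.ts_e, add_zero, D.tt_u] at h1
  exact h1

theorem ts_u (x : F) : ts e f g n (n * g x * n⁻¹) = 0 := by rw [D.tt_n, D.tt_g]

/-- `y` commutes with `f(F)` iff `t(y) = 0` -/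
theorem comm_iff {y : G} (hy : y ∈ Y) : (∀ w, f w * y = y * f w) ↔ tt e f g y = 0 := by
  constructor
  · intro h
    refine D.tt_eq fun w => ?_
    rw [zero_pow two_ne_zero, mul_zero, D.e_zero, D.g_zero, mul_one, mul_one, h,
      mul_inv_cancel_right]
  · intro h w
    have h1 := D.tt_spec hy w
    rw [h, zero_pow two_ne_zero, mul_zero, D.e_zero, D.g_zero, mul_one, mul_one] at h1
    exact mul_inv_eq_iff_eq_mul.1 h1

/-- `v = u(a) g(b) e(c)` -/
theorem uY (x : F) : n * g x * n⁻¹ ∈ Y := D.nor n D.nM _ (D.gY x)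

omit D [CharP F 2] in
/-- the group `N₁'` -/
theorem _root_.Cfsg.Agent.Omega.IId.CvNS.Opp.swap4 {a b c d : G} (h : b * c = c * b) :
    (a * b) * (c * d) = (a * c) * (b * d) := by
  calc (a * b) * (c * d) = a * (b * c) * d := by group
    _ = (a * c) * (b * d) := by rw [h]; group

end Dat

/-- `N₁' = { u(a) g(b) e(c) }`. -/
def NP (e g : F → G) (n v : G) : Prop := ∃ a b c, v = (n * g a * n⁻¹) * (g b * e c)

/-- `m` acts on `Y` through the matrix `(a b; c d)` in the coordinates `(t, t')`, and `[Y, m] ≤ N₁'`. -/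
structure Act (M Y : Subgroup G) (e f g : F → G) (n m : G) (a b c d : F) : Prop where
  mM : m ∈ M
  t1 : ∀ y ∈ Y, tt e f g (m * y * m⁻¹) = a * tt e f g y + b * ts e f g n y
  t2 : ∀ y ∈ Y, ts e f g n (m * y * m⁻¹) = c * tt e f g y + d * ts e f g n y
  com : ∀ y ∈ Y, ∃ v, NP e g n v ∧ m * y * m⁻¹ = y * v
  fix : ∀ y ∈ Y, tt e f g y = 0 → ts e f g n y = 0 → m * y * m⁻¹ = y

namespace Dat

variable {M Y : Subgroup G} {e f g : F → G} {n : G} {κ : F} (D : Dat M Y e f g n κ) [CharP F 2]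

include D

theorem NP_Y {v : G} (h : NP e g n v) : v ∈ Y := by
  obtain ⟨a, b, c, rfl⟩ := h
  exact mul_mem (D.uY a) (mul_mem (D.gY b) (D.eY c))

theorem NP_mul {v v' : G} (h : NP e g n v) (h' : NP e g n v') : NP e g n (v * v') := by
  obtain ⟨a, b, c, rfl⟩ := h
  obtain ⟨a', b', c', rfl⟩ := h'
  refine ⟨a + a', b + b', c + c', ?_⟩
  rw [D.g_add, D.g_add, D.e_add, swap4 (D.ab _ (mul_mem (D.gY b) (D.eY c)) _ (D.uY a')),
    swap4 (D.ab _ (D.eY c) _ (D.gY b'))]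
  congr 1
  group

/-- `f(w)` -/
theorem act_f (w : F) : Act M Y e f g n (f w) 1 0 (κ * w) 1 where
  mM := D.fM w
  t1 y hy := by
    rw [D.tt_spec hy w, D.tt_mul hy (mul_mem (D.eY _) (D.gY _)), D.tt_mul (D.eY _) (D.gY _), D.tt_e, D.tt_g]
    ring
  t2 y hy := by
    rw [D.tt_spec hy w, D.ts_mul hy (mul_mem (D.eY _) (D.gY _)), D.ts_mul (D.eY _) (D.gY _), D.ts_e, D.ts_g]
    ring
  com y hy := by
    refine ⟨_, ⟨0, w * tt e f g y, w * tt e f g y ^ 2, rfl⟩, ?_⟩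
    rw [D.tt_spec hy w, D.g_zero, mul_one, mul_inv_cancel, one_mul, D.ab _ (D.eY _) _ (D.gY _)]
  fix y hy h1 _ := by
    rw [D.tt_spec hy w, h1, zero_pow two_ne_zero, mul_zero, D.e_zero, D.g_zero, mul_one, mul_one]

/-- `n f(w) n⁻¹` on `Y` -/
theorem fn_spec {y : G} (hy : y ∈ Y) (w : F) : (n * f w * n⁻¹) * y * (n * f w * n⁻¹)⁻¹ =
    y * ((n * g (w * ts e f g n y) * n⁻¹) * e (w * ts e f g n y ^ 2)) := by
  have h1 := D.tt_spec (D.nor' D.nM hy) w
  change _ = _ * (e (w * ts e f g n y ^ 2) * g (w * ts e f g n y)) at h1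
  set s := ts e f g n y
  have e1 : (n * f w * n⁻¹) * y * (n * f w * n⁻¹)⁻¹ = n * (f w * (n⁻¹ * y * n) * (f w)⁻¹) * n⁻¹ := by group
  have e2 : n * (n⁻¹ * y * n * (e (w * s ^ 2) * g (w * s))) * n⁻¹ =
      y * ((n * e (w * s ^ 2) * n⁻¹) * (n * g (w * s) * n⁻¹)) := by group
  rw [e1, h1, e2, D.eM n D.nM, D.ab _ (D.eY _) _ (D.uY _)]

theorem act_fn (w : F) : Act M Y e f g n (n * f w * n⁻¹) 1 (κ * w) 0 1 where
  mM := mul_mem (mul_mem D.nM (D.fM w)) (inv_mem D.nM)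
  t1 y hy := by
    rw [D.fn_spec hy w, D.tt_mul hy (mul_mem (D.uY _) (D.eY _)), D.tt_mul (D.uY _) (D.eY _), D.tt_e, D.tt_u]
    ring
  t2 y hy := by
    rw [D.fn_spec hy w, D.ts_mul hy (mul_mem (D.uY _) (D.eY _)), D.ts_mul (D.uY _) (D.eY _), D.ts_e, D.ts_u]
    ring
  com y hy := by
    refine ⟨_, ⟨w * ts e f g n y, 0, w * ts e f g n y ^ 2, rfl⟩, ?_⟩
    rw [D.fn_spec hy w, D.g_zero, one_mul]
  fix y hy _ h1 := by
    rw [D.fn_spec hy w, h1, zero_pow two_ne_zero, mul_zero, D.e_zero, D.g_zero, mul_one, mul_one,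
      mul_inv_cancel, mul_one]

theorem act_mul {m m' : G} {a b c d a' b' c' d' : F} (h : Act M Y e f g n m a b c d)
    (h' : Act M Y e f g n m' a' b' c' d') :
    Act M Y e f g n (m * m') (a * a' + b * c') (a * b' + b * d') (c * a' + d * c') (c * b' + d * d') where
  mM := mul_mem h.mM h'.mM
  t1 y hy := by
    have e1 : m * m' * y * (m * m')⁻¹ = m * (m' * y * m'⁻¹) * m⁻¹ := by group
    rw [e1, h.t1 _ (D.nor m' h'.mM y hy), h'.t1 y hy, h'.t2 y hy]
    ring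
  t2 y hy := by
    have e1 : m * m' * y * (m * m')⁻¹ = m * (m' * y * m'⁻¹) * m⁻¹ := by group
    rw [e1, h.t2 _ (D.nor m' h'.mM y hy), h'.t1 y hy, h'.t2 y hy]
    ring
  com y hy := by
    have e1 : m * m' * y * (m * m')⁻¹ = m * (m' * y * m'⁻¹) * m⁻¹ := by group
    obtain ⟨v', hv', h1⟩ := h'.com y hy
    obtain ⟨v, hv, h2⟩ := h.com _ (D.nor m' h'.mM y hy)
    exact ⟨v' * v, D.NP_mul hv' hv, by rw [e1, h2, h1, mul_assoc]⟩
  fix y hy h1 h2 := by
    have e1 : m * m' * y * (m * m')⁻¹ = m * (m' * y * m'⁻¹) * m⁻¹ := by group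
    rw [e1, h'.fix y hy h1 h2, h.fix y hy h1 h2]

/-- the Weyl elements -/
theorem exists_w {a : F} (ha : a ≠ 0) : ∃ m, Act M Y e f g n m 0 a⁻¹ a 0 := by
  have hκ := D.κ0
  have h1 := D.act_f (a * κ⁻¹)
  have h2 := D.act_fn (a⁻¹ * κ⁻¹)
  have h3 := D.act_mul (D.act_mul h1 h2) h1
  have e0 : (2 : F) = 0 := CharTwo.two_eq_zero
  have k1 : κ * (a * κ⁻¹) = a := by field_simp
  have k2 : κ * (a⁻¹ * κ⁻¹) = a⁻¹ := by field_simp
  rw [k1, k2] at h3
  have e1 : (1 * 1 + 0 * 0) * 1 + (1 * a⁻¹ + 0 * 1) * a = (0 : F) := by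
    have : a⁻¹ * a = 1 := inv_mul_cancel₀ ha
    linear_combination this + e0
  have e2 : (1 * 1 + 0 * 0) * 0 + (1 * a⁻¹ + 0 * 1) * 1 = a⁻¹ := by ring
  have e3 : (a * 1 + 1 * 0) * 1 + (a * a⁻¹ + 1 * 1) * a = a := by
    have : a * a⁻¹ = 1 := mul_inv_cancel₀ ha
    linear_combination a * this + a * e0
  have e4 : (a * 1 + 1 * 0) * 0 + (a * a⁻¹ + 1 * 1) * 1 = (0 : F) := by
    have : a * a⁻¹ = 1 := mul_inv_cancel₀ ha
    linear_combination this + e0
  rw [e1, e2, e3, e4] at h3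
  exact ⟨_, h3⟩

/-- the torus -/
theorem exists_k {μ : F} (hμ : μ ≠ 0) : ∃ k, Act M Y e f g n k μ⁻¹ 0 0 μ := by
  obtain ⟨m, hm⟩ := D.exists_w hμ
  obtain ⟨m', hm'⟩ := D.exists_w (one_ne_zero (α := F))
  have h := D.act_mul hm hm'
  have e1 : 0 * 0 + μ⁻¹ * 1 = μ⁻¹ := by ring
  have e2 : 0 * (1 : F)⁻¹ + μ⁻¹ * 0 = 0 := by ring
  have e3 : μ * 0 + 0 * 1 = 0 := by ring
  have e4 : μ * (1 : F)⁻¹ + 0 * 0 = μ := by rw [inv_one]; ring
  rw [e1, e2, e3, e4] at h
  exact ⟨_, h⟩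

theorem act_one : Act M Y e f g n 1 1 0 0 1 where
  mM := one_mem _
  t1 y hy := by rw [one_mul, inv_one, mul_one]; ring
  t2 y hy := by rw [one_mul, inv_one, mul_one]; ring
  com y hy := ⟨1, ⟨0, 0, 0, by rw [D.g_zero, D.e_zero]; group⟩, by group⟩
  fix y hy _ _ := by group

theorem act_pow {k : G} {μ : F} (h : Act M Y e f g n k μ⁻¹ 0 0 μ) (i : ℕ) :
    Act M Y e f g n (k ^ i) (μ⁻¹ ^ i) 0 0 (μ ^ i) := by
  induction i with
  | zero =>
    rw [pow_zero, pow_zero, pow_zero]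
    exact D.act_one
  | succ i ih =>
    have h1 := D.act_mul ih h
    have e1 : μ⁻¹ ^ i * μ⁻¹ + 0 * 0 = μ⁻¹ ^ (i + 1) := by ring
    have e2 : μ⁻¹ ^ i * 0 + 0 * μ = 0 := by ring
    have e3 : 0 * μ⁻¹ + μ ^ i * 0 = 0 := by ring
    have e4 : 0 * 0 + μ ^ i * μ = μ ^ (i + 1) := by ring
    rw [e1, e2, e3, e4] at h1
    rw [pow_succ]
    exact h1

/-- `k^{2r}` centralises `Y`. -/
theorem pow_fix {k : G} {μ : F} (h : Act M Y e f g n k μ⁻¹ 0 0 μ) {r : ℕ} (hr : μ ^ r = 1) {y : G} (hy : y ∈ Y) :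
    k ^ (r + r) * y * (k ^ (r + r))⁻¹ = y := by
  have hr' : μ⁻¹ ^ r = 1 := by rw [inv_pow, hr, inv_one]
  have h1 := D.act_pow h r
  rw [hr, hr'] at h1
  obtain ⟨v, hv, h2⟩ := h1.com y hy
  have hvY := D.NP_Y hv
  have h3 := h1.t1 y hy
  have h4 := h1.t2 y hy
  rw [h2, D.tt_mul hy hvY] at h3
  rw [h2, D.ts_mul hy hvY] at h4
  have h5 : tt e f g v = 0 := by linear_combination h3
  have h6 : ts e f g n v = 0 := by linear_combination h4
  have h7 := h1.fix v hvY h5 h6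
  have e1 : k ^ (r + r) * y * (k ^ (r + r))⁻¹ = k ^ r * (k ^ r * y * (k ^ r)⁻¹) * (k ^ r)⁻¹ := by
    rw [pow_add]; group
  have e2 : k ^ r * (y * v) * (k ^ r)⁻¹ = (k ^ r * y * (k ^ r)⁻¹) * (k ^ r * v * (k ^ r)⁻¹) := by group
  rw [e1, h2, e2, h2, h7, mul_assoc, D.sq v hvY, mul_one]

end Dat

/-! ### The stabiliser of `R = g(F) e(F)` and of `C_Y(N₁)` -/

/-- `m` normalises `R` and `ker t`, with parameters `α`, `β`. -/
structure JS (M Y : Subgroup G) (e f g : F → G) (m : G) (α β : F) : Prop where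
  mM : m ∈ M
  α0 : α ≠ 0
  β0 : β ≠ 0
  mg : ∀ x, ∃ z, m * g x * m⁻¹ = g (α * x) * e z
  mt : ∀ y ∈ Y, tt e f g (m * y * m⁻¹) = β * tt e f g y

/-- ... and centralises `ker t / R` -/
structure JJ (M Y : Subgroup G) (e f g : F → G) (m : G) (α β : F) : Prop extends JS M Y e f g m α β where
  mid : ∀ y ∈ Y, tt e f g y = 0 → ∃ b c, m * y * m⁻¹ = y * (g b * e c)

namespace Dat

variable {M Y : Subgroup G} {e f g : F → G} {n : G} {κ : F} (D : Dat M Y e f g n κ) [CharP F 2]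

include D

theorem e_sq (x : F) : e x * e x = 1 := D.sq _ (D.eY x)

theorem R_sq (b c : F) : (g b * e c) * (g b * e c) = 1 := D.sq _ (mul_mem (D.gY b) (D.eY c))

theorem R_mul (b c b' c' : F) : (g b * e c) * (g b' * e c') = g (b + b') * e (c + c') := by
  rw [D.g_add, D.e_add, swap4 (D.ab _ (D.eY c) _ (D.gY b'))]

theorem js_mul {m m' : G} {α β α' β' : F} (h : JS M Y e f g m α β) (h' : JS M Y e f g m' α' β') :
    JS M Y e f g (m * m') (α * α') (β * β') where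
  mM := mul_mem h.mM h'.mM
  α0 := mul_ne_zero h.α0 h'.α0
  β0 := mul_ne_zero h.β0 h'.β0
  mg x := by
    obtain ⟨z, hz⟩ := h'.mg x
    obtain ⟨z', hz'⟩ := h.mg (α' * x)
    refine ⟨z' + z, ?_⟩
    have e1 : m * m' * g x * (m * m')⁻¹ = m * (m' * g x * m'⁻¹) * m⁻¹ := by group
    have e2 : m * (g (α' * x) * e z) * m⁻¹ = (m * g (α' * x) * m⁻¹) * (m * e z * m⁻¹) := by group
    rw [e1, hz, e2, hz', D.eM m h.mM, D.e_add, mul_assoc, mul_assoc]
  mt y hy := by
    have e1 : m * m' * y * (m * m')⁻¹ = m * (m' * y * m'⁻¹) * m⁻¹ := by group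
    rw [e1, h.mt _ (D.nor m' h'.mM y hy), h'.mt y hy, mul_assoc]

theorem jj_mul {m m' : G} {α β α' β' : F} (h : JJ M Y e f g m α β) (h' : JJ M Y e f g m' α' β') :
    JJ M Y e f g (m * m') (α * α') (β * β') where
  toJS := D.js_mul h.toJS h'.toJS
  mid y hy h0 := by
    obtain ⟨b, c, h1⟩ := h'.mid y hy h0
    have h2 := D.nor m' h'.mM y hy
    have h3 : tt e f g (m' * y * m'⁻¹) = 0 := by rw [h'.mt y hy, h0, mul_zero]
    obtain ⟨b', c', h4⟩ := h.mid _ h2 h3
    refine ⟨b + b', c + c', ?_⟩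
    have e1 : m * m' * y * (m * m')⁻¹ = m * (m' * y * m'⁻¹) * m⁻¹ := by group
    rw [e1, h4, h1, mul_assoc, D.R_mul]

theorem js_inv {m : G} {α β : F} (h : JS M Y e f g m α β) : JS M Y e f g m⁻¹ α⁻¹ β⁻¹ where
  mM := inv_mem h.mM
  α0 := inv_ne_zero h.α0
  β0 := inv_ne_zero h.β0
  mg x := by
    obtain ⟨z, hz⟩ := h.mg (α⁻¹ * x)
    rw [← mul_assoc, mul_inv_cancel₀ h.α0, one_mul] at hz
    refine ⟨z, ?_⟩
    have h2 : g x = (m * g (α⁻¹ * x) * m⁻¹) * e z := by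
      rw [hz, mul_assoc, D.e_sq, mul_one]
    rw [inv_inv, h2]
    calc m⁻¹ * (m * g (α⁻¹ * x) * m⁻¹ * e z) * m = g (α⁻¹ * x) * (m⁻¹ * e z * m) := by group
      _ = g (α⁻¹ * x) * e z := by
        congr 1
        have h3 := D.eM m⁻¹ (inv_mem h.mM) z
        rwa [inv_inv] at h3
  mt y hy := by
    have e1 : m * (m⁻¹ * y * m⁻¹⁻¹) * m⁻¹ = y := by group
    have h1 := h.mt _ (D.nor m⁻¹ (inv_mem h.mM) y hy)
    rw [e1] at h1
    rw [h1, ← mul_assoc, inv_mul_cancel₀ h.β0, one_mul]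

theorem jj_inv {m : G} {α β : F} (h : JJ M Y e f g m α β) : JJ M Y e f g m⁻¹ α⁻¹ β⁻¹ where
  toJS := D.js_inv h.toJS
  mid y hy h0 := by
    have hy' := D.nor m⁻¹ (inv_mem h.mM) y hy
    have e1 : m * (m⁻¹ * y * m⁻¹⁻¹) * m⁻¹ = y := by group
    have h1 := h.mt _ hy'
    rw [e1, h0] at h1
    have h2 : tt e f g (m⁻¹ * y * m⁻¹⁻¹) = 0 := by
      rcases mul_eq_zero.1 h1.symm with h3 | h3
      · exact absurd h3 h.β0
      · exact h3
    obtain ⟨b, c, h3⟩ := h.mid _ hy' h2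
    rw [e1] at h3
    refine ⟨b, c, ?_⟩
    calc m⁻¹ * y * m⁻¹⁻¹ = m⁻¹ * y * m⁻¹⁻¹ * ((g b * e c) * (g b * e c)) := by rw [D.R_sq, mul_one]
      _ = (m⁻¹ * y * m⁻¹⁻¹ * (g b * e c)) * (g b * e c) := by rw [mul_assoc (m⁻¹ * y * m⁻¹⁻¹)]
      _ = y * (g b * e c) := by rw [← h3]

/-- conjugates by elements of the stabiliser -/
theorem jj_conj {m x : G} {α β γ δ : F} (h : JS M Y e f g m α β) (hx : JJ M Y e f g x γ δ) :
    JJ M Y e f g (m * x * m⁻¹) γ δ where
  toJS := by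
    have h1 := D.js_mul (D.js_mul h hx.toJS) (D.js_inv h)
    have e1 : α * γ * α⁻¹ = γ := by have := h.α0; field_simp
    have e2 : β * δ * β⁻¹ = δ := by have := h.β0; field_simp
    rwa [e1, e2] at h1
  mid y hy h0 := by
    have hy' := D.nor m⁻¹ (inv_mem h.mM) y hy
    have h1 := (D.js_inv h).mt y hy
    rw [h0, mul_zero] at h1
    obtain ⟨b, c, h2⟩ := hx.mid _ hy' h1
    obtain ⟨z, h3⟩ := h.mg b
    refine ⟨α * b, z + c, ?_⟩
    have e1 : m * x * m⁻¹ * y * (m * x * m⁻¹)⁻¹ = m * (x * (m⁻¹ * y * m⁻¹⁻¹) * x⁻¹) * m⁻¹ := by group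
    have e2 : m * (m⁻¹ * y * m⁻¹⁻¹ * (g b * e c)) * m⁻¹ = y * ((m * g b * m⁻¹) * (m * e c * m⁻¹)) := by group
    rw [e1, h2, e2, h3, D.eM m h.mM, D.e_add, mul_assoc (g (α * b))]

theorem jj_one : JJ M Y e f g 1 1 1 where
  mM := one_mem _
  α0 := one_ne_zero
  β0 := one_ne_zero
  mg x := ⟨0, by rw [D.e_zero, one_mul]; group⟩
  mid y hy _ := ⟨0, 0, by rw [D.e_zero, D.g_zero]; group⟩
  mt y hy := by rw [one_mul, inv_one, mul_one, one_mul]

/-- elements with `α = β = 1` act as 2-elements -/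
theorem jj_four {m : G} (h : JJ M Y e f g m 1 1) {y : G} (hy : y ∈ Y) : m ^ 4 * y * (m ^ 4)⁻¹ = y := by
  have key : ∀ {a b : G}, m * (a * b) * m⁻¹ = (m * a * m⁻¹) * (m * b * m⁻¹) := by intro a b; group
  obtain ⟨d, hd⟩ : ∃ d, m * y * m⁻¹ = y * d := ⟨y⁻¹ * (m * y * m⁻¹), by group⟩
  have hdY : d ∈ Y := by
    have : d = y⁻¹ * (m * y * m⁻¹) := by rw [hd]; group
    rw [this]
    exact mul_mem (inv_mem hy) (D.nor m h.mM y hy)
  have h1 := h.mt y hy
  rw [hd, D.tt_mul hy hdY, one_mul] at h1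
  have h2 : tt e f g d = 0 := by linear_combination h1
  obtain ⟨b, c, h3⟩ := h.mid d hdY h2
  obtain ⟨z, h4⟩ := h.mg b
  rw [one_mul] at h4
  have hR : g b * e c ∈ Y := mul_mem (D.gY b) (D.eY c)
  set ρ := g b * e c with hρ
  have h5 : m * ρ * m⁻¹ = ρ * e z := by
    rw [hρ, key, h4, D.eM m h.mM, mul_assoc, mul_assoc, D.ab _ (D.eY z) _ (D.eY c)]
  have h6 : m ^ 2 * y * (m ^ 2)⁻¹ = y * ρ := by
    have e1 : m ^ 2 * y * (m ^ 2)⁻¹ = m * (m * y * m⁻¹) * m⁻¹ := by rw [pow_two]; group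
    rw [e1, hd, key, hd, h3]
    calc y * d * (d * ρ) = y * (d * d) * ρ := by group
      _ = y * ρ := by rw [D.sq d hdY, mul_one]
  have h7 : m ^ 2 * ρ * (m ^ 2)⁻¹ = ρ := by
    have e1 : m ^ 2 * ρ * (m ^ 2)⁻¹ = m * (m * ρ * m⁻¹) * m⁻¹ := by rw [pow_two]; group
    rw [e1, h5, key, h5, D.eM m h.mM, mul_assoc, D.e_sq, mul_one]
  have e1 : m ^ 4 * y * (m ^ 4)⁻¹ = m ^ 2 * (m ^ 2 * y * (m ^ 2)⁻¹) * (m ^ 2)⁻¹ := by
    rw [show (4 : ℕ) = 2 + 2 from rfl, pow_add]; group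
  have e2 : m ^ 2 * (y * ρ) * (m ^ 2)⁻¹ = (m ^ 2 * y * (m ^ 2)⁻¹) * (m ^ 2 * ρ * (m ^ 2)⁻¹) := by group
  rw [e1, h6, e2, h6, h7, mul_assoc, D.sq ρ hR, mul_one]

/-- the torus is in `J` -/
theorem jj_of_act {k : G} {μ : F} (hμ : μ ≠ 0) (h : Act M Y e f g n k μ⁻¹ 0 0 μ) :
    JJ M Y e f g k μ μ⁻¹ where
  mM := h.mM
  α0 := hμ
  β0 := inv_ne_zero hμ
  mg x := by
    obtain ⟨v, hv, h1⟩ := h.com _ (D.gY x)
    have hvY := D.NP_Y hv
    have h2 := h.t1 _ (D.gY x)
    have h3 := h.t2 _ (D.gY x)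
    rw [h1, D.tt_mul (D.gY x) hvY, D.tt_g] at h2
    rw [h1, D.ts_mul (D.gY x) hvY, D.ts_g, D.tt_g] at h3
    obtain ⟨a, b, c, rfl⟩ := hv
    rw [D.tt_mul (D.uY a) (mul_mem (D.gY b) (D.eY c)), D.tt_mul (D.gY b) (D.eY c), D.tt_g, D.tt_e, D.tt_u] at h2
    rw [D.ts_mul (D.uY a) (mul_mem (D.gY b) (D.eY c)), D.ts_mul (D.gY b) (D.eY c), D.ts_g, D.ts_e, D.ts_u] at h3
    have h4 : a = 0 := by
      have : κ * a = 0 := by linear_combination h2
      rcases mul_eq_zero.1 this with h5 | h5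
      · exact absurd h5 D.κ0
      · exact h5
    have h5 : x + b = μ * x := by
      have : κ * (x + b) = κ * (μ * x) := by linear_combination h3
      exact mul_left_cancel₀ D.κ0 this
    refine ⟨c, ?_⟩
    rw [h1, h4, D.g_zero, mul_one, mul_inv_cancel, one_mul, ← mul_assoc, ← D.g_add, h5]
  mid y hy h0 := by
    obtain ⟨v, hv, h1⟩ := h.com y hy
    have hvY := D.NP_Y hv
    have h2 := h.t1 y hy
    rw [h1, D.tt_mul hy hvY, h0] at h2
    obtain ⟨a, b, c, rfl⟩ := hv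
    rw [D.tt_mul (D.uY a) (mul_mem (D.gY b) (D.eY c)), D.tt_mul (D.gY b) (D.eY c), D.tt_g, D.tt_e, D.tt_u] at h2
    have h4 : a = 0 := by
      have : κ * a = 0 := by linear_combination h2
      rcases mul_eq_zero.1 this with h5 | h5
      · exact absurd h5 D.κ0
      · exact h5
    refine ⟨b, c, ?_⟩
    rw [h1, h4, D.g_zero, mul_one, mul_inv_cancel, one_mul]
  mt y hy := by
    rw [h.t1 y hy]; ring

/-- The stabiliser. -/
def J : Subgroup G where
  carrier := {m | ∃ α β, JS M Y e f g m α β}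
  one_mem' := ⟨1, 1, D.jj_one.toJS⟩
  mul_mem' := by
    rintro a b ⟨α, β, h⟩ ⟨α', β', h'⟩
    exact ⟨_, _, D.js_mul h h'⟩
  inv_mem' := by
    rintro a ⟨α, β, h⟩
    exact ⟨_, _, D.js_inv h⟩

/-- The action of `J` on `Y`. -/
def ρ : D.J →* MulAut Y where
  toFun j :=
    { toFun := fun y => ⟨j * y * (j : G)⁻¹, by
        obtain ⟨α, β, h⟩ := j.2
        exact D.nor j h.mM y y.2⟩
      invFun := fun y => ⟨(j : G)⁻¹ * y * j, by
        obtain ⟨α, β, h⟩ := j.2
        exact D.nor' h.mM y.2⟩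
      left_inv := fun y => Subtype.ext (by simp only; group)
      right_inv := fun y => Subtype.ext (by simp only; group)
      map_mul' := fun x y => Subtype.ext (by simp only [coe_mul]; group) }
  map_one' := by
    ext y
    change (1 : G) * y * (1 : G)⁻¹ = y
    group
  map_mul' a b := by
    ext y
    change ((a : G) * b) * y * ((a : G) * b)⁻¹ = a * (b * y * (b : G)⁻¹) * (a : G)⁻¹
    group

theorem ρ_apply (j : D.J) (y : Y) : ((D.ρ j y : Y) : G) = j * y * (j : G)⁻¹ := rfl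

/-- The elements with `α = β = 1`, centralising `ker t / R`. -/
def T0 : Subgroup D.J where
  carrier := {j | JJ M Y e f g (j : G) 1 1}
  one_mem' := D.jj_one
  mul_mem' := by
    intro a b ha hb
    have h := D.jj_mul ha hb
    rwa [mul_one] at h
  inv_mem' := by
    intro a ha
    have h := D.jj_inv ha
    rwa [inv_one] at h

theorem T0_normal : (D.T0).Normal where
  conj_mem := by
    intro t ht j
    obtain ⟨α, β, h⟩ := j.2
    exact D.jj_conj h ht

/-- **OPPOSITE TRANSVECTION GROUPS.** -/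
theorem main [Finite G] {h : G} (hM : h ∈ M) (hf : ∀ w, h * f w = f w * h) (hg : ∀ x, h * g x = g x * h)
    {r : ℕ} (hr : r.Prime) (h2 : r ≠ 2) {j : ℕ} (hh : h ^ r ^ j = 1) {μ : F} (hμ : μ ^ r = 1) (hμ1 : μ ≠ 1) :
    ∃ x ∈ M, (∀ y ∈ Y, x * (y * (h * y * h⁻¹)) = (y * (h * y * h⁻¹)) * x) ∧
      ∃ w, f w * (x * g 1 * x⁻¹) ≠ (x * g 1 * x⁻¹) * f w := by
  have hμ0 : μ ≠ 0 := by
    rintro rfl
    rw [zero_pow hr.ne_zero] at hμ
    exact zero_ne_one hμ
  -- the torus element `k`, its square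
  obtain ⟨k₀, hk₀⟩ := D.exists_k hμ0
  have hk := D.act_pow hk₀ 2
  set k := k₀ ^ 2 with hkdef
  have hk' : Act M Y e f g n k (μ ^ 2)⁻¹ 0 0 (μ ^ 2) := by rwa [inv_pow] at hk
  have hν0 : μ ^ 2 ≠ 0 := pow_ne_zero _ hμ0
  have hν1 : μ ^ 2 ≠ 1 := by
    intro h0
    have h3 : orderOf μ ∣ 2 := orderOf_dvd_of_pow_eq_one h0
    have h4 : orderOf μ ∣ r := orderOf_dvd_of_pow_eq_one hμ
    have h5 : Nat.Coprime 2 r := (Nat.coprime_primes Nat.prime_two hr).2 (Ne.symm h2)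
    have h6 : orderOf μ = 1 := Nat.dvd_one.1 (h5 ▸ Nat.dvd_gcd h3 h4)
    exact hμ1 (orderOf_eq_one_iff.1 h6)
  have hkJ := D.jj_of_act hν0 hk'
  -- `h`
  have hhe : ∀ x, h * e x = e x * h := fun x => mul_inv_eq_iff_eq_mul.1 (D.eM h hM x)
  have hht : ∀ y ∈ Y, tt e f g (h * y * h⁻¹) = tt e f g y := by
    intro y hy
    refine D.tt_eq fun w => ?_
    have h3 := D.tt_spec hy w
    set t := tt e f g y
    have e1 : f w * (h * y * h⁻¹) * (f w)⁻¹ = h * (f w * y * (f w)⁻¹) * h⁻¹ := by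
      have e2 : (f w)⁻¹ * h = h * (f w)⁻¹ := by
        rw [inv_mul_eq_iff_eq_mul, ← mul_assoc, ← hf w, mul_inv_cancel_right]
      have e3 : h⁻¹ * (f w)⁻¹ = (f w)⁻¹ * h⁻¹ := by rw [← mul_inv_rev, ← mul_inv_rev, hf w]
      calc f w * (h * y * h⁻¹) * (f w)⁻¹ = (f w * h) * y * (h⁻¹ * (f w)⁻¹) := by group
        _ = (h * f w) * y * ((f w)⁻¹ * h⁻¹) := by rw [hf w, e3]
        _ = h * (f w * y * (f w)⁻¹) * h⁻¹ := by group
    have e4 : h * (y * (e (w * t ^ 2) * g (w * t))) * h⁻¹ =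
        (h * y * h⁻¹) * ((h * e (w * t ^ 2) * h⁻¹) * (h * g (w * t) * h⁻¹)) := by group
    rw [e1, h3, e4, hhe, hg, mul_inv_cancel_right, mul_inv_cancel_right]
  have hhS : JS M Y e f g h 1 1 :=
    { mM := hM
      α0 := one_ne_zero
      β0 := one_ne_zero
      mg := fun x => ⟨0, by rw [one_mul, D.e_zero, mul_one, hg, mul_inv_cancel_right]⟩
      mt := fun y hy => by rw [one_mul]; exact hht y hy }
  let hJ : D.J := ⟨h, 1, 1, hhS⟩
  let kJ : D.J := ⟨k, _, _, hkJ.toJS⟩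
  -- the image in `Aut(Y)`
  have hTn := D.T0_normal
  let q : D.J →* D.ρ.range := D.ρ.rangeRestrict
  have hqs : Function.Surjective q := D.ρ.rangeRestrict_surjective
  set T : Subgroup D.ρ.range := D.T0.map q with hTdef
  have hTn' : T.Normal := Subgroup.Normal.map hTn q hqs
  have hq1 : ∀ a : D.J, (∀ y ∈ Y, (a : G) * y * (a : G)⁻¹ = y) → q a = 1 := by
    intro a ha
    apply Subtype.ext
    ext y
    exact ha y y.2
  have hT2 : IsPGroup 2 T := by
    rintro ⟨b, hb⟩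
    obtain ⟨t, ht, rfl⟩ := hb
    refine ⟨2, Subtype.ext ?_⟩
    change (q t) ^ (2 ^ 2) = 1
    rw [← map_pow]
    refine hq1 _ fun y hy => ?_
    exact D.jj_four ht hy
  have hcT : q kJ * q hJ * (q kJ)⁻¹ * (q hJ)⁻¹ ∈ T := by
    refine ⟨kJ * hJ * kJ⁻¹ * hJ⁻¹, ?_, by simp only [map_mul, map_inv]⟩
    change JJ M Y e f g (k * h * k⁻¹ * h⁻¹) 1 1
    have h3 := D.jj_mul hkJ (D.jj_conj hhS (D.jj_inv hkJ))
    have e1 : k * (h * k⁻¹ * h⁻¹) = k * h * k⁻¹ * h⁻¹ := by group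
    rwa [e1, mul_inv_cancel₀ hν0, mul_inv_cancel₀ (inv_ne_zero hν0)] at h3
  have hkr : ∃ i, (q kJ) ^ r ^ i = 1 := by
    refine ⟨1, ?_⟩
    rw [pow_one, ← map_pow]
    refine hq1 _ fun y hy => ?_
    change k ^ r * y * (k ^ r)⁻¹ = y
    rw [hkdef, ← pow_mul, two_mul]
    exact D.pow_fix hk₀ hμ hy
  have hhr : ∃ i, (q hJ) ^ r ^ i = 1 := by
    refine ⟨j, ?_⟩
    rw [← map_pow]
    have : hJ ^ r ^ j = 1 := Subtype.ext hh
    rw [this, map_one]
  obtain ⟨b, hb⟩ := exists_conj_comm' T hT2 hr h2 (q kJ) (q hJ) hcT hkr hhr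
  obtain ⟨w, rfl⟩ := hqs b
  obtain ⟨α, β, hw⟩ := w.2
  set c : G := (w : G) * k * (w : G)⁻¹ with hcdef
  have hcJ : JJ M Y e f g c (μ ^ 2) (μ ^ 2)⁻¹ := D.jj_conj hw hkJ
  -- `c` and `h` commute on `Y`
  have hch : ∀ y ∈ Y, c * (h * y * h⁻¹) * c⁻¹ = h * (c * y * c⁻¹) * h⁻¹ := by
    intro y hy
    have h3 : D.ρ ((w * kJ * w⁻¹) * hJ) ⟨y, hy⟩ = D.ρ (hJ * (w * kJ * w⁻¹)) ⟨y, hy⟩ := by
      have h4 : q ((w * kJ * w⁻¹) * hJ) = q (hJ * (w * kJ * w⁻¹)) := by
        rw [map_mul, map_mul, map_mul, map_inv, hb, map_mul, map_mul, map_mul, map_inv]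
      have h5 := congrArg Subtype.val h4
      exact congrArg (fun φ : MulAut Y => φ ⟨y, hy⟩) h5
    have h4 := congrArg Subtype.val h3
    rw [ρ_apply, ρ_apply] at h4
    change (c * h) * y * (c * h)⁻¹ = (h * c) * y * (h * c)⁻¹ at h4
    calc c * (h * y * h⁻¹) * c⁻¹ = (c * h) * y * (c * h)⁻¹ := by group
      _ = (h * c) * y * (h * c)⁻¹ := h4
      _ = h * (c * y * c⁻¹) * h⁻¹ := by group
  -- `c` centralises `[Y, h]`
  have hcent : ∀ y ∈ Y, c * (y * (h * y * h⁻¹)) * c⁻¹ = y * (h * y * h⁻¹) := by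
    intro y hy
    have hhy := D.nor h hM y hy
    set s := y * (h * y * h⁻¹) with hs
    have hsY : s ∈ Y := mul_mem hy hhy
    have hts : tt e f g s = 0 := by
      rw [hs, D.tt_mul hy hhy, hht y hy]
      exact CharTwo.add_self_eq_zero _
    obtain ⟨b', c', h3⟩ := hcJ.mid s hsY hts
    have hR : g b' * e c' ∈ Y := mul_mem (D.gY b') (D.eY c')
    set z := g b' * e c' with hz
    have hzh : h * z * h⁻¹ = z := by
      have e1 : h * z * h⁻¹ = (h * g b' * h⁻¹) * (h * e c' * h⁻¹) := by rw [hz]; group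
      rw [e1, hhe, hg, mul_inv_cancel_right, mul_inv_cancel_right]
    have hy2 : h * y * h⁻¹ = y * s := by
      rw [hs, ← mul_assoc, D.sq y hy, one_mul]
    -- `v = [y, c]`
    set v := y * (c * y * c⁻¹) with hv
    have hcy := D.nor c hcJ.mM y hy
    have hvY : v ∈ Y := mul_mem hy hcy
    have h4 : h * v * h⁻¹ = v * z := by
      have e1 : h * v * h⁻¹ = (h * y * h⁻¹) * (h * (c * y * c⁻¹) * h⁻¹) := by rw [hv]; group
      have e2 : c * (y * s) * c⁻¹ = (c * y * c⁻¹) * (c * s * c⁻¹) := by group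
      rw [e1, ← hch y hy, hy2, e2, h3, hv]
      calc y * s * (c * y * c⁻¹ * (s * z)) = y * (s * (c * y * c⁻¹)) * (s * z) := by group
        _ = y * ((c * y * c⁻¹) * s) * (s * z) := by rw [D.ab s hsY _ hcy]
        _ = y * (c * y * c⁻¹) * (s * s) * z := by group
        _ = y * (c * y * c⁻¹) * z := by rw [D.sq s hsY, mul_one]
    have h5 : ∀ i : ℕ, h ^ i * v * (h ^ i)⁻¹ = v * z ^ i := by
      intro i
      induction i with
      | zero => simp
      | succ i ih =>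
        have e1 : h ^ (i + 1) * v * (h ^ (i + 1))⁻¹ = h * (h ^ i * v * (h ^ i)⁻¹) * h⁻¹ := by
          rw [pow_succ']; group
        have e2 : h * (v * z ^ i) * h⁻¹ = (h * v * h⁻¹) * (h * z * h⁻¹) ^ i := by
          rw [conj_pow]; group
        rw [e1, ih, e2, h4, hzh, pow_succ', mul_assoc]
    have h6 := h5 (r ^ j)
    rw [hh, inv_one, one_mul, mul_one] at h6
    have h7 : z ^ r ^ j = 1 := mul_eq_left.1 h6.symm
    have h8 : z ^ 2 ^ 1 = 1 := by rw [pow_one, pow_two]; exact D.sq z hR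
    have h9 : z = 1 := eq_one_of_two hr h2 h8 h7
    rw [h3, h9, mul_one]
  -- `[Y, h]` is centralised by `w n f(1) n⁻¹ w⁻¹`
  set x₀ : G := n * f 1 * n⁻¹ with hx₀
  set x : G := (w : G) * x₀ * (w : G)⁻¹ with hx
  have hx₀M : x₀ ∈ M := mul_mem (mul_mem D.nM (D.fM 1)) (inv_mem D.nM)
  have hxM : x ∈ M := mul_mem (mul_mem hw.mM hx₀M) (inv_mem hw.mM)
  refine ⟨x, hxM, ?_, ?_⟩
  · intro y hy
    have hs : y * (h * y * h⁻¹) ∈ Y := mul_mem hy (D.nor h hM y hy)
    have h3 := hcent y hy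
    set s := y * (h * y * h⁻¹) with hsdef
    have hs' : (w : G)⁻¹ * s * w ∈ Y := D.nor' hw.mM hs
    set s' := (w : G)⁻¹ * s * w with hs'def
    have h4 : k * s' * k⁻¹ = s' := by
      calc k * s' * k⁻¹ = (w : G)⁻¹ * (c * s * c⁻¹) * w := by rw [hs'def, hcdef]; group
        _ = s' := by rw [h3]
    have h5 := hk'.t1 s' hs'
    have h6 := hk'.t2 s' hs'
    rw [h4] at h5 h6
    have h7 : tt e f g s' = 0 := by
      have e1 : ((μ ^ 2)⁻¹ + 1) * tt e f g s' = 0 := by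
        have e0 : (2 : F) = 0 := CharTwo.two_eq_zero
        linear_combination (-1 : F) * h5 + tt e f g s' * e0
      rcases mul_eq_zero.1 e1 with h8 | h8
      · exact absurd (inv_eq_one.1 (CharTwo.add_eq_zero.1 h8)) hν1
      · exact h8
    have h8 : ts e f g n s' = 0 := by
      have e1 : (μ ^ 2 + 1) * ts e f g n s' = 0 := by
        have e0 : (2 : F) = 0 := CharTwo.two_eq_zero
        linear_combination (-1 : F) * h6 + ts e f g n s' * e0
      rcases mul_eq_zero.1 e1 with h9 | h9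
      · exact absurd (CharTwo.add_eq_zero.1 h9) hν1
      · exact h9
    have h9 := (D.act_fn 1).fix s' hs' h7 h8
    change x₀ * s' * x₀⁻¹ = s' at h9
    have h10 : x * s * x⁻¹ = s := by
      calc x * s * x⁻¹ = w * (x₀ * s' * x₀⁻¹) * (w : G)⁻¹ := by rw [hx, hs'def]; group
        _ = s := by rw [h9, hs'def]; group
    exact mul_inv_eq_iff_eq_mul.1 h10
  · by_contra hcon
    push Not at hcon
    have hxg : x * g 1 * x⁻¹ ∈ Y := D.nor x hxM _ (D.gY 1)
    have h3 : tt e f g (x * g 1 * x⁻¹) = 0 := (D.comm_iff hxg).1 hcon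
    obtain ⟨z, hz⟩ := (D.js_inv hw).mg 1
    rw [inv_inv, mul_one] at hz
    have hzY : g α⁻¹ * e z ∈ Y := mul_mem (D.gY _) (D.eY z)
    have e1 : x * g 1 * x⁻¹ = w * (x₀ * (g α⁻¹ * e z) * x₀⁻¹) * (w : G)⁻¹ := by
      rw [← hz, hx]; group
    rw [e1, hw.mt _ (D.nor x₀ hx₀M _ hzY)] at h3
    have h4 := (D.act_fn 1).t1 _ hzY
    change tt e f g (x₀ * _ * x₀⁻¹) = _ at h4
    rw [h4, D.tt_mul (D.gY _) (D.eY z), D.tt_g, D.tt_e, D.ts_mul (D.gY _) (D.eY z), D.ts_g, D.ts_e] at h3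
    have h5 : β * (κ * (κ * α⁻¹)) = 0 := by linear_combination h3
    exact mul_ne_zero hw.β0 (mul_ne_zero D.κ0 (mul_ne_zero D.κ0 (inv_ne_zero hw.α0))) h5

end Dat

end Cfsg.Agent.Omega.IId.CvNS.Opp

end

-- merged: Cfsg.Agent.Mrg.Omega.IId.CvNS.OppBase
section

/-!
# II.d, `CvNonsplit`, all `k ≥ 2`: opposite transvection groups (bb #20998), the plug over `PairF`

`A = N₁`, `A' = N₁'`, `U = U₁ = g(F) = e'(F)`, `U' = U₁' = e(F) = g'(F) = Z₁`; `T = N_S(N₁)`, `L` induces `SL₂(F)` on `A / U`.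

* `exists_dat` : `O₂(C_G(U')) ≤ T`, `A' ≤ Ω₁ Z(O₂(C_G(U')))` give `Opp.Dat`;
* `false_of` : in addition an `r`-element `h` (`r ∣ |F| - 1` an odd prime) centralising `A` and `Z₂ ≤ [Ω₁ Z(O₂(C_G(U'))), h]`
  with `A ≤ Ω₁ Z(O₂(N_G(Z₂)))`: contradiction.
-/

set_option autoImplicit false
set_option linter.unusedSectionVars false
set_option linter.unusedVariables false

namespace Cfsg.Agent.Omega.IId.CvNS.OppBase

open Subgroup Cfsg.Agent.Lib.SL2Mat
open Cfsg.Agent.ZN (zc o2)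
open Cfsg.Agent.MinSimple.VModule (mem_zc zc_le zc_sq o2_le o2_isPGroup le_normalizer_o2 le_o2)
open Cfsg.Agent.Omega.NatPair (ap ap_add ap_mul ap_one ap_inj ext2 ap_zero' ap_one' ap_inv_ap ap_ap_inv)
open Cfsg.Agent.Omega.HOne.NSMod Cfsg.Agent.Omega.HOne.NSSide Cfsg.Agent.Omega.HOne.NSPair Cfsg.Agent.Omega.HOne.NSDat
open Cfsg.Agent.Omega.IId.CvNS.Opp (Dat)

universe u

variable {G : Type u} [Group G] {F : Type} [Field F]

/-- conjugation on `Ω₁ Z(O₂(H))` -/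
theorem zc_conj {H : Subgroup G} {m : G} (hm : m ∈ H) {a : G} (ha : a ∈ zc (o2 H)) : m * a * m⁻¹ ∈ zc (o2 H) := by
  have h3 := mem_zc.1 ha
  have hn := le_normalizer_o2 H hm
  refine mem_zc.2 ⟨(mem_normalizer_iff.1 hn a).1 h3.1, fun x hx => ?_, ?_⟩
  · have h4 : m⁻¹ * x * m ∈ o2 H := by
      have := (mem_normalizer_iff.1 (inv_mem hn) x).1 hx
      rwa [inv_inv] at this
    have h5 := h3.2.1 _ h4
    change x * (m * a * m⁻¹) = m * a * m⁻¹ * x
    calc x * (m * a * m⁻¹) = m * ((m⁻¹ * x * m) * a) * m⁻¹ := by group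
      _ = m * (a * (m⁻¹ * x * m)) * m⁻¹ := by rw [h5]
      _ = m * a * m⁻¹ * x := by group
  · calc (m * a * m⁻¹) ^ 2 = m * a ^ 2 * m⁻¹ := by rw [pow_two, pow_two]; group
      _ = 1 := by rw [h3.2.2]; group

variable {T T' L L' A A' U U' : Subgroup G} {π π' : G → Fin 2 → F} {e f g e' f' g' : F → G}

/-- The linearity: `ψ(θ x) = ψ(θ 1) x`. -/
theorem lin [Finite F] (p : PairF T T' L L' A A' U U' π π' e f g e' f' g' A A')
    (c1 : ∀ z, ∃ y, e z = g' y) (c2 : ∀ z, ∃ y, e' z = g y) (g1 : ∀ y, g y = 1 → y = 0)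
    (g1' : ∀ y, g' y = 1 → y = 0) {ψ θ : F → F} (hψ : ∀ c, Is L A U π (f' c) (lo (ψ c ^ 2)))
    (hψi : Function.Injective ψ) (hθ : ∀ x, g x = e' (θ x)) : ∀ x, ψ (θ x) = ψ (θ 1) * x := by
  obtain ⟨φ, hφ, hφa, hφi⟩ := p.symm.exists_psi
  have hgi : ∀ x y, g x = g y → x = y := by
    intro x y h
    have h1 : g (x - y) = 1 := by
      have h2 := p.φ.g_add (x - y) y
      rw [sub_add_cancel, h] at h2
      exact (mul_eq_right.1 h2.symm)
    exact sub_eq_zero.1 (g1 _ h1)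
  have hθi : Function.Injective θ := fun x y h => hgi x y (by rw [hθ, hθ, h])
  have hθs : Function.Surjective θ := Finite.surjective_of_injective hθi
  have hθ0 : θ 0 = 0 := by
    have h1 := hθ 0
    rw [p.φ.g0] at h1
    have h2 : e' (θ 0) = e' 0 := by rw [← h1, p.φ'.e0]
    exact p.φ'.e_inj p.s'.r h2
  have hψs : Function.Surjective ψ := Finite.surjective_of_injective hψi
  have key : ∀ b c, θ (ψ c * b) = φ b ^ 2 * c := by
    intro b c
    have h1 := p.comm_eq hψ hφ b c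
    obtain ⟨y, hy⟩ := c1 (ψ c ^ 2 * b)
    rw [hy, hθ] at h1
    have h2 : e' (θ (ψ c * b)) * g' y = e' (φ b ^ 2 * c) * g' (φ b * c) := by
      rw [← h1]
      exact p.s'.r.Vc _ (p.φ'.eV _) _ (p.φ'.gV p.s'.r _)
    exact (p.φ'.eg_inj p.s'.r h2).1
  have hψ1 : ψ (θ 1) ≠ 0 := by
    intro h0
    have h1 : ψ 0 = 0 := by
      obtain ⟨c, hc⟩ := hψs 0
      have h3 := key 1 c
      rw [hc, zero_mul, hθ0] at h3
      have h4 : φ 1 ≠ 0 := by
        intro h5
        have h6 : φ 0 = 0 := by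
          have := hφa 0 0
          rw [add_zero] at this
          exact left_eq_add.1 this
        exact one_ne_zero (hφi (h5.trans h6.symm))
      rcases mul_eq_zero.1 h3.symm with h5 | h5
      · exact absurd (pow_eq_zero_iff two_ne_zero |>.1 h5) h4
      · rw [h5] at hc; exact hc
    have h2 : θ 1 = 0 := hψi (h0.trans h1.symm)
    exact one_ne_zero (hθi (h2.trans hθ0.symm))
  intro x
  set b := (ψ (θ 1))⁻¹ with hb
  have h1 := key b (θ 1)
  rw [hb, mul_inv_cancel₀ hψ1, ← hb] at h1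
  have hθ1 : θ 1 ≠ 0 := fun h => one_ne_zero (hθi (h.trans hθ0.symm))
  have h2 : φ b ^ 2 = 1 := by
    have : φ b ^ 2 * θ 1 = 1 * θ 1 := by rw [one_mul]; exact h1.symm
    exact mul_right_cancel₀ hθ1 this
  have h3 := key b (θ x)
  rw [h2, one_mul] at h3
  have h4 := hθi h3
  rw [hb] at h4
  field_simp at h4
  rw [h4, mul_comm]

/-- `y v y⁻¹ = E v` and `y² = 1` give `v y v⁻¹ = y E`. -/
theorem flip {y v E : G} (hy : y * y = 1) (h : y * v * y⁻¹ = E * v) : v * y * v⁻¹ = y * E := by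
  have h1 : y⁻¹ = y := inv_eq_of_mul_eq_one_left hy
  have h2 : E = y * v * y⁻¹ * v⁻¹ := by rw [h]; group
  rw [h2, h1]
  calc v * y * v⁻¹ = (y * y) * v * y * v⁻¹ := by rw [hy, one_mul]
    _ = y * (y * v * y * v⁻¹) := by group

/-- **The configuration.** -/
theorem exists_dat [Finite F] (p : PairF T T' L L' A A' U U' π π' e f g e' f' g' A A')
    (c1 : ∀ z, ∃ y, e z = g' y) (c2 : ∀ z, ∃ y, e' z = g y) (g1 : ∀ y, g y = 1 → y = 0)
    (g1' : ∀ y, g' y = 1 → y = 0) (hT : o2 (centralizer (U' : Set G)) ≤ T)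
    (hA' : A' ≤ zc (o2 (centralizer (U' : Set G)))) :
    ∃ (n : G) (κ : F), Dat (centralizer (U' : Set G)) (zc (o2 (centralizer (U' : Set G)))) e f g n κ := by
  have r := p.s.r
  have r' := p.s'.r
  have φ := p.φ
  have φ' := p.φ'
  set M := centralizer (U' : Set G) with hM
  have two := r.two
  -- `U' = e(F)`
  have heU' : ∀ z, e z ∈ U' := by
    intro z
    obtain ⟨y, hy⟩ := c1 z
    rw [hy]; exact φ'.gD y
  have hU' : ∀ x ∈ U', ∃ z, x = e z := by
    intro x hx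
    obtain ⟨y, rfl⟩ := φ'.ND x (r'.DV hx) hx
    choose k hk using c1
    have hi : Function.Injective k := by
      intro z z' hz
      have h1 := hk z
      rw [hz, ← hk z'] at h1
      exact φ.e_inj r h1
    obtain ⟨z, rfl⟩ := Finite.surjective_of_injective hi y
    exact ⟨z, (hk z).symm⟩
  have heM : ∀ m ∈ M, ∀ x, m * e x * m⁻¹ = e x := by
    intro m hm x
    rw [← mem_centralizer_iff.1 hm _ (heU' x), mul_inv_cancel_right]
  have hAM : A ≤ M := by
    intro a ha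
    refine mem_centralizer_iff.2 fun x hx => ?_
    obtain ⟨z, rfl⟩ := hU' x hx
    exact r.Vc _ (φ.eV z) a ha
  have hsq : ∀ x ∈ zc (o2 M), x * x = 1 := fun x hx => by rw [← pow_two]; exact zc_sq _ _ hx
  -- `g(F) ≤ A'`
  obtain ⟨heA', hgA'⟩ := p.eg_mem
  -- `θ`
  have hcc2 : ∀ x, ∃ z, g x = e' z := by
    choose k hk using c2
    have hi : Function.Injective k := by
      intro z z' hz
      have h1 := hk z
      rw [hz, ← hk z'] at h1
      exact φ'.e_inj r' h1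
    intro x
    obtain ⟨z, rfl⟩ := Finite.surjective_of_injective hi x
    exact ⟨z, (hk z).symm⟩
  choose θ hθ using hcc2
  obtain ⟨ψ, hψ, hψa, hψi⟩ := p.exists_psi
  have hlin := lin p c1 c2 g1 g1' hψ hψi hθ
  obtain ⟨n, hn⟩ := r'.is_lift (wm 1 one_ne_zero)
  have hnM : n ∈ M := mem_centralizer_iff.2 fun d hd => (hn.cen d hd).symm
  have hgV' : ∀ x, g x ∈ A' := hgA'
  have huV : ∀ x, n * g x * n⁻¹ ∈ A' := fun x => r'.Vn n hn.mem _ (hgV' x)
  have hgπ : ∀ x, π' (g x) = ![0, θ x] := fun x => by rw [hθ, φ'.eπ]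
  have huπ : ∀ x, π' (n * g x * n⁻¹) = ![θ x, 0] := fun x => by
    rw [hn.act _ (hgV' x), hgπ, ap_wm]
    apply ext2 <;> simp
  -- `u(x) = f'(θ x) e(z)`
  have hu : ∀ x, ∃ z, n * g x * n⁻¹ = f' (θ x) * e z := by
    intro x
    have h1 : (f' (θ x))⁻¹ * (n * g x * n⁻¹) ∈ U' := by
      refine (r'.ker _ (mul_mem (inv_mem (φ'.fV _)) (huV x))).1 ?_
      rw [r'.mul _ (inv_mem (φ'.fV _)) _ (huV x), r'.map_inv (φ'.fV _), φ'.fπ, huπ]
      simp
    obtain ⟨z, hz⟩ := hU' _ h1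
    exact ⟨z, by rw [← hz]; group⟩
  refine ⟨n, ψ (θ 1), ?_⟩
  exact
    { nor := fun m hm y hy => zc_conj hm hy
      ab := fun x hx y hy => (mem_zc.1 hy).2.1 x (zc_le _ hx)
      sq := hsq
      eY := fun x => hA' (heA' x)
      gY := fun x => hA' (hgA' x)
      e_add := φ.e_add
      g_add := φ.g_add
      ind := by
        intro x y h
        have h1 : e x * g y = e 0 * g 0 := by rw [h, φ.e0, φ.g0, one_mul]
        obtain ⟨h2, h3⟩ := φ.eg_inj r h1
        refine ⟨h2, g1 y ?_⟩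
        rw [h3, φ.g0]
      eM := heM
      fM := fun w => hAM (φ.fV w)
      fg := fun w x => by
        rw [r.Vc _ (φ.fV w) _ (φ.gV r x), mul_inv_cancel_right]
      act := by
        intro y hy
        obtain ⟨t, ht⟩ := act_of p (hT (zc_le _ hy)) (fun z => by
          have := heM y (o2_le _ (zc_le _ hy)) z
          exact mul_inv_eq_iff_eq_mul.1 this)
        refine ⟨t, fun w => ?_⟩
        have h1 := ht (f w) (φ.fV w)
        rw [φ.fπ] at h1
        simp only [Matrix.cons_val_zero] at h1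
        have h2 := flip (hsq y hy) h1
        rw [h2, mul_comm (t ^ 2), mul_comm t]
      nM := hnM
      tn := by
        intro x w
        rw [← hlin x]
        obtain ⟨z, hz⟩ := hu x
        refine flip (hsq _ (hA' (huV x))) ?_
        rw [hz]
        have h1 := φ.act _ _ (hψ (θ x)) _ (φ.fV w)
        rw [φ.fπ] at h1
        simp only [Matrix.cons_val_zero] at h1
        have h2 := r.Vc _ (φ.eV z) _ (φ.fV w)
        calc f' (θ x) * e z * f w * (f' (θ x) * e z)⁻¹ = f' (θ x) * (e z * f w * (e z)⁻¹) * (f' (θ x))⁻¹ := by group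
          _ = f' (θ x) * f w * (f' (θ x))⁻¹ := by rw [h2, mul_inv_cancel_right]
          _ = _ := by rw [h1, mul_comm (ψ (θ x) ^ 2), mul_comm (ψ (θ x))]
      nn := by
        intro x
        have h1 : (g x)⁻¹ * (n * (n * g x * n⁻¹) * n⁻¹) ∈ U' := by
          have h2 := r'.Vn n hn.mem _ (huV x)
          refine (r'.ker _ (mul_mem (inv_mem (hgV' x)) h2)).1 ?_
          rw [r'.mul _ (inv_mem (hgV' x)) _ h2, r'.map_inv (hgV' x), hn.act _ (huV x), huπ, hgπ, ap_wm]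
          apply ext2
          · simp
          · have e1 : -θ x + -θ x = 0 := by linear_combination (-θ x) * two
            simpa using e1
        obtain ⟨z, hz⟩ := hU' _ h1
        exact ⟨z, by rw [← hz]; group⟩
      κ0 := by
        intro h0
        have h1 : ψ 0 = 0 := by
          have := hψa 0 0
          rw [add_zero] at this
          exact left_eq_add.1 this
        have h2 : θ 1 = 0 := hψi (h0.trans h1.symm)
        have h3 := hθ 1
        rw [h2, φ'.e0] at h3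
        exact one_ne_zero (g1 1 h3) }

/-- If `h` normalises the finite elementary abelian 2-group `Z` and `C_Z(h) = 1` then `Z = { y (h y h⁻¹) }`. -/
theorem exists_comm [Finite G] {Z : Subgroup G} {h : G} (hab : ∀ x ∈ Z, ∀ y ∈ Z, x * y = y * x)
    (hn : ∀ z ∈ Z, h * z * h⁻¹ ∈ Z) (hsq : ∀ z ∈ Z, z * z = 1) (hf : ∀ z ∈ Z, h * z = z * h → z = 1) :
    ∀ z ∈ Z, ∃ y ∈ Z, z = y * (h * y * h⁻¹) := by
  intro z hz
  let q : Z → Z := fun y => ⟨y * (h * y * h⁻¹), mul_mem y.2 (hn _ y.2)⟩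
  have hi : Function.Injective q := by
    rintro ⟨x, hx⟩ ⟨y, hy⟩ hxy
    have h1 : x * (h * x * h⁻¹) = y * (h * y * h⁻¹) := congrArg Subtype.val hxy
    have h2 : x⁻¹ = x := inv_eq_of_mul_eq_one_left (hsq x hx)
    have h3 : (h * y * h⁻¹)⁻¹ = h * y * h⁻¹ := inv_eq_of_mul_eq_one_left (hsq _ (hn y hy))
    have h4 : h * (x * y) * h⁻¹ = x * y := by
      calc h * (x * y) * h⁻¹ = x⁻¹ * (x * (h * x * h⁻¹)) * (h * y * h⁻¹) := by group
        _ = x⁻¹ * (y * (h * y * h⁻¹)) * (h * y * h⁻¹) := by rw [h1]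
        _ = x⁻¹ * y * ((h * y * h⁻¹) * (h * y * h⁻¹)) := by group
        _ = x * y := by rw [hsq _ (hn y hy), mul_one, h2]
    have h5 := hf _ (mul_mem hx hy) (mul_inv_eq_iff_eq_mul.1 h4)
    have h6 : x = y⁻¹ := eq_inv_of_mul_eq_one_left h5
    apply Subtype.ext
    change x = y
    rw [h6]
    exact inv_eq_of_mul_eq_one_left (hsq y hy)
  obtain ⟨y, hy⟩ := Finite.surjective_of_injective hi ⟨z, hz⟩
  exact ⟨y, y.2, (congrArg Subtype.val hy).symm⟩

/-- **CvNonsplit is impossible, all `k ≥ 2`** (`Z₂` : the flag of another factor, `h` a torus element of that factor). -/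
theorem false_of [Finite G] [Finite F] (p : PairF T T' L L' A A' U U' π π' e f g e' f' g' A A')
    (c1 : ∀ z, ∃ y, e z = g' y) (c2 : ∀ z, ∃ y, e' z = g y) (g1 : ∀ y, g y = 1 → y = 0)
    (g1' : ∀ y, g' y = 1 → y = 0) (hT : o2 (centralizer (U' : Set G)) ≤ T)
    (hA' : A' ≤ zc (o2 (centralizer (U' : Set G)))) {Z₂ : Subgroup G}
    (hZ : Z₂ ≤ zc (o2 (centralizer (U' : Set G)))) (hfl : A ≤ zc (o2 (normalizer (Z₂ : Set G)))) {h : G}
    (hhA : ∀ a ∈ A, h * a = a * h) (hhZ : ∀ z ∈ Z₂, h * z * h⁻¹ ∈ Z₂) (hhC : ∀ z ∈ Z₂, h * z = z * h → z = 1)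
    {r : ℕ} (hr : r.Prime) (h2 : r ≠ 2) {j : ℕ} (hh : h ^ r ^ j = 1) {μ : F} (hμ : μ ^ r = 1) (hμ1 : μ ≠ 1) :
    False := by
  have : CharP F 2 := CharTwo.of_one_ne_zero_of_two_eq_zero one_ne_zero p.s.r.two
  obtain ⟨n, κ, D⟩ := exists_dat p c1 c2 g1 g1' hT hA'
  have hU'A : U' ≤ A := by
    intro x hx
    obtain ⟨y, rfl⟩ := p.φ'.ND x (p.s'.r.DV hx) hx
    exact p.symm.eg_mem.2 y
  have hM : h ∈ centralizer (U' : Set G) := mem_centralizer_iff.2 fun x hx => (hhA x (hU'A hx)).symm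
  obtain ⟨x, hxM, hx, w, hw⟩ := D.main hM (fun w => hhA _ (p.φ.fV w)) (fun y => hhA _ (p.φ.gV p.s.r y)) hr h2 hh hμ hμ1
  have hsq : ∀ z ∈ Z₂, z * z = 1 := fun z hz => D.sq z (hZ hz)
  have hab : ∀ z ∈ Z₂, ∀ y ∈ Z₂, z * y = y * z := fun z hz y hy => D.ab z (hZ hz) y (hZ hy)
  have hxZ : x ∈ centralizer (Z₂ : Set G) := by
    refine mem_centralizer_iff.2 fun z hz => ?_
    obtain ⟨y, hy, rfl⟩ := exists_comm hab hhZ hsq hhC z hz
    exact (hx y (hZ hy)).symm
  have hxN : x ∈ normalizer (Z₂ : Set G) := by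
    refine mem_normalizer_iff.2 fun z => ⟨fun hz => ?_, fun hz => ?_⟩
    · rw [← mem_centralizer_iff.1 hxZ z hz, mul_inv_cancel_right]; exact hz
    · have h1 := mem_centralizer_iff.1 (inv_mem hxZ) _ hz
      have h3 : z = x * z * x⁻¹ := by
        calc z = x⁻¹ * (x * z * x⁻¹) * x := by group
          _ = (x * z * x⁻¹) * x⁻¹ * x := by rw [← h1]
          _ = x * z * x⁻¹ := by group
      rw [h3]; exact hz
  have h3 := zc_conj hxN (hfl (p.φ.gV p.s.r 1))
  have h4 := zc_le _ (hfl (p.φ.fV w))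
  exact hw ((mem_zc.1 h3).2.1 _ h4)

end Cfsg.Agent.Omega.IId.CvNS.OppBase

end

-- merged: Cfsg.Agent.Mrg.Omega.IId.Ns.Contra
section

section


/-!
# II.d, `k = 2`, nonsplit: (8) and the contradiction

* `Base.false_two` : `k' = 2`;
* `Base.false_one` : `k' = 1` (`T'` is a Sylow 2-subgroup).
-/

set_option autoImplicit false
set_option linter.unusedSectionVars false

namespace Cfsg.Agent.Omega.IId.Ns

open Subgroup Cfsg Cfsg.Agent.ZN Cfsg.Agent.Lib.SL2Mat
open Cfsg.Agent.Omega.HOne.NSMod Cfsg.Agent.Omega.HOne.NSSide Cfsg.Agent.Omega.HOne.NSPair Cfsg.Agent.Omega.HOne.NSDat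
open Cfsg.Agent.Omega.NatPair (ap ap_add ap_mul ap_one ap_inj ext2 ap_zero' ap_one' ap_inv_ap ap_ap_inv)
open Cfsg.Agent.Omega.BTwo (cj mem_cj conj_mem_cj card_cj cj_mul mem_normalizer_of_conj cj_eq_self_iff)

universe u

variable {G : Type u} [Group G] {F : Type} [Field F]
  {T T' L L' A A' U U' : Subgroup G} {π π' : G → Fin 2 → F} {e f g e' f' g' : F → G}

theorem Base.Un (b : Base T T' L L' A A' U U' π π' e f g e' f' g') {t : G} (ht : t ∈ T) {u : G} (hu : u ∈ U) :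
    t * u * t⁻¹ ∈ U := b.p.s.r.Dn t (b.TL ht) u hu

theorem Base.U'n [Finite F] (b : Base T T' L L' A A' U U' π π' e f g e' f' g') {t : G} (ht : t ∈ T) {u : G}
    (hu : u ∈ U') : t * u * t⁻¹ ∈ U' := by
  obtain ⟨z, rfl⟩ := b.U'_e hu
  obtain ⟨z', hz'⟩ := b.p.norm_e b.g1 ht z
  rw [hz']; exact b.eU' z'

/-- **(8)** -/
theorem Base.syl [Finite G] [Finite F] (b : Base T T' L L' A A' U U' π π' e f g e' f' g') :
    ∃ Th : Subgroup G, IsPGroup 2 Th ∧ T ≤ Th ∧ Nat.card Th ≤ 2 * Nat.card T ∧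
      ¬ 2 ∣ (Th ⊓ CC U U').relIndex (CC U U') ∧ Nat.card ↥(Th ⊓ CC U U') ≤ 2 * Nat.card ↥(T ⊓ CC U U') := by
  have : Fact (Nat.Prime 2) := ⟨Nat.prime_two⟩
  set BB : Subgroup G := normalizer (U : Set G) ⊓ normalizer (U' : Set G) with hBB
  have hTB : T ≤ BB := fun t ht => mem_inf.2 ⟨mem_normalizer_of_conj fun u hu => b.Un ht hu,
    mem_normalizer_of_conj fun u hu => b.U'n ht hu⟩
  have hCB : CC U U' ≤ BB := inf_le_inf (centralizer_le_normalizer _) (centralizer_le_normalizer _)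
  have hT' : IsPGroup 2 (T.subgroupOf BB) := b.T2.comap_of_injective BB.subtype Subtype.val_injective
  obtain ⟨Q, hQ⟩ := hT'.exists_le_sylow
  have hTh : IsPGroup 2 ((Q : Subgroup BB).map BB.subtype) := Q.isPGroup'.map _
  have hTT : T ≤ (Q : Subgroup BB).map BB.subtype := fun t ht => ⟨⟨t, hTB ht⟩, hQ (mem_subgroupOf.2 ht), rfl⟩
  have hcd := b.two _ hTh hTT
  refine ⟨(Q : Subgroup BB).map BB.subtype, hTh, hTT, hcd, ?_, ?_⟩
  · -- `CC` is normal in `BB`
    have hn : ((CC U U').subgroupOf BB).Normal := by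
      rw [normal_subgroupOf_iff_le_normalizer hCB]
      intro x hx
      refine mem_normalizer_of_conj fun c hc => ?_
      have h1 : ∀ u ∈ U, x⁻¹ * u * x ∈ U := fun u hu => by
        have := (mem_normalizer_iff.1 (inv_mem hx.1) u).1 hu
        rwa [inv_inv] at this
      have h2 : ∀ u ∈ U', x⁻¹ * u * x ∈ U' := fun u hu => by
        have := (mem_normalizer_iff.1 (inv_mem hx.2) u).1 hu
        rwa [inv_inv] at this
      refine ⟨mem_centralizer_iff.2 fun u hu => ?_, mem_centralizer_iff.2 fun u hu => ?_⟩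
      · have h3 := cc_l hc (h1 u hu)
        calc u * (x * c * x⁻¹) = x * ((x⁻¹ * u * x) * c) * x⁻¹ := by group
          _ = x * (c * (x⁻¹ * u * x)) * x⁻¹ := by rw [h3]
          _ = _ := by group
      · have h3 := cc_r hc (h2 u hu)
        calc u * (x * c * x⁻¹) = x * ((x⁻¹ * u * x) * c) * x⁻¹ := by group
          _ = x * (c * (x⁻¹ * u * x)) * x⁻¹ := by rw [h3]
          _ = _ := by group
    have h1 : (Q : Subgroup BB).relIndex ((CC U U').subgroupOf BB) ∣ (Q : Subgroup BB).index :=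
      Cfsg.Agent.Lib.GoldschmidtFusion.relIndex_dvd_index_of_normal_right _ _
    have h2 : (((Q : Subgroup BB).map BB.subtype) ⊓ CC U U').relIndex (CC U U') =
        (Q : Subgroup BB).relIndex ((CC U U').subgroupOf BB) := by
      rw [inf_relIndex_right, ← relIndex_subgroupOf hCB]
      congr 1
      ext x
      rw [mem_subgroupOf]
      constructor
      · rintro ⟨y, hy, hyx⟩
        have : y = x := Subtype.ext hyx
        rwa [← this]
      · intro hx
        exact ⟨x, hx, rfl⟩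
    rw [h2]
    exact fun h3 => Q.not_dvd_index (h3.trans h1)
  · set Th : Subgroup G := (Q : Subgroup BB).map BB.subtype with hThd
    have h1 : Nat.card T * T.relIndex Th = Nat.card Th := Cfsg.Agent.Lib.SylowNormalInf.card_mul_relIndex T Th hTT
    have h2 : T.relIndex Th ≤ 2 := by
      by_contra h3
      have h4 : 0 < Nat.card T := Nat.card_pos
      nlinarith
    have h3 : T.relIndex (Th ⊓ CC U U') ≤ T.relIndex Th := relIndex_le_of_le_right inf_le_left index_ne_zero_of_finite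
    have h4 := Cfsg.Agent.Lib.SylowNormalInf.card_inf_mul_relIndex T (Th ⊓ CC U U')
    have h5 : T ⊓ (Th ⊓ CC U U') = T ⊓ CC U U' := by
      rw [← inf_assoc, inf_eq_left.2 hTT]
    rw [h5] at h4
    rw [← h4, mul_comm]
    exact Nat.mul_le_mul_right _ (h3.trans h2)

/-- `Th` acts on `A` as `A'` -/
theorem Base.act [Finite G] [Finite F] {s : G → F} (b : Base T T' L L' A A' U U' π π' e f g e' f' g')
    (c : Core T L A A' U U' π e g s) {Th : Subgroup G} (hTh : IsPGroup 2 Th) (hT : T ≤ Th)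
    (hcd : Nat.card Th ≤ 2 * Nat.card T) {x : G} (hx : x ∈ Th) (hxC : x ∈ CC U U') :
    ∃ t : F, ∀ v ∈ A, x * v * x⁻¹ = e (t ^ 2 * π v 0) * g (t * π v 0) * v := by
  by_cases hxT : x ∈ T
  · exact b.tau hxT hxC
  obtain ⟨n, hn⟩ := b.exists_wm
  have h1 : Nat.card T * T.relIndex Th = Nat.card Th := Cfsg.Agent.Lib.SylowNormalInf.card_mul_relIndex T Th hT
  have h2 : T.relIndex Th ≤ 2 := by
    by_contra h3
    have h4 : 0 < Nat.card T := Nat.card_pos
    nlinarith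
  have h3 : T.relIndex Th ≠ 1 := fun h4 => hxT (relIndex_eq_one.1 h4 hx)
  have h4 : T.relIndex Th ≠ 0 := index_ne_zero_of_finite
  have h5 : (T.subgroupOf Th).index = 2 := by
    change T.relIndex Th = 2
    omega
  have h6 := normal_of_index_eq_two h5
  have hw : NW T T' L L' A A' U U' π π' e f g e' f' g' s x n :=
    { b := b
      c := c
      O' := EndL.A'O b
      wC := hxC
      wT := mem_normalizer_of_conj fun t ht => mem_subgroupOf.1 (h6.conj_mem ⟨t, hT ht⟩ (mem_subgroupOf.2 ht) ⟨x, hx⟩)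
      w2 := mem_subgroupOf.1 (mul_self_mem_of_index_two h5 ⟨x, hx⟩)
      tw := hTh.to_le (sup_le hT (by rw [zpowers_le]; exact hx))
      nT := hxT
      hn := hn }
  obtain ⟨n0, hn0, h7⟩ := hw.main
  obtain ⟨l, hl⟩ := b.p.s.typ n0 hn0
  obtain ⟨t, rfl⟩ := b.p.sq l
  exact ⟨t, fun v hv => by rw [h7 v hv]; exact b.act_n hl hv⟩

/-- two Sylow 2-subgroups of `C` have the same order -/
theorem card_syl_le [Finite G] {C X Y : Subgroup G} (hX : X ≤ C) (hXp : IsPGroup 2 X) (hYp : IsPGroup 2 Y)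
    (hY : ¬ 2 ∣ Y.relIndex C) : Nat.card X ≤ Nat.card Y := by
  obtain ⟨c, -, hc⟩ := exists_conj_le_syl hX hYp hXp hY
  have h1 := Subgroup.card_le_of_le hc
  rwa [card_cj] at h1

/-- **`k' = 2`** -/
theorem Base.false_two [Finite G] [Finite F] (hG : IsCharacteristicTwoType G) (h4 : 4 ≤ Nat.card F)
    (b : Base T T' L L' A A' U U' π π' e f g e' f' g') (hhalf : Half L' A')
    (hna : ∃ x ∈ T' ⊓ centralizer (A' : Set G), ∃ y ∈ T' ⊓ centralizer (A' : Set G), x * y ≠ y * x) : False := by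
  obtain ⟨s, c⟩ := b.exists_core
  obtain ⟨Th, hp, hT, hcd, hsy, hcd2⟩ := b.syl
  obtain ⟨Th', hp', hT', hcd', hsy', hcd2'⟩ := b.symm.syl
  have e1 : CC U' U = CC U U' := inf_comm _ _
  rw [e1] at hsy' hcd2'
  obtain ⟨c₀, hc₀, hle⟩ := exists_conj_le_syl (C := CC U U') (T := Th ⊓ CC U U') (X := T' ⊓ CC U U') inf_le_right
    (hp.to_le inf_le_left) (b.T2'.to_le inf_le_left) hsy
  have h2 : Nat.card ↥(Th ⊓ CC U U') ≤ Nat.card ↥(Th' ⊓ CC U U') :=
    card_syl_le inf_le_right (hp.to_le inf_le_left) (hp'.to_le inf_le_left) hsy'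
  exact end_lemma hG h4 b c (Sh := Th ⊓ CC U U') (hp.to_le inf_le_left) inf_le_right hsy
    (fun x hx => b.act c hp hT hcd hx.1 hx.2) hc₀ hle (h2.trans hcd2') hhalf hna

/-- **`k' = 1`** -/
theorem Base.false_one [Finite G] [Finite F] (hG : IsCharacteristicTwoType G) (h4 : 4 ≤ Nat.card F)
    (b : Base T T' L L' A A' U U' π π' e f g e' f' g')
    (hS' : ∀ X : Subgroup G, IsPGroup 2 X → T' ≤ X → X ≤ T') (hhalf : Half L A)
    (hna : ∃ x ∈ T ⊓ centralizer (A : Set G), ∃ y ∈ T ⊓ centralizer (A : Set G), x * y ≠ y * x) : False := by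
  obtain ⟨s, c⟩ := b.symm.exists_core
  obtain ⟨Th, hp, hT, hcd, hsy, hcd2⟩ := b.syl
  obtain ⟨Th', hp', hT', hcd', hsy', hcd2'⟩ := b.symm.syl
  have hTT : Th' = T' := le_antisymm (hS' _ hp' hT') hT'
  subst hTT
  have e1 : CC U' U = CC U U' := inf_comm _ _
  rw [← e1] at hsy hcd2
  obtain ⟨c₀, hc₀, hle⟩ := exists_conj_le_syl (C := CC U' U) (T := Th' ⊓ CC U' U) (X := T ⊓ CC U' U) inf_le_right
    (hp'.to_le inf_le_left) (b.T2.to_le inf_le_left) hsy'
  have h2 : Nat.card ↥(Th' ⊓ CC U' U) ≤ Nat.card ↥(Th ⊓ CC U' U) :=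
    card_syl_le inf_le_right (hp'.to_le inf_le_left) (hp.to_le inf_le_left) hsy
  exact end_lemma hG h4 b.symm c (Sh := Th' ⊓ CC U' U) (hp'.to_le inf_le_left) inf_le_right hsy'
    (fun x hx => b.symm.tau hx.1 hx.2) hc₀ hle (h2.trans hcd2) hhalf hna

end Cfsg.Agent.Omega.IId.Ns

end

section


/-!
# II.d, nonsplit, `k = 2`, `k' ≤ 2`: impossible

* `base_of` : the configuration `Base` of the pair `(N_i, N'_j)`;
* `nonsplit_two` : there is no pair `(P, P')` of natural members with `k = 2`, `k' ≤ 2`, which are not both split.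
-/

set_option autoImplicit false
set_option linter.unusedSectionVars false

namespace Cfsg.Agent.Omega.IId.Ns

open Subgroup Cfsg Cfsg.Agent.ZN Cfsg.Agent.ZN.ChoiceSit Cfsg.Agent.ZN.ChoiceBase Cfsg.Agent.Omega.MinPar
open Cfsg.Agent.Omega.FrameFF Cfsg.Agent.Omega.FFThm Cfsg.Agent.Lib.SL2Mat
open Cfsg.Agent.Omega.NatPair (ap ap_add ap_mul ap_one ap_inj ext2 ap_zero' ap_one' ap_inv_ap ap_ap_inv)
open Cfsg.Agent.Omega.HOne (cv_le conj_mem_zl conj_mem_cv)
open Cfsg.Agent.Omega.HOne.Main (vx SplitPar)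
open Cfsg.Agent.Omega.IId.Cv
open Cfsg.Agent.Omega.HOne.NSMod Cfsg.Agent.Omega.HOne.NSSide Cfsg.Agent.Omega.HOne.NSPair
open Cfsg.Agent.MinSimple.VModule (oddGen oddGen_le zc_comm zc_sq zc_le mem_zc o2_isPGroup)
open Cfsg.Agent.Omega.FrameMulti (IsNat)

universe u

section po

variable {G : Type u} [Group G] [Finite G] {F : Type} [Field F] [Finite F] [CharP F 2]
  {S S' : Sylow 2 G} {P P' : Subgroup G} {k k' : ℕ}
  {M : NatK F (S : Subgroup G) P (zl (S : Subgroup G) P) (cv (S : Subgroup G) P) k}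
  {M' : NatK F (S' : Subgroup G) P' (zl (S' : Subgroup G) P') (cv (S' : Subgroup G) P') k'}
  {i : Fin k} {j : Fin k'} {π π' : G → Fin 2 → F} {e f g e' f' g' : F → G}

theorem PO.symm (o : PO M M' i j π π' e f g e' f' g') : PO M' M j i π' π e' f' g' e f g where
  m := o.m'
  m' := o.m
  p := o.p.symm
  c1 := o.c2
  c2 := o.c1
  g1 := o.g1'
  g1' := o.g1
  π0 := o.π0'
  π0' := o.π0

variable (o : PO M M' i j π π' e f g e' f' g')

include o

theorem PO.U_ne : Uc M i ≠ ⊥ := fun h0 => by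
  have h1 := o.p.φ.gD (1 : F)
  rw [h0, mem_bot] at h1
  exact one_ne_zero (o.g1 1 h1)

/-- `U' = e(F)` -/
theorem PO.U'_iff (x : G) : x ∈ Uc M' j ↔ ∃ z, x = e z := by
  constructor
  · intro hx
    obtain ⟨y, rfl⟩ := o.p.φ'.ND x hx.1 hx
    choose θ hθ using o.c1
    have hθi : Function.Injective θ := fun x y hxy => o.p.φ.e_inj o.p.s.r (by rw [hθ, hθ, hxy])
    obtain ⟨z, rfl⟩ := Finite.surjective_of_injective hθi y
    exact ⟨z, (hθ z).symm⟩
  · rintro ⟨z, rfl⟩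
    obtain ⟨y, hy⟩ := o.c1 z
    rw [hy]; exact o.p.φ'.gD y

theorem PO.U'_le : Uc M' j ≤ Nc M i := fun x hx => by
  obtain ⟨z, rfl⟩ := (o.U'_iff x).1 hx
  exact o.p.φ.eV z

/-- `T` normalises `U` -/
theorem PO.T_U : Tc M i ≤ normalizer (Uc M i : Set G) := (Sd.Tc_le_St M i).trans (Sd.St_norm_Uc M i)

/-- `T` normalises `U'` -/
theorem PO.T_U' : Tc M i ≤ normalizer (Uc M' j : Set G) := by
  refine Sd.le_normalizer_of_conj fun t ht u hu => ?_
  obtain ⟨z, rfl⟩ := (o.U'_iff u).1 hu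
  obtain ⟨z', hz'⟩ := o.p.norm_e o.g1 ht z
  exact (o.U'_iff _).2 ⟨z', hz'⟩

theorem PO.T2 : IsPGroup 2 (Tc M i) := S.isPGroup'.to_le (Sd.Tc_le M i)

theorem PO.card_le {X : Subgroup G} (hX : IsPGroup 2 X) : Nat.card X ≤ Nat.card (S : Subgroup G) := by
  obtain ⟨Q, hQ⟩ := hX.exists_le_sylow
  refine (Subgroup.card_le_of_le hQ).trans ?_
  have : Nat.card (Q : Subgroup G) = Nat.card (S : Subgroup G) := by
    rw [Q.card_eq_multiplicity, S.card_eq_multiplicity]
  exact this.le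

variable (hG : IsCharacteristicTwoType G) (hp : Pair S S' P P')

include hG hp

theorem PO.AZ (hh : Half (Lc M i) (Nc M i)) : Nc M i ≤ zc (o2 (normalizer (Uc M i : Set G))) :=
  hh _ ((Sd.Lc_le_St S M i).trans (Sd.St_norm_Uc M i))
    (MinSimple.Basic.char2_normalizer hG ((S.isPGroup'.to_le (Sd.V_le_S hG S hp.star)).to_le
      (inf_le_left.trans (Nc_le M i))) o.U_ne)

end po

section two

variable {G : Type u} [Group G] [Finite G] {F : Type} [Field F] [Finite F] [CharP F 2]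
  {S S' : Sylow 2 G} {P P' : Subgroup G} {k' : ℕ}
  {M : NatK F (S : Subgroup G) P (zl (S : Subgroup G) P) (cv (S : Subgroup G) P) 2}
  {M' : NatK F (S' : Subgroup G) P' (zl (S' : Subgroup G) P') (cv (S' : Subgroup G) P') k'}
  {i : Fin 2} {j : Fin k'} {π π' : G → Fin 2 → F} {e f g e' f' g' : F → G}
  (o : PO M M' i j π π' e f g e' f' g') (hG : IsCharacteristicTwoType G) (hp : Pair S S' P P')

include o hG hp

theorem PO.two : ∀ X : Subgroup G, IsPGroup 2 X → Tc M i ≤ X → Nat.card X ≤ 2 * Nat.card (Tc M i) :=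
  fun _ hX _ => (o.card_le hX).trans (Sd.card_Tc S hp.star M i).le

/-- LEMMA X -/
theorem PO.OT (hF : 4 ≤ Nat.card F) : o2 (CC (Uc M i) (Uc M' j)) ≤ Tc M i := by
  obtain ⟨l, hil⟩ := exists_ne i
  obtain ⟨s, hs, hsm⟩ := M.trans i l
  have hSP := hp.star.le
  have hsP := hSP hs
  have hsm' : Mv M s i l := fun v hv => hsm v hv
  have hω := exists_omega hF
  -- `Tc M l = Tc M i`
  have hTT : Tc M l ≤ Tc M i := fun t ht => ⟨ht.1, Mv_of_two S ht.1.2 hil ht.2⟩
  have hTT' : Tc M i ≤ Tc M l := fun t ht => ⟨ht.1, Mv_of_two S ht.1.2 hil.symm ht.2⟩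
  have hsl : Mv M s l i := by
    obtain ⟨m, hm⟩ := exists_Mv (M := M) hsP l
    have h1 : m ≠ l := by
      rintro rfl
      exact hil (Mv.unique' hsm' hm hsP)
    have h2 : m = i := by omega
    rwa [h2] at hm
  have hUU : Uc M i ⊔ Uc M' j ≤ Nc M i := sup_le inf_le_left o.U'_le
  refine LemX.o2_CC_le_pair o.p o.g1 o.U'_iff S.isPGroup' (Sd.Tc_le M i) hs ?_ ?_ (o.two hG hp) ?_ ?_
  · intro t ht
    have ht' := hTT' ht
    exact ⟨⟨mul_mem (mul_mem (inv_mem hs) ht.1.1) hs, mul_mem (mul_mem (inv_mem hsP) ht.1.2) hsP⟩,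
      ((hsm'.inv hsP).mul (show Mv M t l l from ht'.2) ht.1.2).mul hsm' hsP⟩
  · exact ⟨⟨mul_mem hs hs, mul_mem hsP hsP⟩, hsl.mul hsm' hsP⟩
  · intro z
    have hL : Lc M l ≤ normalizer ((Uc M i ⊔ Uc M' j : Subgroup G) : Set G) := by
      refine sup_le ?_ ?_
      · refine Sd.le_normalizer_of_conj fun t ht v hv => ?_
        have hti := hTT ht
        have h1 : Uc M i ⊔ Uc M' j ≤ (Uc M i ⊔ Uc M' j : Subgroup G).comap (MulAut.conj t).toMonoidHom := by
          refine sup_le (fun u hu => ?_) fun u hu => ?_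
          · exact (le_sup_left : Uc M i ≤ Uc M i ⊔ Uc M' j) ((mem_normalizer_iff.1 (o.T_U hti) u).1 hu)
          · exact (le_sup_right : Uc M' j ≤ Uc M i ⊔ Uc M' j) ((mem_normalizer_iff.1 (o.T_U' hti) u).1 hu)
        exact h1 hv
      · refine Sd.le_normalizer_of_conj fun x hx v hv => ?_
        have h1 := Sd.Fc_comm_Nc hG S hp.star M hω hil (Sd.Ec_le S M l hx) (hUU hv)
        rw [h1, mul_inv_cancel_right]
        exact hv
    have hne : Uc M i ⊔ Uc M' j ≠ ⊥ := fun h0 => o.U_ne (eq_bot_iff.2 (le_sup_left.trans h0.le))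
    have h2 : IsPGroup 2 (Uc M i ⊔ Uc M' j : Subgroup G) :=
      (S.isPGroup'.to_le (Sd.V_le_S hG S hp.star)).to_le (hUU.trans (Nc_le M i))
    exact half_Lc hG S hp.star hF l _ hL (MinSimple.Basic.char2_normalizer hG h2 hne)
      (Nc_mv hsP hsm' (o.p.φ.eV z))
  · intro z hz he
    have h1 : e z ∈ Nc M l := by
      rw [← he]; exact Nc_mv hsP hsm' (o.p.φ.eV z)
    have h2 : M.e (e z) i = 0 := Nc_e M h1 i hil
    have h3 : e z ∈ Uc M i := (Sd.mem_Uc_iff S M (o.p.φ.eV z)).2 h2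
    have h4 := (o.p.s.r.ker _ (o.p.φ.eV z)).2 h3
    rw [o.p.φ.eπ] at h4
    have h5 := congrFun h4 1
    exact hz (by simpa using h5)

end two

section fin

variable {G : Type u} [Group G] [Finite G] {F : Type} [Field F] [Finite F] [CharP F 2]
  {S S' : Sylow 2 G} {P P' : Subgroup G}
  {M : NatK F (S : Subgroup G) P (zl (S : Subgroup G) P) (cv (S : Subgroup G) P) 2}
  (hG : IsCharacteristicTwoType G) (hp : Pair S S' P P')

include hG hp

/-- **`k = k' = 2`** -/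
theorem PO.false_two {M' : NatK F (S' : Subgroup G) P' (zl (S' : Subgroup G) P') (cv (S' : Subgroup G) P') 2}
    {i : Fin 2} {j : Fin 2} {π π' : G → Fin 2 → F} {e f g e' f' g' : F → G}
    (o : PO M M' i j π π' e f g e' f' g') (hF : 4 ≤ Nat.card F) : False := by
  have hω := exists_omega hF
  have b : Base (Tc M i) (Tc M' j) (Lc M i) (Lc M' j) (Nc M i) (Nc M' j) (Uc M i) (Uc M' j) π π' e f g e' f' g' :=
    { p := o.p
      c1 := o.c1
      c2 := o.c2
      g1 := o.g1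
      g1' := o.g1'
      T2 := o.T2
      T2' := o.symm.T2
      two := o.two hG hp
      two' := o.symm.two hG hp.symm
      QL := Sd.Lc_le_norm_Qc S M i
      QL' := Sd.Lc_le_norm_Qc S' M' j
      AZ := o.AZ hG hp (half_Lc hG S hp.star hF i)
      AZ' := o.symm.AZ hG hp.symm (half_Lc hG S' hp.star' hF j)
      OT := o.OT hG hp hF
      OT' := by
        have h1 := o.symm.OT hG hp.symm hF
        have e1 : CC (Uc M' j) (Uc M i) = CC (Uc M i) (Uc M' j) := inf_comm _ _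
        rw [e1] at h1
        exact h1 }
  obtain ⟨l, hjl⟩ := exists_ne j
  exact b.false_two hG hF (half_Lc hG S' hp.star' hF j) (Sd.exists_Qc_ne hG S' hp.star' M' hω hjl)

/-- **`k = 2`, `k' = 1`** -/
theorem PO.false_one {M' : NatK F (S' : Subgroup G) P' (zl (S' : Subgroup G) P') (cv (S' : Subgroup G) P') 1}
    {i : Fin 2} {j : Fin 1} {π π' : G → Fin 2 → F} {e f g e' f' g' : F → G}
    (o : PO M M' i j π π' e f g e' f' g') (hF : 4 ≤ Nat.card F) : False := by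
  have hω := exists_omega hF
  have hcT : Nat.card (S' : Subgroup G) = Nat.card (Tc M' j) := by
    have h1 := Sd.card_Tc S' hp.star' M' j
    rwa [one_mul] at h1
  have hTS : Tc M' j = (S' : Subgroup G) := Subgroup.eq_of_le_of_card_ge (Sd.Tc_le M' j) hcT.le
  have hS' : ∀ X : Subgroup G, IsPGroup 2 X → Tc M' j ≤ X → X ≤ Tc M' j := by
    intro X hX hle
    rw [hTS] at hle ⊢
    exact (S'.is_maximal' hX hle).le
  have b : Base (Tc M i) (Tc M' j) (Lc M i) (Lc M' j) (Nc M i) (Nc M' j) (Uc M i) (Uc M' j) π π' e f g e' f' g' :=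
    { p := o.p
      c1 := o.c1
      c2 := o.c2
      g1 := o.g1
      g1' := o.g1'
      T2 := o.T2
      T2' := o.symm.T2
      two := o.two hG hp
      two' := fun X hX hle => by
        have h1 := Subgroup.card_le_of_le (hS' X hX hle)
        omega
      QL := Sd.Lc_le_norm_Qc S M i
      QL' := Sd.Lc_le_norm_Qc S' M' j
      AZ := o.AZ hG hp (half_Lc hG S hp.star hF i)
      AZ' := o.symm.AZ hG hp.symm (half_of_sylow hG S' hp.star' hF hTS.ge)
      OT := o.OT hG hp hF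
      OT' := LemX.o2_CC_le_of_sylow o.symm.T2 hS' o.symm.T_U' o.symm.T_U }
  obtain ⟨l, hil⟩ := exists_ne i
  exact b.false_one hG hF hS' (half_Lc hG S hp.star hF i) (Sd.exists_Qc_ne hG S hp.star M hω hil)

end fin

/-- **Nonsplit, `k = 2`, `k' ≤ 2`: impossible.** -/
theorem nonsplit_two {G : Type u} [Group G] [Finite G] (hG : IsCharacteristicTwoType G) {S S' : Sylow 2 G}
    {P P' : Subgroup G} (hp : Pair S S' P P') (hT : NoOver (zl (S : Subgroup G) P) P)
    (hT' : NoOver (zl (S' : Subgroup G) P') P') {k' : ℕ} (hk1 : 1 ≤ k') (hk2 : k' ≤ 2)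
    (hM : IsNat (S : Subgroup G) P 2) (hM' : IsNat (S' : Subgroup G) P' k')
    (hs : ¬ (SplitPar (S : Subgroup G) P ∧ SplitPar (S' : Subgroup G) P')) : False := by
  obtain ⟨F, _, _, _, ⟨M⟩⟩ := hM
  obtain ⟨F', _, _, _, ⟨M₁⟩⟩ := hM'
  obtain ⟨I, I', b, c, d⟩ := exists_pd hG hp hT hT' M M₁
  have hcard := d.card_eq two_pos (by omega)
  -- `|F| ≥ 4`
  have hF : 4 ≤ Nat.card F := by
    by_contra hlt
    have : Fintype F := Fintype.ofFinite F
    have h1 : 1 < Nat.card F := Finite.one_lt_card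
    have h2 : 2 ∣ Nat.card F := two_dvd_card
    have h3 : Nat.card F = 2 := by omega
    exact hs ⟨splitPar_two hG S hp.star M two_pos h3, splitPar_two hG S' hp.star' M₁ (by omega) (hcard ▸ h3)⟩
  -- one field
  have : Fintype F := Fintype.ofFinite F
  have : Fintype F' := Fintype.ofFinite F'
  have hσ : Nonempty (F' ≃+* F) := by
    rw [Nat.card_eq_fintype_card, Nat.card_eq_fintype_card] at hcard
    exact ⟨FiniteField.ringEquivOfCardEq hcard.symm⟩
  obtain ⟨σ⟩ := hσ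
  obtain ⟨M', hM'⟩ : ∃ M' : NatK F (S' : Subgroup G) P' (zl (S' : Subgroup G) P') (cv (S' : Subgroup G) P') k',
      M' = natKFld σ M₁ := ⟨_, rfl⟩
  obtain ⟨I, I', b, c, d⟩ := exists_pd hG hp hT hT' M M'
  obtain ⟨i, j, m, m'⟩ := d.exists_mt two_pos (by omega)
  have hω := exists_omega hF
  rcases Nat.lt_or_ge k' 2 with hk | hk
  · obtain rfl : k' = 1 := by omega
    have hcT : Nat.card (S' : Subgroup G) = Nat.card (Tc M' j) := by
      have h1 := Sd.card_Tc S' hp.star' M' j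
      rwa [one_mul] at h1
    have hTS : Tc M' j = (S' : Subgroup G) := Subgroup.eq_of_le_of_card_ge (Sd.Tc_le M' j) hcT.le
    obtain ⟨π, π', e, f, g, e', f', g', o⟩ := exists_po hG hp hω m m' (half_Lc hG S hp.star hF i)
      (half_of_sylow hG S' hp.star' hF hTS.ge) hs
    exact PO.false_one hG hp o hF
  · obtain rfl : k' = 2 := by omega
    obtain ⟨π, π', e, f, g, e', f', g', o⟩ := exists_po hG hp hω m m' (half_Lc hG S hp.star hF i)
      (half_Lc hG S' hp.star' hF j) hs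
    exact PO.false_two hG hp o hF

end Cfsg.Agent.Omega.IId.Ns

end

end

-- merged: Cfsg.Agent.Mrg.Omega.IId.CvNS.Plug
section

/-!
# II.d, `CvNonsplit`, all `k ≥ 2`, `k' ≥ 1`: the plug

`VZ M` : `Nc M i ≤ Ω₁ Z(O₂(N_G(Uc M i)))` if `Uc M i ≠ 1` (for all `i`).

* `exists_po'` : the dichotomy with the literal coordinates, from `VZ`;
* `false_of_mt` : a matched pair of factors, a second factor `l ≠ i`: contradiction (THEOREM C with `D` = `ThmCQ/NsMain`,
  `OppBase.false_of` = bb #20998);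
* `nonsplit_of` : `CvNonsplit` for `k ≥ 2` or `k' ≥ 2`.
-/

set_option autoImplicit false
set_option linter.unusedSectionVars false
set_option linter.unusedVariables false

namespace Cfsg.Agent.Omega.IId.CvNS.Plug

open Subgroup Cfsg Cfsg.Agent.ZN Cfsg.Agent.ZN.ChoiceSit Cfsg.Agent.ZN.ChoiceBase Cfsg.Agent.Omega.MinPar
open Cfsg.Agent.Omega.FrameFF Cfsg.Agent.Omega.FFThm Cfsg.Agent.Lib.SL2Mat
open Cfsg.Agent.Omega.NatPair (ap ap_add ap_mul ap_one ap_inj ext2 ap_zero' ap_one' ap_inv_ap ap_ap_inv)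
open Cfsg.Agent.Omega.HOne (cv_le conj_mem_zl conj_mem_cv)
open Cfsg.Agent.Omega.HOne.Main (vx SplitPar)
open Cfsg.Agent.Omega.IId.Cv Cfsg.Agent.Omega.IId.Ns
open Cfsg.Agent.Omega.HOne.NSMod Cfsg.Agent.Omega.HOne.NSSide Cfsg.Agent.Omega.HOne.NSPair
open Cfsg.Agent.MinSimple.VModule (oddGen oddGen_le zc_comm zc_sq zc_le mem_zc o2_isPGroup)
open Cfsg.Agent.Omega.FrameMulti (IsNat)
open Cfsg.Agent.Omega.IId.ThmCQ.Nsp (Sit Zf)

universe u

variable {G : Type u} [Group G] [Finite G] {F : Type} [Field F] [Finite F] [CharP F 2]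

/-- (H1b) for `N_i` -/
def VZ {F : Type} [Field F] {S : Sylow 2 G} {P : Subgroup G} {k : ℕ}
    (M : NatK F (S : Subgroup G) P (zl (S : Subgroup G) P) (cv (S : Subgroup G) P) k) : Prop :=
  ∀ i, Uc M i ≠ ⊥ → Nc M i ≤ zc (o2 (normalizer (Uc M i : Set G)))

/-- HALF* ==> `VZ` -/
theorem VZ.of_half (hG : IsCharacteristicTwoType G) {S : Sylow 2 G} {P : Subgroup G} (h : IsParS (S : Subgroup G) P)
    {k : ℕ} {M : NatK F (S : Subgroup G) P (zl (S : Subgroup G) P) (cv (S : Subgroup G) P) k}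
    (hh : ∀ i, Half (Lc M i) (Nc M i)) : VZ M := fun i hi =>
  hh i _ ((Sd.Lc_le_St S M i).trans (Sd.St_norm_Uc M i))
    (MinSimple.Basic.char2_normalizer hG ((S.isPGroup'.to_le (Sd.V_le_S hG S h)).to_le
      (inf_le_left.trans (Nc_le M i))) hi)

variable (hG : IsCharacteristicTwoType G) {S S' : Sylow 2 G} {P P' : Subgroup G} (hp : Pair S S' P P') {k k' : ℕ}
  {M : NatK F (S : Subgroup G) P (zl (S : Subgroup G) P) (cv (S : Subgroup G) P) k}
  {M' : NatK F (S' : Subgroup G) P' (zl (S' : Subgroup G) P') (cv (S' : Subgroup G) P') k'}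
  (hω : ∃ ω : F, ω ≠ 0 ∧ ω ≠ 1)

include hG hp hω in
/-- **The dichotomy**, with the literal coordinates. -/
theorem exists_po' {i : Fin k} {j : Fin k'} (m : Mt M M' i j) (m' : Mt M' M j i)
    (hh : VZ M) (hh' : VZ M')
    (hs : ¬ (SplitPar (S : Subgroup G) P ∧ SplitPar (S' : Subgroup G) P')) :
    ∃ e f g e' f' g', PO M M' i j (Sd.natOver hG S hp.star M hω i).e (Sd.natOver hG S' hp.star' M' hω j).e
      e f g e' f' g' := by
  obtain ⟨e, f, g, e', f', g', p⟩ := exists_pairF hG hp hω m m'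
  rcases p.dich with ⟨h1, h2⟩ | ⟨h1, h2, h3, h4⟩
  · exfalso
    have hU : Uc M i = Uc M' j := by
      apply le_antisymm
      · intro u hu
        obtain ⟨y, rfl⟩ := p.φ.ND u hu.1 hu
        obtain ⟨y', hy'⟩ := h1 y
        rw [hy']; exact p.φ'.gD y'
      · intro u hu
        obtain ⟨y, rfl⟩ := p.φ'.ND u hu.1 hu
        obtain ⟨y', hy'⟩ := h2 y
        rw [hy']; exact p.φ.gD y'
    by_cases h0 : Uc M i = ⊥
    · exact hs ⟨splitPar_of_Uc hG S hp.star h0, splitPar_of_Uc hG S' hp.star' (by rw [← hU]; exact h0)⟩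
    · have a1 := hh i h0
      have a2 := hh' j (by rw [← hU]; exact h0)
      rw [← hU] at a2
      obtain ⟨v, hv, hve⟩ := Nc_ex M i ![0, 1]
      have h5 := (m.cen v (Nc_le M i hv)).1 fun a ha => zc_comm _ _ (a2 ha) _ (a1 hv)
      rw [hve] at h5
      exact one_ne_zero h5
  · exact ⟨e, f, g, e', f', g', m, m', p, h1, h2, h3, h4, fun v => Sd.pc_zero S M i v, fun v => Sd.pc_zero S' M' j v⟩

include hG hp in
/-- **The end**: a matched pair of factors and a second factor `l ≠ i`. -/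
theorem false_of_mt (hF : 4 ≤ Nat.card F) {i : Fin k} {j : Fin k'} (m : Mt M M' i j) (m' : Mt M' M j i)
    (hh : VZ M) (hh' : VZ M')
    (hs : ¬ (SplitPar (S : Subgroup G) P ∧ SplitPar (S' : Subgroup G) P')) {l : Fin k} (hl : l ≠ i) : False := by
  have q : Sit F S P k := ⟨hG, hp.star, i.pos, hF⟩
  obtain ⟨e, f, g, e', f', g', o⟩ := exists_po' hG hp (ThmCQ.Nsp.hω q) m m' hh hh' hs
  -- `U' = Zf M i`
  have hU : Uc M' j = Zf M i := by
    ext x
    rw [o.U'_iff x, ThmCQ.Nsp.mem_Zf_iff_form q o.p.φ x]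
  obtain ⟨r, n, t, ht, x, hr, hr2, ht1, htr, hxn, hx⟩ := ThmCQ.Nsp.exists_elt (M := M) q l
  have hVc : Nc M' j ≤ centralizer (Uc M' j : Set G) := by
    intro a ha
    exact mem_centralizer_iff.2 fun u hu =>
      Sd.V_comm hG S' hp.star' (Nc_le M' j hu.1) (Nc_le M' j ha)
  refine OppBase.false_of o.p o.c1 o.c2 o.g1 o.g1' (h := x) (Z₂ := Zf M l) ?_ ?_ ?_ ?_ ?_ ?_ ?_ hr hr2 hxn htr ht1
  · rw [hU]; exact ThmCQ.Nsp.o2_cent_Zf_le_Tc q i
  · exact ThmCQ.Nsp.zc_cent_of_norm (hh' j o.symm.U_ne) hVc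
  · rw [hU]; exact (ThmCQ.Nsp.Zf_le l).trans (ThmCQ.Nsp.Nc_le_zc_cent q hl)
  · exact ThmCQ.Nsp.Nc_le_zc q hl.symm
  · exact fun a ha => ThmCQ.Nsp.Al_comm_Nc q hl.symm hx ha
  · exact fun z hz => ThmCQ.Nsp.conj_Zf_Al q hx (by simp) hz
  · intro z hz hc
    have h1 := ThmCQ.Nsp.e_comm hx (ThmCQ.Nsp.Zf_le_V l hz) (ThmCQ.Nsp.Zf_le_NL l hz).2
    have h2 : x * z * x⁻¹ * z⁻¹ = 1 := by rw [hc]; group
    rw [h2, Cv.e_one M] at h1
    have h3 : (t - 1) * M.e z l 0 = 0 := (congrFun h1 0).symm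
    exact ThmCQ.Nsp.eq_one_of_Zf q hz ((mul_eq_zero.1 h3).resolve_left (sub_ne_zero.2 ht1))

omit hG hp in
/-- **`CvNonsplit` for `k ≥ 2` or `k' ≥ 2`**, from (H1b). -/
theorem nonsplit_of {G : Type u} [Group G] [Finite G] (hG : IsCharacteristicTwoType G) {S S' : Sylow 2 G}
    {P P' : Subgroup G} (hp : Pair S S' P P') (hT : NoOver (zl (S : Subgroup G) P) P)
    (hT' : NoOver (zl (S' : Subgroup G) P') P') {k k' : ℕ} (hk : 1 ≤ k) (hk' : 1 ≤ k') (hkk : 2 ≤ k ∨ 2 ≤ k')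
    (hM : IsNat (S : Subgroup G) P k) (hM' : IsNat (S' : Subgroup G) P' k')
    (hs : ¬ (SplitPar (S : Subgroup G) P ∧ SplitPar (S' : Subgroup G) P'))
    (hvz : ∀ (F : Type) [Field F] [Finite F] [CharP F 2]
      (M : NatK F (S : Subgroup G) P (zl (S : Subgroup G) P) (cv (S : Subgroup G) P) k), 4 ≤ Nat.card F → VZ M)
    (hvz' : ∀ (F : Type) [Field F] [Finite F] [CharP F 2]
      (M : NatK F (S' : Subgroup G) P' (zl (S' : Subgroup G) P') (cv (S' : Subgroup G) P') k'), 4 ≤ Nat.card F → VZ M) :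
    False := by
  obtain ⟨F, _, _, _, ⟨M⟩⟩ := hM
  obtain ⟨F', _, _, _, ⟨M₁⟩⟩ := hM'
  obtain ⟨I, I', b, c, d⟩ := exists_pd hG hp hT hT' M M₁
  have hcard := d.card_eq hk hk'
  -- `|F| ≥ 4`
  have hF : 4 ≤ Nat.card F := by
    by_contra hlt
    have : Fintype F := Fintype.ofFinite F
    have h1 : 1 < Nat.card F := Finite.one_lt_card
    have h2 : 2 ∣ Nat.card F := two_dvd_card
    have h3 : Nat.card F = 2 := by omega
    exact hs ⟨splitPar_two hG S hp.star M hk h3, splitPar_two hG S' hp.star' M₁ hk' (hcard ▸ h3)⟩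
  -- one field
  have : Fintype F := Fintype.ofFinite F
  have : Fintype F' := Fintype.ofFinite F'
  have hσ : Nonempty (F' ≃+* F) := by
    rw [Nat.card_eq_fintype_card, Nat.card_eq_fintype_card] at hcard
    exact ⟨FiniteField.ringEquivOfCardEq hcard.symm⟩
  obtain ⟨σ⟩ := hσ
  obtain ⟨M', hM'⟩ : ∃ M' : NatK F (S' : Subgroup G) P' (zl (S' : Subgroup G) P') (cv (S' : Subgroup G) P') k',
      M' = natKFld σ M₁ := ⟨_, rfl⟩
  obtain ⟨I, I', b, c, d⟩ := exists_pd hG hp hT hT' M M'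
  obtain ⟨i, j, m, m'⟩ := d.exists_mt hk hk'
  rcases hkk with h2 | h2
  · obtain ⟨l, hl⟩ : ∃ l : Fin k, l ≠ i := by
      have : Nontrivial (Fin k) := Fin.nontrivial_iff_two_le.2 h2
      exact exists_ne i
    exact false_of_mt hG hp hF m m' (hvz F M hF) (hvz' F M' hF) hs hl
  · obtain ⟨l, hl⟩ : ∃ l : Fin k', l ≠ j := by
      have : Nontrivial (Fin k') := Fin.nontrivial_iff_two_le.2 h2
      exact exists_ne j
    exact false_of_mt hG hp.symm hF m' m (hvz' F M' hF) (hvz F M hF) (fun h => hs ⟨h.2, h.1⟩) hl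

end Cfsg.Agent.Omega.IId.CvNS.Plug

end

-- merged: Cfsg.Agent.Mrg.Omega.IId.CvNS.Cvn
section

/-!
# II.d, `CvNonsplit`, all `k, k'`

`nonsplit` : a mutual pair of natural members with at least three factors on both sides together is split on both sides;
`cvNonsplit : Cv.CvNonsplit K`.
-/

set_option autoImplicit false
set_option linter.unusedSectionVars false

namespace Cfsg.Agent.Omega.IId.CvNS.Plug

open Subgroup Cfsg Cfsg.Agent.ZN Cfsg.Agent.ZN.ChoiceSit Cfsg.Agent.ZN.ChoiceBase Cfsg.Agent.Omega.MinPar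
open Cfsg.Agent.Omega.FrameFF Cfsg.Agent.Omega.FFThm
open Cfsg.Agent.Omega.HOne.Main (vx SplitPar)
open Cfsg.Agent.Omega.IId.Cv Cfsg.Agent.Omega.IId.Ns
open Cfsg.Agent.Omega.FrameMulti (IsNat)

universe u

/-- (H1b) for `N_i` -/
theorem vz_of {G : Type u} [Group G] [Finite G] (hG : IsCharacteristicTwoType G) {S : Sylow 2 G} {P : Subgroup G}
    (h : IsParS (S : Subgroup G) P) {F : Type} [Field F] [Finite F] [CharP F 2] {k : ℕ}
    (M : NatK F (S : Subgroup G) P (zl (S : Subgroup G) P) (cv (S : Subgroup G) P) k) (hF : 4 ≤ Nat.card F) : VZ M :=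
  fun i hU => Rk.vz hG S h M hF i hU

/-- **Nonsplit, `k ≥ 2` or `k' ≥ 2`: impossible.** -/
theorem nonsplit {G : Type u} [Group G] [Finite G] (hG : IsCharacteristicTwoType G) {S S' : Sylow 2 G}
    {P P' : Subgroup G} (hp : Pair S S' P P') (hT : NoOver (zl (S : Subgroup G) P) P)
    (hT' : NoOver (zl (S' : Subgroup G) P') P') {k k' : ℕ} (hk : 1 ≤ k) (hk' : 1 ≤ k') (hkk : 2 ≤ k ∨ 2 ≤ k')
    (hM : IsNat (S : Subgroup G) P k) (hM' : IsNat (S' : Subgroup G) P' k')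
    (hs : ¬ (SplitPar (S : Subgroup G) P ∧ SplitPar (S' : Subgroup G) P')) : False :=
  nonsplit_of hG hp hT hT' hk hk' hkk hM hM' hs (fun F _ _ _ M hF => vz_of hG hp.star M hF)
    (fun F _ _ _ M hF => vz_of hG hp.star' M hF)

/-- **`CvNonsplit`** -/
theorem cvNonsplit {K : Cfsg.Agent.Omega.Frame.Cls.{u}} : Cv.CvNonsplit K := by
  intro G _ _ S S' hH P P' hp k k' hk hk' M M' hs
  exact (nonsplit hH.ctx.char2 hp (hH.typed' hp).1.noOver (hH.typed' hp).2.noOver (by omega) hk' (Or.inl hk)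
    M M' hs).elim

end Cfsg.Agent.Omega.IId.CvNS.Plug

end

-- merged: Cfsg.Agent.Mrg.Omega.IId.SwB.PartSym
section

/-!
# II.d, `SwBig`: a pair of two sums of even-subset modules (142's #20066 frame)

`exists_sym` : a pair `(P, P')`, `P` of type `S_{2^m+1} wr k`, `P'` of type `S_{2^m'+1} wr k'`, `m, m' ≥ 2`, has a
common duad `n = pr M p q = pr M' p' q'`, both sides satisfy the hypotheses `SN` of THEOREM SYL_n, and `v ∈ V`, `w ∈ V'`
do not commute if `v` separates `p, q` and `w` separates `p', q'`.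
-/

set_option autoImplicit false

namespace Cfsg.Agent.Omega.IId.SwB

open Subgroup Pointwise Cfsg Cfsg.Agent.ZN Cfsg.Agent.Omega.MinPar Cfsg.Agent.Omega.FFThm
open Cfsg.Agent.Omega.Half.SymA (Pt E Mv pm)
open Cfsg.Agent.Omega.IId.SymWr Cfsg.Agent.Omega.IId.LFour
open Triangle (KK KK_conj KK_le_o2 mem_cent mem_KK mem_zpowers_iff_of_sq)
open Big (cz qz conj_of_comm comm_of_conj)

universe u

variable {G : Type u} [Group G]

/-- a duad is `pr M p q` -/
theorem eq_pr_of_duad {T P V : Subgroup G} {k m : ℕ} {M : SymK T P V ⊥ k m} {n : G} {p q : Pt k m}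
    (h : Duad M n p q) : n = pr M p q := by
  refine Half.SymA.inj M h.1 (pr_mem M p q) fun r => ?_
  rw [h.2.2.2 r, E_pr M h.2.2.1]

variable [Finite G]

/-- `V' ≤ O₂(C_G(n))` acts on `V` inside `⟨(p q)⟩` -/
theorem pp_of_le {S : Sylow 2 G} {P V V' : Subgroup G} {k m : ℕ} {M : SymK (S : Subgroup G) P V ⊥ k m}
    (h : SymWr.Sit S P V M) {p q : Pt k m} (hpq : p.1 = q.1) (hne : p ≠ q)
    (hV' : V' ≤ o2 (centralizer ({pr M p q} : Set G))) {w : G} (hw : w ∈ V') :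
    w ∈ P ∧ (pp M w = 1 ∨ pp M w = Equiv.swap p q) :=
  ⟨h.qle hpq hne (hV' hw), h.qpp hpq hne (hV' hw)⟩

/-- elements of `V` with the same value at `p` and `q` commute with `V'` -/
theorem comm_of_eq {S : Sylow 2 G} {P V V' : Subgroup G} {k m : ℕ} {M : SymK (S : Subgroup G) P V ⊥ k m}
    (h : SymWr.Sit S P V M) {p q : Pt k m} (hpq : p.1 = q.1) (hne : p ≠ q)
    (hV' : V' ≤ o2 (centralizer ({pr M p q} : Set G))) {v w : G} (hv : v ∈ V) (hw : w ∈ V')
    (hE : E M v p = E M v q) : v * w = w * v := by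
  obtain ⟨hwP, h1⟩ := pp_of_le h hpq hne hV' hw
  symm
  rw [h.comm_iff hwP hv]
  intro r
  rcases h1 with e | e
  · rw [e]; rfl
  · rw [e]
    exact E_swap M hE r

/-- **Two sums of even-subset modules**: the common duad. -/
theorem exists_sym {S S' : Sylow 2 G} {P P' : Subgroup G} {k k' m m' : ℕ} (hc : IsCharacteristicTwoType G)
    (hp : Pair S S' P P')
    (hT : NoOver (zl (S : Subgroup G) P) P) (hT' : NoOver (zl (S' : Subgroup G) P') P')
    (hk : 1 ≤ k) (hm : 2 ≤ m) (hk' : 1 ≤ k') (hm' : 2 ≤ m')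
    (M : SymK (S : Subgroup G) P (zl (S : Subgroup G) P) ⊥ k m)
    (M' : SymK (S' : Subgroup G) P' (zl (S' : Subgroup G) P') ⊥ k' m') :
    ∃ (p q : Pt k m) (p' q' : Pt k' m'), p.1 = q.1 ∧ p ≠ q ∧ p'.1 = q'.1 ∧ p' ≠ q' ∧ pr M p q = pr M' p' q' ∧
      SN S P _ M ∧ SN S' P' _ M' ∧
      ∀ v ∈ zl (S : Subgroup G) P, ∀ w ∈ zl (S' : Subgroup G) P', E M v p ≠ E M v q → E M' w p' ≠ E M' w q' →
        v * w ≠ w * v := by
  obtain ⟨n, ⟨p, q, hd⟩, p', q', hd'⟩ := exists_duad hc hp hT hT' M M'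
  have h : SymWr.Sit S P _ M := SymWr.Sit.of hc hp.star M hk hm
  have h' : SymWr.Sit S' P' _ M' := SymWr.Sit.of hc hp.star' M' hk' hm'
  have hpq := hd.2.2.1
  have hne := hd.2.1
  have hpq' := hd'.2.2.1
  have hne' := hd'.2.1
  have e1 := eq_pr_of_duad hd
  have e2 := eq_pr_of_duad hd'
  have e : pr M p q = pr M' p' q' := e1.symm.trans e2
  have hKO : KK (pr M p q) ≤ o2 (centralizer ({pr M p q} : Set G)) :=
    KK_le_o2 (h.Vsq (pr_mem M p q))
      (MinSimple.Basic.char2_centralizer hc (by rw [pow_two]; exact h.Vsq (pr_mem M p q)) (pr_ne_one M hpq hne))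
  have hVK := h.V_le_KK hpq hne
  have hVK' : zl (S' : Subgroup G) P' ≤ KK (pr M p q) := by
    rw [e]
    exact h'.V_le_KK hpq' hne'
  have hVO' := hVK'.trans hKO
  have hVO : zl (S : Subgroup G) P ≤ o2 (centralizer ({pr M' p' q'} : Set G)) := by
    rw [← e]
    exact hVK.trans hKO
  -- noncommuting elements
  obtain ⟨v₀, hv₀, w₀, hw₀, hcc⟩ : ∃ v ∈ zl (S : Subgroup G) P, ∃ w ∈ zl (S' : Subgroup G) P', v * w ≠ w * v := by
    by_contra hcon
    push Not at hcon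
    apply hp.ne
    rw [eq_bot_iff, commutator_le]
    intro v hv w hw
    rw [mem_bot, commutatorElement_eq_one_iff_mul_comm]
    exact hcon v hv w hw
  have hE₀ : E M v₀ p ≠ E M v₀ q := fun e0 => hcc (comm_of_eq h hpq hne hVO' hv₀ hw₀ e0)
  have hE₀' : E M' w₀ p' ≠ E M' w₀ q' := fun e0 => hcc (comm_of_eq h' hpq' hne' hVO hw₀ hv₀ e0).symm
  have hw₀p : pp M w₀ = Equiv.swap p q := by
    refine (pp_of_le h hpq hne hVO' hw₀).2.resolve_left fun e0 => hcc ?_
    rw [h.eq_one_iff (pp_of_le h hpq hne hVO' hw₀).1] at e0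
    exact mem_centralizer_iff.1 e0 _ hv₀
  have hv₀p : pp M' v₀ = Equiv.swap p' q' := by
    refine (pp_of_le h' hpq' hne' hVO hv₀).2.resolve_left fun e0 => hcc ?_
    rw [h'.eq_one_iff (pp_of_le h' hpq' hne' hVO hv₀).1] at e0
    exact (mem_centralizer_iff.1 e0 _ hw₀).symm
  refine ⟨p, q, p', q', hpq, hne, hpq', hne', e, SN.of_one h hc ⟨p, q, hpq, hne, w₀, hVK' hw₀, hw₀p⟩,
    SN.of_one h' hc ⟨p', q', hpq', hne', v₀, ?_, hv₀p⟩, ?_⟩
  · rw [← e]
    exact hVK hv₀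
  · intro v hv w hw hE hE'
    have k2 : ∀ x y z w : ZMod 2, x ≠ y → z ≠ w → x + z = y + w := by decide
    -- `v v₀` and `w w₀` are in the perps
    have h1 : E M (v * v₀) p = E M (v * v₀) q := by
      rw [Half.SymA.E_mul M hv hv₀, Half.SymA.E_mul M hv hv₀]
      exact k2 _ _ _ _ hE hE₀
    have h2 : E M' (w * w₀) p' = E M' (w * w₀) q' := by
      rw [Half.SymA.E_mul M' hw hw₀, Half.SymA.E_mul M' hw hw₀]
      exact k2 _ _ _ _ hE' hE₀'
    have h3 := comm_of_eq h hpq hne hVO' (mul_mem hv hv₀) hw h1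
    have h4 := comm_of_eq h' hpq' hne' hVO (mul_mem hw hw₀) hv₀ h2
    intro h5
    -- `v₀` commutes with `w`
    have h6 : v₀ * w = w * v₀ := by
      have h7 : v * (v₀ * w) = v * (w * v₀) := by
        rw [← mul_assoc, h3, ← mul_assoc, ← mul_assoc, ← h5]
      exact mul_left_cancel h7
    apply hcc
    have h8 : w * (w₀ * v₀) = w * (v₀ * w₀) := by
      rw [← mul_assoc, h4, ← mul_assoc, ← mul_assoc, h6]
    exact (mul_left_cancel h8).symm

end Cfsg.Agent.Omega.IId.SwB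

end

-- merged: Cfsg.Agent.Mrg.Omega.IId.SwB.Main
section

/-!
# `SwBig K` (project OMEGA, II.d; head: helper142)

`free_false` : a mutual pair with a member of type `S_{2^m+1} wr k`, `k ≥ 2`, `m ≥ 2`, both members free, does not exist.
Texts: helper839, 116, 123, 157, 290, 334, 573, 605, 611, 666, 926 (bb OMEGA); Lean: helper66, 125, 142, 157, 229, 242,
254, 290, 334, 376, 442, 554, 573, 666, 770, 897, 910, 916, 926 and others.
-/

set_option autoImplicit false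

namespace Cfsg.Agent.Omega.IId.SwB

open Subgroup Cfsg Cfsg.Agent.ZN.ChoiceBase Cfsg.Agent.Omega.MinPar Cfsg.Agent.Omega.FFThm
open Cfsg.Agent.ZN (o2 zc zl)
open Cfsg.Agent.Omega.Frame Cfsg.Agent.Omega.FrameMulti
open Cfsg.Agent.Omega.FrameFF (cv Free)

universe u

/-- **No pair with a member of type `S_{2^m+1} wr k`, `k ≥ 2`, `m ≥ 2`, both members free.** -/
theorem free_false {G : Type u} [Group G] [Finite G] {S S' : Sylow 2 G} {P P' : Subgroup G}
    (hc : IsCharacteristicTwoType G) (hp : Pair S S' P P') (t1 : Typed (S : Subgroup G) P)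
    (t2 : Typed (S' : Subgroup G) P') {k m : ℕ} (hk : 2 ≤ k) (hm : 2 ≤ m) (hS : IsSym (S : Subgroup G) P k m)
    (hf : Free (S : Subgroup G) P) (hf' : Free (S' : Subgroup G) P') : False := by
  obtain ⟨M⟩ := hS
  rw [show cv (S : Subgroup G) P = ⊥ from hf] at M
  rcases t2.cases with ⟨k', hk', hN'⟩ | ⟨k', m', hk', hm', hS'⟩
  · obtain ⟨F', i1', i2', i3', ⟨M'⟩⟩ := hN'
    rw [show cv (S' : Subgroup G) P' = ⊥ from hf'] at M'
    obtain ⟨i, p, q, hpq, pq, hF, hr, sn, hC, hfr, hne, -⟩ :=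
      exists_nat hc hp t1.noOver t2.noOver (by omega) hm hk' M M'
    exact false_nat sn hk hpq pq hp.star' hC hF hfr hr hne
  · obtain ⟨M'⟩ := hS'
    rw [show cv (S' : Subgroup G) P' = ⊥ from hf'] at M'
    obtain ⟨p, q, p', q', hpq, pq, hpq', pq', en, sn, sn', hne⟩ :=
      exists_sym hc hp t1.noOver t2.noOver (by omega) hm hk' hm' M M'
    exact false_sym sn sn' hk hpq pq hpq' pq' en hne

/-- **`SwBig K`.** -/
theorem swBig (K : Cls.{u}) : SwBig K := by
  intro G _ _ S S' hH P P' hp k m hk hm hS hf hf' _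
  obtain ⟨t1, t2⟩ := Sym.typed_of hH.typed hp
  exact (free_false hH.ctx.char2 hp t1 t2 hk hm hS hf hf').elim

end Cfsg.Agent.Omega.IId.SwB

end

-- merged: Cfsg.Agent.Mrg.Omega.OpenD
section

section


/-!
# OMEGA: the leaves II.0h1, II.b' (LeafF4) and II.d (`leafSymWr`, `leafWr`)
-/

set_option autoImplicit false

namespace Cfsg.Agent.Omega.OpenD

open Cfsg Cfsg.Agent.Omega.Frame Cfsg.Agent.Omega.FrameMulti Cfsg.Agent.Omega.IId

universe u

/-- **II.0h1** (assemblers: helper811, helper337, helper400). -/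
theorem leafH1 {K : Cls.{u}} (h40 : Outputs.St1740.{u}) : FrameFF.LeafH1 K :=
  HOne.Final.leafH1_of FFBr.ffthm h40 (HOne.StFour.stFour_of K)

/-- The exit into II.0h1, `q = 2`. -/
theorem posExit : F4Leaf.Cen.Main.PosExit.{u} :=
  fun _ _ _ hG _ hF hI _ _ _ _ _ _ _ p => HOne.Final.known_of_pos FFBr.ffthm hG hF hI p

/-- **II.b'** (assembler: helper816). -/
theorem leafF4 (K : Cls.{u}) : LeafF4 K :=
  F4Leaf.Syl.Plug.leaf_of_end posExit (F4Leaf.Syl.EndCPure.endNat_of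
    fun _ _ _ hG _ _ _ _ _ _ _ hm hl hN hc _ _ hij hb => F4Leaf.Syl.Mix.natBoth hG hl hm hN (Or.inl hc) hij hb)

/-- Two members of type `S_{2^m+1}`, `S_{2^m'+1}`, not free. -/
theorem ttPair (K : Cls.{u}) : Cv.TTPair K :=
  fun G _ _ hG _ S hF hI hT P₁ P₂ x hm hnf m m' h h' hS hS' =>
    F4Leaf.Syl.Plug.tt_known posExit G hG S hF hI hT P₁ P₂ x hm hnf m m' h h' hS hS'

/-! ### II.d (assembler: helper36) -/

/-- `BigIn K` : more than two factors, `cv S P ≠ ⊥` (helper958: `CvBig/Cut.lean`). -/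
theorem big (K : Cls.{u}) : Cv.BigIn K where
  mix := Cv.bigMix_of NV.big2A4P K
  a2 := Cv.big2A2 K
  a4 := Cv.big2A4 K
  u2 := Cv.bigU2 K
  u4 := Cv.bigU4_of ChainPlug.chainT CvBig.IdU.idU Cv.nmBig
  us2 := Cv.bigUS2 HTwo.TSMain.ts0 HTwo.Seven.three0 HOneTwo.Trans.more0 HOneEnd.endL
  us4 := Cv.bigUS4_of ChainPlug.chainT HOneEnd.endL Cv.nmBig
  one2 := CvBig.bigOne2 HTwo.TSMain.ts0 HTwo.Seven.three0 HOneTwo.Trans.more0 HOneEnd.endL
  one4 := CvBig.bigOne4 ChainPlug.chainT HOneEnd.endL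

/-- **`SwCv`** (helper79, helper774, helper916, helper48 and others). -/
theorem swCv (K : Cls.{u}) : SwCv K :=
  SwCvC.swCv posExit (ttPair K) (SwCvC.natUn_of posExit (Cv.cvOneA2 K) (Cv.cvTwoA K) (cvTwoB K) (big K))
    (SwCvC.freeFour_of (wrTwo K) (wrBig_of (wrBigTwo K) (wrBigFour K)) TriFalse.wrTri (wrMain4N K))

theorem symNat (K : Cls.{u}) : Cv.CvSymNat K :=
  Cv.cvSymNat_of_unM (Cv.cvOneA2 K) (cvOneA4 K) (Cv.cvTwoA K) (cvTwoB K) (ttPair K)
    fun _ _ _ _ hH _ _ _ _ _ _ _ _ M i hk _ hD hu => Cv.unM_big (big K) hH M hk (CvBig.hC_all M) i hD hu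

/-- **II.d, symmetric types.** -/
theorem leafSymWr (K : Cls.{u}) : LeafSymWr K :=
  IId.leafSymWr (swCv K) (SwB.swBig K) SwN.swNat0 (LFour.swTwo K) (LFour.swOne K)

theorem cv (K : Cls.{u}) : Cv.WrCvN K :=
  Cv.wrCvN_of' (Cv.cvSym_of (leafSymWr K) (Cv.cvSymOne_of (symNat K))) CvNS.Plug.cvNonsplit
    (Cv.cvBigN_of CvBig.thmCD (big K) (Cv.cvOneA2 K) (cvOneA4 K) (Cv.cvTwoA K) (cvTwoB K)) (Cv.cvLine K) (Cv.cvMix K)
    (Cv.cvOneA2 K) (cvOneA4 K) (Cv.cvTwoA K) (cvTwoB K) (cvOne K)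

/-- **II.d, natural types.** -/
theorem leafWr (K : Cls.{u}) : LeafWr K :=
  Cv.leafWrN (cv K) (Sym.wrSym_of' (leafSymWr K) SymMany.wrSymBig Pf.Main.noOne) (wrTwo K)
    (wrBig_of (wrBigTwo K) (wrBigFour K)) TriFalse.wrTri (wrMain2 Pf.Main.noOne) (wrMain4N K)

end Cfsg.Agent.Omega.OpenD

end

section


/-!
# `LeafOne`: `O₂(C_G(z))` extraspecial of order 8 does not occur in `Ctx G`

A Sylow 2-subgroup `T` of `C_G(z)` has centre `⟨z⟩`, so it is a Sylow 2-subgroup of `G`; it acts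
faithfully modulo `⟨z⟩` on `Q` of order 8, so `|T| ≤ 16`, but `32 ∣ |G|`.
-/

set_option autoImplicit false

namespace Cfsg.Agent.Omega.LeafOne

open Subgroup Cfsg Cfsg.Agent.ZN Cfsg.Agent.Omega.Frame Cfsg.Agent.Omega.Exits Cfsg.Agent.Omega.FrameExtra

universe u

section abstract_part

variable {H : Type*} [Group H] [Finite H]

/-- an element of `P - N` central in `S` modulo `N` -/
theorem exists_central_mod {S P N : Subgroup H} (hS : IsPGroup 2 S) (hPS : P ≤ S)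
    (hn : ∀ s ∈ S, ∀ p ∈ P, s * p * s⁻¹ ∈ P) (hNP : N ≤ P) (hN : ∀ s ∈ S, ∀ p ∈ N, s * p * s⁻¹ ∈ N)
    {y : H} (hy : y ∈ P) (hyN : y ∉ N) :
    ∃ u ∈ P, u ∉ N ∧ ∀ s ∈ S, u⁻¹ * (s * u * s⁻¹) ∈ N := by
  have : Fact (Nat.Prime 2) := ⟨Nat.prime_two⟩
  have hNS : N ≤ S := hNP.trans hPS
  let Z : Subgroup S := N.subgroupOf S
  have hZn : Z.Normal := by
    refine ⟨fun x hx g => ?_⟩
    rw [mem_subgroupOf] at hx ⊢
    exact hN g g.2 x hx
  have : (P.subgroupOf S).Normal := by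
    refine ⟨fun x hx g => ?_⟩
    rw [mem_subgroupOf] at hx ⊢
    exact hn g g.2 x hx
  let π : S →* (S ⧸ Z) := QuotientGroup.mk' Z
  have hπs : Function.Surjective π := QuotientGroup.mk'_surjective Z
  have hNor : ((P.subgroupOf S).map π).Normal := Subgroup.Normal.map inferInstance π hπs
  have hpi1 : ∀ x : S, π x = 1 ↔ (x : H) ∈ N := fun x => by
    show (QuotientGroup.mk' Z) x = 1 ↔ _
    rw [← MonoidHom.mem_ker, QuotientGroup.ker_mk', mem_subgroupOf]
  have hne : (P.subgroupOf S).map π ≠ ⊥ := by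
    intro hb
    have h1 : π ⟨y, hPS hy⟩ ∈ (P.subgroupOf S).map π := mem_map_of_mem _ (by rw [mem_subgroupOf]; exact hy)
    rw [hb, mem_bot, hpi1] at h1
    exact hyN h1
  have hp : IsPGroup 2 (S ⧸ Z) := hS.to_quotient Z
  have : Group.IsNilpotent (S ⧸ Z) := hp.isNilpotent
  have h1 := Cfsg.Agent.Lib.NormalAbelian.normal_inf_center_ne_bot ((P.subgroupOf S).map π) hne
  rw [Ne, Subgroup.eq_bot_iff_forall] at h1
  push Not at h1
  obtain ⟨w, hx, hj1⟩ := h1
  obtain ⟨⟨u, huP, hu⟩, hwc⟩ := hx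
  have hwc' : ∀ g, g * w = w * g := mem_center_iff.1 hwc
  refine ⟨u, by simpa [mem_subgroupOf] using huP, ?_, ?_⟩
  · intro h
    apply hj1
    rw [← hu, hpi1]
    exact h
  · intro s hs
    have h3 : π (u⁻¹ * (⟨s, hs⟩ * u * ⟨s, hs⟩⁻¹) : S) = 1 := by
      rw [map_mul, map_mul, map_mul, map_inv, map_inv, hu, hwc']
      group
    rw [hpi1] at h3
    simpa using h3

/-- A subgroup of order at most 7 of 2-power order is commutative. -/
theorem comm_of_card {P : Subgroup H} {k : ℕ} (hP : Nat.card P = 2 ^ k) (hk : k ≤ 2) :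
    ∀ x ∈ P, ∀ y ∈ P, x * y = y * x := by
  have : Fact (Nat.Prime 2) := ⟨Nat.prime_two⟩
  intro x hx y hy
  have h3 : ∀ a b : P, a * b = b * a := by
    interval_cases k
    · have h1 : Subsingleton P := by
        rw [pow_zero] at hP
        exact (Nat.card_eq_one_iff_unique.1 hP).1
      intro a b
      exact Subsingleton.elim _ _
    · have h1 : IsCyclic P := isCyclic_of_prime_card (p := 2) (by rw [hP, pow_one])
      intro a b
      let := IsCyclic.commGroup (α := P)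
      exact mul_comm a b
    · intro a b
      exact IsPGroup.commutative_of_card_eq_prime_sq hP a b
  exact congrArg Subtype.val (h3 ⟨x, hx⟩ ⟨y, hy⟩)

/-- A 2-group `T` containing and normalising `Q` of order 8, `Q` not abelian, `C_T(Q) ≤ ⟨z⟩ = Z(Q)`. -/
theorem card_le_sixteen {Q T : Subgroup H} {z : H} (h8 : Nat.card Q = 8) (hz : z ∈ Q) (hzz : z * z = 1)
    (hzQ : ∀ t, t * z = z * t) (hna : ∃ a ∈ Q, ∃ b ∈ Q, a * b ≠ b * a) (hT : IsPGroup 2 T) (hQT : Q ≤ T)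
    (hn : ∀ t ∈ T, ∀ q ∈ Q, t * q * t⁻¹ ∈ Q)
    (hcent : ∀ t, (∀ q ∈ Q, t * q = q * t) → t = 1 ∨ t = z) : Nat.card T ≤ 16 := by
  classical
  have : Fact (Nat.Prime 2) := ⟨Nat.prime_two⟩
  have hzm : ∀ x : H, x ∈ zpowers z ↔ x = 1 ∨ x = z := by
    intro x
    constructor
    · rintro ⟨n, rfl⟩
      rcases Int.even_or_odd' n with ⟨m, rfl | rfl⟩
      · left
        show z ^ (2 * m) = 1
        rw [zpow_mul, zpow_two, hzz, one_zpow]
      · right
        show z ^ (2 * m + 1) = z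
        rw [zpow_add, zpow_mul, zpow_two, hzz, one_zpow, one_mul, zpow_one]
    · intro h
      rcases h with h | h
      · rw [h]; exact one_mem _
      · rw [h]; exact mem_zpowers z
  -- a noncentral element of `Q` with `[a, T] ≤ ⟨z⟩`
  obtain ⟨a0, ha0, b0, hb0, h0⟩ := hna
  have ha0z : a0 ∉ zpowers z := by
    intro h
    rcases (hzm a0).1 h with h1 | h1
    · rw [h1, one_mul, mul_one] at h0
      exact h0 rfl
    · rw [h1] at h0
      exact h0 (hzQ b0).symm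
  obtain ⟨a, haQ, haz, ha⟩ := exists_central_mod (N := zpowers z) hT hQT hn (by rwa [zpowers_le])
    (by
      intro s _ p hp
      have h1 : s * p * s⁻¹ = p := by
        rcases (hzm p).1 hp with h2 | h2
        · rw [h2]; group
        · rw [h2, hzQ s]; group
      rw [h1]; exact hp) ha0 ha0z
  -- `b` in `Q` not commuting with `a`
  obtain ⟨b, hbQ, hab⟩ : ∃ b ∈ Q, a * b ≠ b * a := by
    by_contra hcon
    push Not at hcon
    exact haz ((hzm a).2 (hcent a hcon))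
  -- `Q` is generated by `a` and `b`
  have hgen : ∀ t : H, t * a = a * t → t * b = b * t → ∀ q ∈ Q, t * q = q * t := by
    intro t hta htb q hq
    have h1 : closure {a, b} ≤ Q := by
      rw [closure_le]
      rintro x (rfl | rfl)
      · exact haQ
      · exact hbQ
    have h2 : closure {a, b} = Q := by
      apply Subgroup.eq_of_le_of_card_ge h1
      by_contra hlt
      push Not at hlt
      have h3 : Nat.card (closure {a, b}) ∣ 2 ^ 3 := by
        have h4 := Subgroup.card_dvd_of_le h1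
        rw [h8] at h4
        exact h4
      obtain ⟨k, hk3, hk⟩ := (Nat.dvd_prime_pow Nat.prime_two).1 h3
      have hk2 : k ≤ 2 := by
        by_contra hk4
        have : k = 3 := by omega
        rw [hk, this, h8] at hlt
        omega
      exact hab (comm_of_card hk hk2 a (subset_closure (Or.inl rfl)) b (subset_closure (Or.inr rfl)))
    rw [← h2] at hq
    have h3 : closure {a, b} ≤ centralizer ({t} : Set H) := by
      rw [closure_le]
      rintro x (rfl | rfl)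
      · exact mem_centralizer_singleton_iff.2 hta.symm
      · exact mem_centralizer_singleton_iff.2 htb.symm
    exact (mem_centralizer_singleton_iff.1 (h3 hq)).symm
  -- the centraliser of `a` in `Q` has order at least 4
  let A : Subgroup H := Q ⊓ centralizer ({a} : Set H)
  have hA4 : 4 ≤ Nat.card A := by
    have h1 : IsPGroup 2 A := (hT.to_le hQT).to_le inf_le_left
    obtain ⟨k, hk⟩ := IsPGroup.iff_card.1 h1
    have h2 : 3 ≤ Nat.card A := by
      have h3 : ({1, z, a} : Finset H).card = 3 := by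
        have e1 : (1 : H) ≠ z := by
          intro h
          apply hab
          rcases hcent 1 (fun q _ => by rw [one_mul, mul_one]) with _ | _
          all_goals
            have h5 : ∀ t : H, (∀ q ∈ Q, t * q = q * t) → t = 1 := by
              intro t ht
              rcases hcent t ht with h6 | h6
              · exact h6
              · rw [h6, ← h]
            exfalso
            have h6 : IsPGroup 2 Q := hT.to_le hQT
            have h7 : Nontrivial Q := by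
              rw [← Finite.one_lt_card_iff_nontrivial, h8]
              norm_num
            have h8' := h6.center_nontrivial
            obtain ⟨⟨c, hc⟩, hc1⟩ := exists_ne (1 : center Q)
            apply hc1
            apply Subtype.ext
            apply Subtype.ext
            apply h5
            intro q hq
            exact (congrArg Subtype.val (mem_center_iff.1 hc ⟨q, hq⟩)).symm
        have e2 : (1 : H) ≠ a := fun h => haz ((hzm a).2 (Or.inl h.symm))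
        have e3 : z ≠ a := fun h => haz ((hzm a).2 (Or.inr h.symm))
        rw [Finset.card_insert_of_notMem, Finset.card_insert_of_notMem, Finset.card_singleton]
        · simpa using e3
        · simpa using ⟨e1, e2⟩
      have h4 : (({1, z, a} : Finset H) : Set H) ⊆ (A : Set H) := by
        intro x hx
        simp only [Finset.coe_insert, Finset.coe_singleton, Set.mem_insert_iff, Set.mem_singleton_iff] at hx
        rcases hx with rfl | rfl | rfl
        · exact one_mem _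
        · exact ⟨hz, mem_centralizer_singleton_iff.2 (hzQ _).symm⟩
        · exact ⟨haQ, mem_centralizer_singleton_iff.2 rfl⟩
      have h5 := Set.ncard_le_ncard h4 (Set.toFinite _)
      rw [Set.ncard_coe_finset, h3] at h5
      exact h5
    rw [hk] at h2 ⊢
    have hk2 : 2 ≤ k := by
      by_contra hcon
      have : 2 ^ k ≤ 2 ^ 1 := Nat.pow_le_pow_right (by norm_num) (by omega)
      omega
    calc 4 = 2 ^ 2 := by norm_num
      _ ≤ 2 ^ k := Nat.pow_le_pow_right (by norm_num) hk2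
  -- the map
  have := Fintype.ofFinite H
  have := Fintype.ofFinite T
  let f : H → H × H := fun t => (t * a * t⁻¹, t * b * t⁻¹)
  let s : Finset H := Finset.univ.filter (fun t => t ∈ T)
  let B : Finset H := Finset.univ.filter (fun q => q ∈ Q ∧ q ∉ A)
  have hB : B.card ≤ 4 := by
    have h1 : (Finset.univ.filter (fun q => q ∈ Q)).card = 8 := by
      rw [← h8, Nat.card_eq_fintype_card, Fintype.card_subtype]
    have h2 : (Finset.univ.filter (fun q => q ∈ A)).card = Nat.card A := by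
      rw [Nat.card_eq_fintype_card, Fintype.card_subtype]
    have h3 : B = (Finset.univ.filter (fun q => q ∈ Q)) \ (Finset.univ.filter (fun q => q ∈ A)) := by
      ext q
      simp only [B, Finset.mem_filter, Finset.mem_univ, true_and, Finset.mem_sdiff]
    rw [h3, Finset.card_sdiff_of_subset, h1, h2]
    · omega
    · intro q hq
      simp only [Finset.mem_filter, Finset.mem_univ, true_and] at hq ⊢
      exact hq.1
  have himg : s.image f ⊆ ({a, a * z} : Finset H) ×ˢ B := by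
    intro p hp
    obtain ⟨t, ht, rfl⟩ := Finset.mem_image.1 hp
    simp only [s, Finset.mem_filter, Finset.mem_univ, true_and] at ht
    have h1 := (hzm _).1 (ha t ht)
    have h1' : t * a * t⁻¹ = a ∨ t * a * t⁻¹ = a * z := by
      rcases h1 with h1 | h1
      · left
        rwa [inv_mul_eq_one, eq_comm] at h1
      · right
        rwa [inv_mul_eq_iff_eq_mul] at h1
    rw [Finset.mem_product]
    refine ⟨?_, ?_⟩
    · simpa using h1'
    · simp only [B, Finset.mem_filter, Finset.mem_univ, true_and]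
      refine ⟨hn t ht b hbQ, fun h => hab ?_⟩
      have h2 : t * b * t⁻¹ * a = a * (t * b * t⁻¹) := mem_centralizer_singleton_iff.1 h.2
      have h3 : t * b * t⁻¹ * (t * a * t⁻¹) = t * a * t⁻¹ * (t * b * t⁻¹) := by
        rcases h1' with h4 | h4
        · rw [h4]; exact h2
        · rw [h4, ← mul_assoc, h2, mul_assoc a, hzQ (t * b * t⁻¹), ← mul_assoc a]
      have h4 : t * (b * a) * t⁻¹ = t * (a * b) * t⁻¹ := by
        calc t * (b * a) * t⁻¹ = t * b * t⁻¹ * (t * a * t⁻¹) := by group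
          _ = t * a * t⁻¹ * (t * b * t⁻¹) := h3
          _ = t * (a * b) * t⁻¹ := by group
      exact (mul_left_cancel (mul_right_cancel h4)).symm
  have hfib : ∀ p ∈ s.image f, (s.filter fun x => f x = p).card ≤ 2 := by
    intro p hp
    obtain ⟨t, ht, rfl⟩ := Finset.mem_image.1 hp
    have h1 : (s.filter fun x => f x = f t) ⊆ ({t, t * z} : Finset H) := by
      intro x hx
      rw [Finset.mem_filter] at hx
      have h2 : x * a * x⁻¹ = t * a * t⁻¹ := congrArg Prod.fst hx.2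
      have h3 : x * b * x⁻¹ = t * b * t⁻¹ := congrArg Prod.snd hx.2
      have key : ∀ c : H, x * c * x⁻¹ = t * c * t⁻¹ → t⁻¹ * x * c = c * (t⁻¹ * x) := by
        intro c hc
        calc t⁻¹ * x * c = t⁻¹ * (x * c * x⁻¹) * x := by group
          _ = t⁻¹ * (t * c * t⁻¹) * x := by rw [hc]
          _ = c * (t⁻¹ * x) := by group
      rcases hcent (t⁻¹ * x) (hgen _ (key a h2) (key b h3)) with h4 | h4
      · rw [inv_mul_eq_one] at h4
        rw [h4]; simp
      · rw [inv_mul_eq_iff_eq_mul] at h4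
        rw [h4]; simp
    exact (Finset.card_le_card h1).trans Finset.card_le_two
  have h1 := Finset.card_le_mul_card_image s 2 hfib
  have h2 := Finset.card_le_card himg
  rw [Finset.card_product] at h2
  have h3 : ({a, a * z} : Finset H).card ≤ 2 := Finset.card_le_two
  have h4 : s.card = Nat.card T := by
    rw [Nat.card_eq_fintype_card, Fintype.card_subtype]
  rw [← h4]
  calc s.card ≤ 2 * (s.image f).card := h1
    _ ≤ 2 * (({a, a * z} : Finset H).card * B.card) := Nat.mul_le_mul_left _ h2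
    _ ≤ 2 * (2 * 4) := Nat.mul_le_mul_left _ (Nat.mul_le_mul h3 hB)
    _ = 16 := by norm_num

end abstract_part

/-- A Sylow 2-subgroup `T` of `C_G(z)` whose centre is in `⟨z⟩` is a Sylow 2-subgroup of `G`. -/
theorem sylow_of_center {G : Type*} [Group G] [Finite G] {z : G} (hz : z ≠ 1) {T : Subgroup G}
    (hT : IsPGroup 2 T) (hTC : T ≤ centralizer ({z} : Set G)) (hzT : z ∈ T)
    (hmax : ∀ P : Subgroup G, IsPGroup 2 P → T ≤ P → P ≤ centralizer ({z} : Set G) → P = T)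
    (hcent : ∀ t ∈ T, (∀ q ∈ T, t * q = q * t) → t = 1 ∨ t = z) :
    ∃ S : Sylow 2 G, (S : Subgroup G) = T := by
  have : Fact (Nat.Prime 2) := ⟨Nat.prime_two⟩
  obtain ⟨S, hS⟩ := hT.exists_le_sylow
  refine ⟨S, ?_⟩
  by_contra hne
  have hlt : T < (S : Subgroup G) := lt_of_le_of_ne hS (fun h => hne h.symm)
  have hnil : Group.IsNilpotent (S : Subgroup G) := S.isPGroup'.isNilpotent
  have h1 : T.subgroupOf (S : Subgroup G) < ⊤ := by
    rw [lt_top_iff_ne_top, Ne, subgroupOf_eq_top]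
    exact fun h => absurd hlt (not_lt_of_ge h)
  have h2 := Group.normalizerCondition_of_isNilpotent (T.subgroupOf (S : Subgroup G)) h1
  obtain ⟨⟨x, hxS⟩, hx, hxT⟩ := SetLike.exists_of_lt h2
  have hxn : ∀ t, t ∈ T ↔ x * t * x⁻¹ ∈ T := by
    intro t
    constructor
    · intro ht
      have h3 := (mem_normalizer_iff.1 hx ⟨t, hS ht⟩).1 (by rw [mem_subgroupOf]; exact ht)
      rw [mem_subgroupOf] at h3
      exact h3
    · intro ht
      have h4 : t ∈ (S : Subgroup G) := by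
        have h5 : t = x⁻¹ * (x * t * x⁻¹) * x := by group
        rw [h5]
        exact (S : Subgroup G).mul_mem ((S : Subgroup G).mul_mem ((S : Subgroup G).inv_mem hxS) (hS ht)) hxS
      have h3 := (mem_normalizer_iff.1 hx ⟨t, h4⟩).2 (by rw [mem_subgroupOf]; exact ht)
      rw [mem_subgroupOf] at h3
      exact h3
  have hxz : x * z * x⁻¹ = z := by
    rcases hcent _ ((hxn z).1 hzT) (by
      intro q hq
      have h3 : x⁻¹ * q * x ∈ T := by
        rw [hxn]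
        have : x * (x⁻¹ * q * x) * x⁻¹ = q := by group
        rwa [this]
      have h4 : x⁻¹ * q * x * z = z * (x⁻¹ * q * x) := mem_centralizer_singleton_iff.1 (hTC h3)
      calc x * z * x⁻¹ * q = x * (z * (x⁻¹ * q * x)) * x⁻¹ := by group
        _ = x * (x⁻¹ * q * x * z) * x⁻¹ := by rw [h4]
        _ = q * (x * z * x⁻¹) := by group) with h3 | h3
    · exfalso
      apply hz
      rwa [mul_inv_eq_one, mul_eq_left] at h3
    · exact h3
  have hP : closure (insert x (T : Set G)) = T := by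
    apply hmax
    · refine S.isPGroup'.to_le ?_
      rw [closure_le]
      rintro y (rfl | hy)
      · exact hxS
      · exact hS hy
    · exact fun y hy => subset_closure (Or.inr hy)
    · rw [closure_le]
      rintro y (rfl | hy)
      · refine mem_centralizer_singleton_iff.2 ?_
        have h3 := hxz
        rw [mul_inv_eq_iff_eq_mul] at h3
        exact h3
      · exact hTC hy
  apply hxT
  rw [mem_subgroupOf]
  show x ∈ T
  rw [← hP]
  exact subset_closure (Or.inl rfl)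

/-- **LeafOne.** -/
theorem leafOne : LeafOne.{u} := by
  intro G _ _ hG z h
  have hsimp := hG.simple
  have : Fact (Nat.Prime 2) := ⟨Nat.prime_two⟩
  let C : Subgroup G := centralizer ({z} : Set G)
  have hzC : z ∈ C := mem_centralizer_singleton_iff.2 rfl
  let z' : C := ⟨z, hzC⟩
  have hz1 : z ≠ 1 := fun h0 => by
    have := h.ord
    rw [h0, orderOf_one] at this
    omega
  have hzz : z * z = 1 := by
    have := pow_orderOf_eq_one z
    rwa [h.ord, pow_two] at this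
  have hz'c : ∀ t : C, t * z' = z' * t := by
    intro t
    exact Subtype.ext (mem_centralizer_singleton_iff.1 t.2)
  let Q : Subgroup C := pCore 2 C
  have hC2 : centralizer (Q : Set C) ≤ Q := char2_centralizer hG.char2 h.ord
  have hz'Q : z' ∈ Q := hC2 (by
    rw [mem_centralizer_iff]
    intro q _
    exact hz'c q)
  have hQn : Q.Normal := Cfsg.pCore_normal 2 C
  have h8 : Nat.card Q = 8 := by
    have := h.card
    norm_num at this
    exact this
  have hcQ : ∀ t : C, (∀ q ∈ Q, t * q = q * t) → t = 1 ∨ t = z' := by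
    intro t ht
    have htQ : t ∈ Q := hC2 (by
      rw [mem_centralizer_iff]
      intro q hq
      exact (ht q hq).symm)
    have h2 : Nat.card (center Q) = 2 := h.ext.2
    have hc1 : (⟨z', hz'Q⟩ : Q) ∈ center Q := by
      rw [mem_center_iff]
      intro q
      exact Subtype.ext (hz'c q)
    have hc2 : (⟨t, htQ⟩ : Q) ∈ center Q := by
      rw [mem_center_iff]
      intro q
      exact Subtype.ext (ht q q.2).symm
    have h3 : (⟨⟨z', hz'Q⟩, hc1⟩ : center Q) ≠ 1 := by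
      intro h4
      apply hz1
      exact congrArg (fun x : center Q => ((x : Q) : C).1) h4
    have h4 : ∀ x : center Q, x = 1 ∨ x = ⟨⟨z', hz'Q⟩, hc1⟩ := by
      intro x
      by_contra hcon
      push Not at hcon
      have hfin := Fintype.ofFinite (center Q)
      classical
      have h5 : ({1, ⟨⟨z', hz'Q⟩, hc1⟩, x} : Finset (center Q)).card = 3 := by
        rw [Finset.card_insert_of_notMem, Finset.card_insert_of_notMem, Finset.card_singleton]
        · simpa using hcon.2.symm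
        · simp only [Finset.mem_insert, Finset.mem_singleton, not_or]
          exact ⟨h3.symm, hcon.1.symm⟩
      have h6 := Finset.card_le_univ ({1, ⟨⟨z', hz'Q⟩, hc1⟩, x} : Finset (center Q))
      rw [h5, ← Nat.card_eq_fintype_card, h2] at h6
      omega
    rcases h4 ⟨⟨t, htQ⟩, hc2⟩ with h5 | h5
    · left
      exact congrArg (fun x : center Q => ((x : Q) : C)) h5
    · right
      exact congrArg (fun x : center Q => ((x : Q) : C)) h5
  have hna : ∃ a ∈ Q, ∃ b ∈ Q, a * b ≠ b * a := by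
    by_contra hcon
    push Not at hcon
    have h2 : Nat.card (center Q) = 2 := h.ext.2
    have h3 : center Q = ⊤ := by
      rw [eq_top_iff]
      intro x _
      rw [mem_center_iff]
      intro y
      exact Subtype.ext (hcon y y.2 x x.2)
    rw [h3, Subgroup.card_top, h8] at h2
    omega
  obtain ⟨T⟩ : Nonempty (Sylow 2 C) := inferInstance
  have hQT : Q ≤ (T : Subgroup C) := by
    exact Cfsg.Agent.Lib.Cores.pCore_le_sylow T
  have h16 : Nat.card (T : Subgroup C) ≤ 16 :=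
    card_le_sixteen h8 hz'Q (Subtype.ext hzz) hz'c hna T.isPGroup' hQT
      (fun t _ q hq => hQn.conj_mem q hq t) hcQ
  obtain ⟨S, hS⟩ := sylow_of_center (T := (T : Subgroup C).map C.subtype) hz1
    (T.isPGroup'.map _) (map_subtype_le _) ⟨z', hQT hz'Q, rfl⟩
    (by
      intro P hP hTP hPC
      have h1 : (T : Subgroup C) ≤ P.subgroupOf C := by
        intro x hx
        rw [mem_subgroupOf]
        exact hTP ⟨x, hx, rfl⟩
      have h2 := T.3 (IsPGroup.comap_subtype hP (K := C)) h1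
      have h3 : (P.subgroupOf C).map C.subtype = P ⊓ C := subgroupOf_map_subtype P C
      rw [inf_eq_left.2 hPC] at h3
      rw [← h3]
      exact congrArg (fun X : Subgroup C => X.map C.subtype) h2)
    (by
      rintro _ ⟨t, ht, rfl⟩ hc
      rcases hcQ t (by
        intro q hq
        exact Subtype.ext (hc q ⟨q, hQT hq, rfl⟩)) with h1 | h1
      · left; rw [h1]; rfl
      · right; rw [h1]; rfl)
  have h32 := dvd_card hG.rank
  have h1 : Nat.card (S : Subgroup G) ≤ 16 := by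
    rw [hS, Nat.card_congr ((T : Subgroup C).equivMapOfInjective C.subtype C.subtype_injective).symm.toEquiv]
    exact h16
  have h2 : (2 : ℕ) ^ 5 ∣ Nat.card (S : Subgroup G) := S.pow_dvd_card_of_pow_dvd_card (by norm_num; exact h32)
  have h3 := Nat.le_of_dvd Nat.card_pos h2
  norm_num at h3
  omega

end Cfsg.Agent.Omega.LeafOne

end

end
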