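import Cfsg.Agent.Mrg.Omega.VP
import Cfsg.Agent.Mrg.Omega.Mix.OfFrame
import Cfsg.Agent.Mrg.Omega.CaseL.Main
import Cfsg.Agent.Mrg.Omega.Lin.TIClose
import Cfsg.Agent.Mrg.Omega.FrameI
import Cfsg.Agent.Mrg.Omega.ExitsThree
import Cfsg.Agent.Mrg.Omega.Assembly
import Cfsg.Agent.Mrg.Omega.ML.MinIrr
import Cfsg.Agent.WeakTI.FlatBorel
import Cfsg.Agent.Mrg.Omega.ML.Ex.Two
import Cfsg.Agent.Mrg.Omega.ML.Ex.Known
import Cfsg.Agent.Mrg.Omega.ML.Ex.RowTitsX
import Cfsg.Agent.Mrg.Omega.KL.Def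

-- merged: Cfsg.Agent.Mrg.Omega.Node.LeafB
section

/-!
# The leaf B of case FF (no mutual pair of one type)

`leafB_of` : the inputs `TIMain` (theorem on weakly closed TI-subgroups, `WeakTI.Final.main` with S1175), `St1759`,
`St1761` (both landed) and `RankFour` (`q = 4`, `W₁ = V₁` gives sectional 2-rank at most 4) imply `FrameFF.LeafB K`.

The proof: `mixedN_of_mutual` gives a mixed pair `MixedN M₁ M₂ R`; if `q = 2` it is a pair of `Omega/CaseL`
(`CaseL.Pair.known`); if `q ≥ 8`, or `q = 4` and `W₁ ≠ V₁`, one of `W₁`, `W₂` is a TI-subgroup (`TIOut.known`).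
-/

set_option autoImplicit false

namespace Cfsg.Agent.Omega.Node.LeafB

open Subgroup Cfsg Cfsg.Agent.Omega.Frame Cfsg.Agent.Omega.Mix
open Cfsg.Agent.WeakTI.ReduceMain Cfsg.Agent.WeakTI.ReduceComponent

universe u

/-- The theorem on weakly closed TI-subgroups (landed: `WeakTI.Final.main`, S1175). -/
def TIMain : Prop := ∀ (G : Type u) [Group G] [Finite G] (A : Subgroup G), Red A → InList G

/-- `W₁ = V₁`, `q = 4` -/
def RankFour : Prop :=
  ∀ (G : Type u) [Group G] [Finite G] (F₁ F₂ : Type) [Field F₁] [Finite F₁] [CharP F₁ 2] [Field F₂] [Finite F₂]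
    [CharP F₂ 2] (V₁ V₂ N₁ N₂ : Subgroup G) (M₁ : RMod F₁ V₁ N₁) (M₂ : RMod F₂ V₂ N₂) (R : Subgroup G),
    MixedN M₁ M₂ R → Nat.card F₁ = 4 → LL V₁ R R ≤ V₁ → SectionalPRankLE 2 4 G

theorem card_cases {F : Type} [Field F] [Finite F] [CharP F 2] : Nat.card F = 2 ∨ Nat.card F = 4 ∨ 8 ≤ Nat.card F := by
  have : Fintype F := Fintype.ofFinite F
  obtain ⟨n, -, hn⟩ := FiniteField.card F 2
  rw [Nat.card_eq_fintype_card, hn]
  have h0 := n.pos
  rcases (by omega : (n : ℕ) = 1 ∨ (n : ℕ) = 2 ∨ 3 ≤ (n : ℕ)) with h | h | h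
  · left; rw [h]; norm_num
  · right; left; rw [h]; norm_num
  · right; right
    calc 8 = 2 ^ 3 := by norm_num
      _ ≤ 2 ^ (n : ℕ) := Nat.pow_le_pow_right (by norm_num) h

theorem known_of_mixed (hTI : TIMain.{u}) (h59 : Exits.St1759.{u}) (h61 : Exits.St1761.{u}) (h4 : RankFour.{u})
    {G : Type u} [Group G] [Finite G] (hG : Ctx G) {F₁ F₂ : Type} [Field F₁] [Finite F₁] [CharP F₁ 2] [Field F₂]
    [Finite F₂] [CharP F₂ 2] {V₁ V₂ N₁ N₂ : Subgroup G} {M₁ : RMod F₁ V₁ N₁} {M₂ : RMod F₂ V₂ N₂} {R : Subgroup G}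
    (m : MixedN M₁ M₂ R) : IsKnownSimple' G := by
  haveI := hG.simple
  rcases card_cases (F := F₁) with h | h | h
  · obtain ⟨S, z, hp⟩ := m.exists_pair hG.char2 h (m.card_eq.symm.trans h)
    exact hp.known hG.nonComm h59 h61 hG.rank
  · by_cases hW : LL V₁ R R ≤ V₁
    · exact absurd (h4 G F₁ F₂ V₁ V₂ N₁ N₂ M₁ M₂ R m h hW) hG.rank
    · exact m.known (hTI G) hG.nonComm (exists_ne_of_card h.ge) hW
  · obtain ⟨A, -, hA⟩ := m.exists_ti_eight h
    exact hA.known (hTI G) hG.nonComm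

/-- **LeafB from its inputs.** -/
theorem leafB_of {K : Cls.{u}} (hTI : TIMain.{u}) (h59 : Exits.St1759.{u}) (h61 : Exits.St1761.{u})
    (h4 : RankFour.{u}) : FrameFF.LeafB K := by
  intro G _ _ hG _ S _ _ hfree hsame P₁ P₂ x hm
  obtain ⟨F₁, _, _, _, F₂, _, _, _, k, N₁, N₂, M₁, M₂, R, m, -⟩ :=
    mixedN_of_mutual hG.char2 S hm (hfree.1 P₁ P₂ x hm).1 (hfree.1 P₁ P₂ x hm).2 (hfree.2 P₁ P₂ x hm).1
      (hfree.2 P₁ P₂ x hm).2 hsame
  exact known_of_mixed hTI h59 h61 h4 hG m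

end Cfsg.Agent.Omega.Node.LeafB

end

-- merged: Cfsg.Agent.Mrg.Omega.Landed
section

/-!
# OMEGA: landed inputs of the classification with a large import closure

They enter `OpenTree` as Props; `LandedAll.landed` proves them.
-/

set_option autoImplicit false

namespace Cfsg.Agent.Omega.Landed

open Cfsg Cfsg.Agent.Omega

universe u

/-- Landed theorems (Props, because their closures are large). -/
structure Landed : Prop where
  /-- S0480, S1143, S1144, S1670, S1671, S1675, S1740, S1759, S1761, S1762, S1763, S1770, Bender -/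
  lib : Outputs.Lib.{u}
  s1758 : FrameExtra.St1758.{u}
  /-- Bender's theorem for all finite groups -/
  benderAll : RootLemma.Bender.{u}
  /-- the TI theorem (S1175) -/
  ti : Node.LeafB.TIMain.{u}
  /-- S0500 -/
  k4 : RankFourOf.PK4.{u}
  s1738 : ∀ (G : Type u) [Group G] [Finite G], Cfsg.Agent.GH.AltOut.St1738 G
  /-- (ML) for K-groups -/
  mlk : ML.Final.MLK.{u, u}
  /-- S1175, the criterion for strongly embedded subgroups -/
  crit : Cfsg.Agent.WeakTI.FlatBorel.CritAll.{u}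
  /-- the rows of the exact K-list -/
  rows : ML.Ex.RowsX.{u, u}
  /-- the common exact end -/
  ext : ML.Ex.Two.Ext.{u, u}
  /-- the exact ends with the W-part -/
  ep : ML.Ex.EndPieces.{u, u, u}
  /-- THEOREM KL -/
  noInp : KL.Quo.NoInp.{u, u}

end Cfsg.Agent.Omega.Landed

end
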