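import Cfsg.Agent.Mrg.Omega.FrameI
import Cfsg.Agent.S1759
import Cfsg.Agent.S1761
import Cfsg.Agent.S1762
import Cfsg.Agent.S1763
import Cfsg.Agent.Mrg.Omega.FOne.Glue.FsPs
import Cfsg.Agent.Mrg.Omega.ML.Ex.KnownDone
import Cfsg.Agent.Mrg.Omega.ML.KnownAll
import Cfsg.Agent.Mrg.Omega.Landed
import Cfsg.Agent.Mrg.Omega.ML.Ex.Ext
import Cfsg.Agent.Mrg.Omega.KL.NoInp
import Cfsg.Agent.Mrg.Omega.ML.Ex.Lie2.Fin
import Cfsg.Agent.StrongEmb.Strong
import Cfsg.Agent.WeakTI.Final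
import Cfsg.Agent.GH.FinalKFour
import Cfsg.Agent.S0480
import Cfsg.Agent.S1143
import Cfsg.Agent.S1144
import Cfsg.Agent.S1175
import Cfsg.Agent.S1670
import Cfsg.Agent.S1671
import Cfsg.Agent.S1675
import Cfsg.Agent.S1738
import Cfsg.Agent.S1740
import Cfsg.Agent.S1758
import Cfsg.Agent.S1770

-- merged: Cfsg.Agent.Mrg.Omega.ExitsDone
section

/-!
# The exits `Q = O₂(C_G(z))` extraspecial of width 2, 3, 4 of the even half, unconditional (helper950)

`Exits.Extra z n` (helper303): `O₂(C_G(z))` is extraspecial of order `2^(2n+1)`.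
* `known_small`: `2 ≤ n ≤ 4` gives `IsKnownSimple' G` (S1759, S1762, S1763).
* `known_or_irr`: `n ≥ 3` gives `IsKnownSimple' G` or `Irr z` (S1761).
* `known_or_large`: any `n ≥ 2`: known, or `n ≥ 5` and `Irr z` (node EH3).
-/

set_option autoImplicit false

namespace Cfsg.Agent.Omega.ExitsDone

open Cfsg Subgroup Cfsg.Agent.Omega.Exits

universe u

theorem st1759 : St1759.{u} := fun _ _ _ z h1 h2 h3 h4 h5 h6 => Cfsg.Agent.S1759.result z h1 h2 h3 h4 h5 h6

theorem st1761 : St1761.{u} := fun _ _ _ _ z h1 h2 h3 n h4 h5 => Cfsg.Agent.S1761.result z h1 h2 h3 n h4 h5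

theorem st1762 : St1762.{u} := fun _ _ _ _ h z h1 h2 h3 h4 => Cfsg.Agent.S1762.result h z h1 h2 h3 h4

theorem st1763 : St1763.{u} := fun _ _ _ _ h z h1 h2 h3 h4 => Cfsg.Agent.S1763.result h z h1 h2 h3 h4

variable {G : Type u} [Group G] [Finite G] [IsSimpleGroup G]

/-- Widths `2`, `3`, `4`. -/
theorem known_small (hna : ¬ IsMulCommutative G) (h2 : IsCharacteristicTwoType G) {z : G} {n : ℕ}
    (h : Extra z n) (hn : 2 ≤ n) (hn' : n ≤ 4) : IsKnownSimple' G := by
  obtain rfl | rfl | rfl : n = 2 ∨ n = 3 ∨ n = 4 := by omega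
  · exact h.known_two h2 hna st1759
  · exact h.known_three h2 hna st1762
  · exact h.known_four h2 hna st1763

/-- Width at least `3`: known or irreducible. -/
theorem known_or_irr (h2 : IsCharacteristicTwoType G) {z : G} {n : ℕ} (h : Extra z n) (hn : 3 ≤ n) :
    IsKnownSimple' G ∨ Irr z := h.known_or_irr h2 st1761 hn

/-- Width at least `2`: known, or width at least `5` and irreducible. -/
theorem known_or_large (hna : ¬ IsMulCommutative G) (h2 : IsCharacteristicTwoType G) {z : G} {n : ℕ}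
    (h : Extra z n) (hn : 2 ≤ n) : IsKnownSimple' G ∨ (5 ≤ n ∧ Irr z) := by
  by_cases hn' : n ≤ 4
  · exact Or.inl (known_small hna h2 h hn hn')
  · rcases known_or_irr h2 h (by omega) with h3 | h3
    · exact Or.inl h3
    · exact Or.inr ⟨by omega, h3⟩

end Cfsg.Agent.Omega.ExitsDone

end

-- merged: Cfsg.Agent.Mrg.Omega.FOne.Glue.Fin
section

/-!
# (F1'), the K-route: `EndPieces`, `PTv`, `FOneP` from the Lie(2) row only (helper854)
-/

set_option autoImplicit false

namespace Cfsg.Agent.Omega.FOne.Glue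

open Cfsg Cfsg.Agent.Omega.FOne.NOv
open Cfsg.Agent.Omega.ML.Ex (EndPieces DeadXL)

universe u v w

/-- **`EndPieces` from the Lie(2) row** -/
theorem endPieces_of (h : DeadXL.{u, v, w} fun S _ => IsLieTypeChar 2 S) : EndPieces.{u, v, w} where
  red := ML.Ex.psRed ML.KnownAll.mlk
  exit := ML.Ex.KnownDone.exitX
  lie2 := h
  u33 := ML.Ex.u33W
  a6 := ML.Ex.a6W

/-- **`PTv` from the Lie(2) row** -/
theorem ptv_of_lie2 (h : DeadXL.{u, u, u} fun S _ => IsLieTypeChar 2 S) : PTv.{u} :=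
  ptv_of (ThmA.toFs ML.KnownAll.mlk) (deadR_of (endPieces_of h)) ML.KnownAll.mlk

/-- **(F1) for the leaf `TwoOne` from the Lie(2) row** -/
theorem fOneP_of_lie2 (h : DeadXL.{u, u, u} fun S _ => IsLieTypeChar 2 S) (K : Frame.Cls.{u}) :
    NO3S.TwoOne.FOneP K :=
  fOneP_of (ThmA.toFs ML.KnownAll.mlk) (deadR_of (endPieces_of h)) ML.KnownAll.mlk K

end Cfsg.Agent.Omega.FOne.Glue

end

-- merged: Cfsg.Agent.Mrg.Omega.LandedAll
section

/-!
# OMEGA: the landed inputs
-/

set_option autoImplicit false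

namespace Cfsg.Agent.Omega.LandedAll

universe u

/-- **The quoted recognition statements.** -/
theorem lib : Outputs.Lib.{u} where
  s0480 := @Cfsg.Agent.S0480.result.{u}
  s1143 := fun G _ _ _ P h1 h2 => Cfsg.Agent.S1143.result P h1 h2
  s1144 := fun G _ _ _ P h1 h2 => Cfsg.Agent.S1144.result P h1 h2
  s1670 := @Cfsg.Agent.S1670.result.{u}
  s1671 := @Cfsg.Agent.S1671.result.{u}
  s1675 := @Cfsg.Agent.S1675.result.{u}
  s1740 := @Cfsg.Agent.S1740.result.{u}
  s1759 := ExitsDone.st1759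
  s1761 := ExitsDone.st1761
  s1762 := ExitsDone.st1762
  s1763 := ExitsDone.st1763
  s1770 := @Cfsg.Agent.S1770.result.{u}
  bender := fun G _ _ _ h H hH => Cfsg.Agent.StrongEmb.Strong.result h H hH

/-- S1175 -/
theorem crit : Cfsg.Agent.WeakTI.FlatBorel.CritAll.{u} := fun _ _ _ hs _ M hM z hz hzM h1 h2 h3 =>
  haveI : IsSimpleGroup _ := hs
  Cfsg.Agent.S1175.result M hM z hz hzM h1 h2 h3

/-- **All landed inputs.** -/
theorem landed : Landed.Landed.{u} where
  lib := lib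
  s1758 := @Cfsg.Agent.S1758.result.{u}
  benderAll := fun Y _ _ => Cfsg.Agent.StrongEmb.Main.bender Y
  ti := fun G _ _ A h => Cfsg.Agent.WeakTI.Final.main crit G A h
  k4 := fun G _ _ _ hna h => Cfsg.Agent.GH.FinalKFour.k4 G hna h
  s1738 := @Cfsg.Agent.S1738.result.{u}
  mlk := ML.KnownAll.mlk
  crit := crit
  rows := ML.Ex.KnownDone.rows
  ext := ML.Ex.Two.ext
  ep := FOne.Glue.endPieces_of ML.Ex.Lie2.lie2
  noInp := KL.NoInp.noInp

end Cfsg.Agent.Omega.LandedAll

end
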