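import Cfsg.Agent.Mrg.Omega.EH3.MTwentyTwo.ExitJ4
import Cfsg.Agent.Mrg.Omega.EH3.Main
import Cfsg.Agent.Mrg.Omega.EH3.CLPlug
import Cfsg.Agent.Mrg.Omega.EH3.CoOneExit
import Cfsg.Agent.Mrg.Omega.EH3Close.Numb
import Cfsg.Agent.S1143
import Cfsg.Prelude.Def_Classification2
import Cfsg.Agent.Mrg.Omega.EH3.Kf.Main
import Cfsg.Agent.Mrg.Omega.All.Basic
import Cfsg.Agent.Mrg.Omega.EH3.CLDone
import Cfsg.Agent.Mrg.Omega.EH3.Kf.TableAll
import Cfsg.Agent.Mrg.Omega.EH3.ESix.Main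
import Cfsg.Agent.Mrg.Omega.EH3.UFour.Row
import Cfsg.Agent.Mrg.Omega.EH3.CoTwo.Row
import Cfsg.Agent.Mrg.Omega.EH3.RowS.Assemble
import Cfsg.Agent.Mrg.Omega.EH3Close.Closing
import Cfsg.Agent.Mrg.Omega.TwoF.RowsDone
import Cfsg.Agent.Mrg.Omega.SQ1.NodeI
import Cfsg.Agent.StrongEmb.Strong
import Cfsg.Agent.Mrg.Omega.Node.NO1
import Cfsg.Agent.Mrg.Omega.NO1.Beta.Plug
import Cfsg.Agent.Mrg.Omega.NOne.SU.Defs
import Cfsg.Agent.Mrg.RankTwoClose.UFour.ExtOf
import Cfsg.Agent.Mrg.Omega.NO1U.PlaneBase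
import Cfsg.Agent.Mrg.Omega.All.NOne.OfGIn
import Cfsg.Agent.Mrg.Omega.Node.EndPlusQ
import Cfsg.Agent.Mrg.Omega.NO1.Nat.A0
import Cfsg.Agent.Mrg.Omega.NO1.Nat.Space
import Cfsg.Agent.Mrg.ParSys.FreeLie
import Cfsg.Agent.Mrg.ParSys.FreeTrans
import Cfsg.Agent.Mrg.RankTwoClose.UFive.Known
import Cfsg.Agent.Mrg.Omega.Lin.TIClose
import Cfsg.Agent.Mrg.Omega.CloseA.Weak
import Cfsg.Agent.Mrg.Omega.Landed
import Cfsg.Agent.Mrg.Omega.Lie.KRowsPlug
import Cfsg.Agent.Mrg.Omega.Node.LieBNP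
import Cfsg.Agent.Mrg.Omega.Node.SEPOf
import Cfsg.Agent.Mrg.Omega.HOne.StFour
import Cfsg.Agent.Mrg.Omega.IIa2.End
import Cfsg.Agent.Mrg.Omega.FFTwoA.Cases
import Cfsg.Agent.Mrg.Omega.FrameI
import Cfsg.Agent.Mrg.Omega.FFMutual
import Cfsg.Agent.Mrg.Omega.FFBr.Final
import Cfsg.Agent.Mrg.Omega.Exit.WeakClosed
import Cfsg.Agent.Mrg.Omega.NO1.FrPlusMain
import Cfsg.Agent.Mrg.Omega.NO1.FrMain
import Cfsg.Agent.Mrg.Omega.NOne.AG.Sympl
import Cfsg.Agent.Mrg.Omega.NO1.Sym.EndOne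
import Cfsg.Agent.Mrg.Omega.NO1.WR.NTwo
import Cfsg.Agent.Mrg.Omega.NOne.AG.Seven
import Cfsg.Agent.Mrg.Omega.Node.NO3SOpen
import Cfsg.Agent.Mrg.Omega.Node.NO3LOpen
import Cfsg.Agent.Mrg.Omega.OpenD
import Cfsg.Agent.Mrg.Omega.NO3S.Sym.Light
import Cfsg.Agent.Mrg.Omega.IId.SymMany.End
import Cfsg.Agent.Mrg.Omega.II0.ExOne

-- merged: Cfsg.Agent.Mrg.Omega.EH3.MTwentyTwo.RowG
section

/-!
# EH3: the row `M₂₂` in `G` (helper893): the socket `m22` of `EH3.Main.Inputs`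
-/

set_option autoImplicit false

namespace Cfsg.Agent.Omega.EH3.MTwentyTwo.RowG

open Subgroup Cfsg Cfsg.Agent.Omega.EH3.Main
open Cfsg.Agent.Omega.Frame (Ctx Cls All)

universe u

/-- **the row `M₂₂`**: `G` is `J₄`. -/
theorem isoJ4 {G : Type u} [Group G] [Finite G] {Q A : Subgroup G} {z a : G} {w : ℕ} (S : Sit Q A z a w)
    (L : Subgroup S.pair.H) (hLn : L.Normal) (hLq : IsQuasisimple L) (hLo : Odd (Nat.card (center L)))
    (hX : S.X ⊓ centralizer (L : Set S.pair.H) = ⊥) (hK : Spor.IsoM22 (L ⧸ center L)) : Spor.IsoJ4 G := by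
  have hG : IsSimpleGroup G := S.ctx.simple
  exact ExitJ4.isoJ4_of_quotient S.pair S.cfg L (commutator_eq_top hLq) hLo hX hK

/-- the socket of `EH3.Main` -/
theorem rowG : RowG All.{u} (fun X _ w => Spor.IsoM22 X ∧ w = 6) := by
  intro G _ _ _ Q A z a w S L hLn hLq hLo hX hP
  have h := isoJ4 S L hLn hLq hLo hX hP.1
  unfold IsKnownSimple' IsSporadicGroup
  tauto

end Cfsg.Agent.Omega.EH3.MTwentyTwo.RowG

end

-- merged: Cfsg.Agent.Mrg.Omega.EH3.Plug
section

/-!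
# EH3: the inputs which are closed (helper807)

`Open` : what is missing for `LeafEH3`; `Open.leaf`.
Closed: `CL` from the uniqueness of the component (helper947), the row `M₂₂` (helper893, 969), the row `Co₁` (helper586).
-/

set_option autoImplicit false

namespace Cfsg.Agent.Omega.EH3.Plug

open Subgroup Cfsg
open Cfsg.Agent.Omega.Frame (Ctx Cls All)
open Cfsg.Agent.Omega.EH3.Main

universe u

/-- the Monster is known -/
theorem known_of_m {G : Type u} [Group G] (h : Spor.IsoM G) : IsKnownSimple' G := by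
  unfold IsKnownSimple' IsSporadicGroup
  tauto

/-- **The row `Co₁`, `w = 12`** (exit to the Monster, helper586). -/
theorem co1 {K : Cls.{u}} (R : KFacts.Rows2.{u}) : RowG K (fun X _ w => Spor.IsoCo1 X ∧ w = 12) := by
  intro G _ _ _ Q A z a w S L hLn hLq hLo h4 ⟨hP, hw⟩
  have := S.ctx.simple
  obtain ⟨hsimple, hna⟩ := simple_of_quasisimple hLq
  have hn := (R.co1 _ hP).lb.resolve_left (by norm_num)
  have : Nontrivial (L ⧸ center L) := hsimple.toNontrivial
  have hc : center (L ⧸ center L) = ⊥ := Exits.center_eq_bot hna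
  exact known_of_m (CoOneExit.isoM_of_cfg S.pair S.cfg hLn (oddCover_mk (commutator_eq_top hLq) hLo) hP hc hn hw)

/-- **What is missing for `LeafEH3`.** -/
structure Open (K : Cls.{u}) : Prop where
  uniq : CLPlug.Unique.{u}
  table : KFacts.Rows2.{u}
  lie : RowG K (fun X _ _ => IsLieTypeChar 2 X)
  u43 : RowG K (fun X _ w => KFacts.IsUFourThree X ∧ w = 6)
  co2 : RowG K (fun X _ w => Spor.IsoCo2 X ∧ w = 11)
  rowS : RowS K

theorem Open.inputs {K : Cls.{u}} (O : Open K) : Inputs K where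
  cl := CLPlug.cl_of O.uniq
  table := O.table
  lie := O.lie
  u43 := O.u43
  m22 := RowG.of_all MTwentyTwo.RowG.rowG
  co2 := O.co2
  co1 := co1 O.table
  rowS := O.rowS

theorem Open.leaf {K : Cls.{u}} (O : Open K) : FrameExtra.LeafEH3 K := O.inputs.leaf

end Cfsg.Agent.Omega.EH3.Plug

end

-- merged: Cfsg.Agent.Mrg.Omega.EH3Close.Close
section

/-!
# EH3 END: if `⟨A, MM p L⟩ = G` then `G` is known (S1143)
-/

set_option autoImplicit false

namespace Cfsg.Agent.Omega.EH3Close.Fin4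

open Cfsg.Agent.ChevalleyStructure.CoxeterGeom Cfsg.Agent.Omega.EH3 Cfsg.Agent.Co2Type.Quad
  Cfsg.Agent.LargeExtra.Base Cfsg.Agent.Omega.EH3Close.Glue

variable {G : Type*} [Group G]

/-- the conclusion of S1143 -/
theorem known_of_lieConcl (h : TitsThree.Top.LieConcl G) : Cfsg.IsKnownSimple' G := by
  rcases h with h | h | h | h | h | h | h
  · exact Or.inr (Or.inr (Or.inl h))
  · exact Or.inr (Or.inr (Or.inr (Or.inl h)))
  · exact Or.inr (Or.inr (Or.inr (Or.inr (Or.inl h))))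
  · exact Or.inr (Or.inr (Or.inr (Or.inr (Or.inr (Or.inl h)))))
  · exact Or.inr (Or.inr (Or.inr (Or.inr (Or.inr (Or.inr (Or.inl h))))))
  · exact Or.inr (Or.inr (Or.inr (Or.inr (Or.inr (Or.inr (Or.inr (Or.inl h)))))))
  · exact Or.inr (Or.inr (Or.inr (Or.inr (Or.inr (Or.inr (Or.inr (Or.inr (Or.inl h))))))))

/-- **If `⟨A, MM p L⟩ = G` then `G` is known.** -/
theorem At.known_of_top [Finite G] [IsSimpleGroup G] {Q A : Subgroup G} {z a : G}
    {p : Pair Q z A a} {l : ℕ} {M : CoxeterMatrix (Fin l)} {q : Fin l → ℕ} {i : Fin l}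
    {A' : Fin l → Fin l → ℤ} {h : IsCartan M A'} {L : Subgroup p.H} {T : Subgroup L} {n : Fin l → L}
    {X : (Fin l → ℤ) → Subgroup L} {w : ℕ}
    (C : Cfg (p.H.subtype : p.H →* (p.lz.V ≃ₗ[ZMod 2] p.lz.V)) p.lz.b p.lz.q p.va p.D (p.X.subgroupOf p.H) w)
    (D : At p q i h L T n X) (htop : A ⊔ MM p L = ⊤) : Cfsg.IsKnownSimple' G := by
  obtain ⟨P, -, h3, hirr⟩ := D.exists_bnPair C
  let e : ↥(A ⊔ MM p L) ≃* G := (MulEquiv.subgroupCongr htop).trans Subgroup.topEquiv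
  have : IsSimpleGroup ↥(A ⊔ MM p L) := e.isSimpleGroup
  exact known_of_lieConcl (TitsThree.Top.LieConcl.of_equiv e.symm (S1143.result P h3 hirr))

end Cfsg.Agent.Omega.EH3Close.Fin4

end

-- merged: Cfsg.Agent.Mrg.Omega.EH3.RowLie
section

/-!
# EH3: the row of the groups of Lie type in characteristic 2 (helper807)

* `exists_syl` : `z` is central in a Sylow 2-subgroup;
* `CloseLoc` : the closing theorem (helper805): all members of `L(P)` normalise `⟨A, MM p L⟩`;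
* `rowLie` : the row, from the table of the families (`Kf.Table.Rows`, helper227 and others), the case `w = 6`,
  `End_L(V) = F₄` (`Kf.Main.End6`, helper415), `CloseLoc`, `NodeI` and Bender's theorem.
-/

set_option autoImplicit false

namespace Cfsg.Agent.Omega.EH3.RowLie

open Subgroup Cfsg Cfsg.Agent.Co2Type.Quad Cfsg.Agent.LargeExtra Cfsg.Agent.LargeExtra.Base
open Cfsg.Agent.Omega.Frame (Ctx Cls All Bender NodeIK)
open Cfsg.Agent.Omega.MinPar (IsLoc)
open Cfsg.Agent.Omega.EH3.Main Cfsg.Agent.Omega.EH3Close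
open Cfsg.Agent.ChevalleyStructure.CoxeterGeom

universe u

/-- `z` is central in a Sylow 2-subgroup. -/
theorem exists_syl {G : Type*} [Group G] [Finite G] {Q : Subgroup G} {z : G} (h : Large Q z) :
    ∃ P : Sylow 2 G, (P : Subgroup G) ≤ centralizer ({z} : Set G) := by
  obtain ⟨P, hP⟩ := (isPGroup h).exists_le_sylow
  refine ⟨P, ?_⟩
  have hn : Nontrivial (P : Subgroup G) :=
    ⟨⟨⟨z, hP h.z_mem⟩, 1, fun e => h.z_ne (congrArg Subtype.val e)⟩⟩
  have hc : Nontrivial (center (P : Subgroup G)) := P.isPGroup'.center_nontrivial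
  obtain ⟨c, hc1⟩ := exists_ne (1 : center (P : Subgroup G))
  have hcom : ∀ x ∈ (P : Subgroup G), ((c : (P : Subgroup G)) : G) * x = x * ((c : (P : Subgroup G)) : G) := by
    intro x hx
    exact (congrArg Subtype.val (mem_center_iff.1 c.2 ⟨x, hx⟩)).symm
  have h1 : ((c : (P : Subgroup G)) : G) ∈ Q :=
    h.self _ (hcom z (hP h.z_mem)) fun x hx => hcom x (hP hx)
  have h2 : ((c : (P : Subgroup G)) : G) = z := by
    rcases h.cent _ h1 fun y hy => hcom y (hP hy) with h3 | h3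
    · exact absurd (Subtype.ext (Subtype.ext h3)) hc1
    · exact h3
  intro x hx
  rw [mem_centralizer_singleton_iff, ← h2]
  exact (hcom x hx).symm

/-- **The closing theorem** (helper805): all members of `L(P)` normalise `⟨A, MM p L⟩`. -/
def CloseLoc : Prop :=
  ∀ (G : Type u) [Group G] [Finite G] (Q A : Subgroup G) (z a : G) (w : ℕ) (S : Sit Q A z a w) (l : ℕ)
    (M : CoxeterMatrix (Fin l)) (q : Fin l → ℕ) (i : Fin l) (A' : Fin l → Fin l → ℤ) (h : IsCartan M A')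
    (L : Subgroup S.pair.H) (T : Subgroup L) (n : Fin l → L) (X : (Fin l → ℤ) → Subgroup L),
    Fin4.At S.pair q i h L T n X → ∀ P : Sylow 2 G, (P : Subgroup G) ≤ centralizer ({z} : Set G) →
      ∀ M' : Subgroup G, IsLoc (P : Subgroup G) M' →
        M' ≤ normalizer ((A ⊔ Glue.MM S.pair L : Subgroup G) : Set G)

/-- **The row of the groups of Lie type in characteristic 2.** -/
theorem rowLie {K : Cls.{u}} (R : Kf.Table.Rows.{u}) (e6 : Kf.Main.End6.{u} (fun K _ => IsLieTypeChar 2 K))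
    (hc : CloseLoc.{u}) (hB : Bender.{u}) (h1 : NodeIK K) : RowG K (fun X _ _ => IsLieTypeChar 2 X) := by
  intro G _ _ hK Q A z a w S L hLn hLq hLo hX hP
  have := S.ctx.simple
  have F := Kf.Table.four_lie R e6 S.cfg hLn hLq hLo hX hP
  obtain ⟨l, M, q, i, A', h, L', T, n, X, D⟩ := Fin4.exists_at F
  obtain ⟨P, hPz⟩ := exists_syl S.pair.lz
  have hloc := hc G Q A z a w S l M q i A' h L' T n X D P hPz
  by_cases hY : normalizer ((A ⊔ Glue.MM S.pair L' : Subgroup G) : Set G) = ⊤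
  · have hn : (A ⊔ Glue.MM S.pair L').Normal := normalizer_eq_top_iff.1 hY
    refine D.known_of_top S.cfg (hn.eq_bot_or_eq_top.resolve_left fun h0 => ?_)
    have h2 : z ∈ A ⊔ Glue.MM S.pair L' := mem_sup_left S.pair.z_mem
    rw [h0, mem_bot] at h2
    exact S.pair.lz.z_ne h2
  · exact Cfsg.Agent.Omega.All.known_of_loc_le hB h1 S.ctx hK P hY hloc

end Cfsg.Agent.Omega.EH3.RowLie

end

-- merged: Cfsg.Agent.Mrg.Omega.EH3.Final
section

/-!
# EH3: `LeafEH3 K` for every class `K` (helper807)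

`leaf : LeafEH3 K`, from: `CL` (helper291, helper947), TABLE 2F (helper333 and others), the rows of the groups of Lie
type in characteristic 2 (helper227, helper415 and others; closing theorem: helper805, helper635), `U₄(3)`
(helper586), `M₂₂` (helper893), `Co₁` (helper586), `Co₂` (helper665), the row `S` (helper73, helper754, helper888,
helper165), NODE I (helper603), Bender's theorem.
-/

set_option autoImplicit false

namespace Cfsg.Agent.Omega.EH3.Final

open Subgroup Cfsg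
open Cfsg.Agent.Omega.Frame (Ctx Cls All)
open Cfsg.Agent.Omega.EH3.Main

universe u

/-- What is missing for `LeafEH3`: nothing (the name is kept for `Top/Open.lean`). -/
structure Open (K : Cls.{u}) : Prop

theorem bender : Frame.Bender.{u} := fun _ _ _ _ hna H hH => StrongEmb.Strong.result hna H hH

/-- the closing theorem (helper805) in the form of `RowLie.lean` -/
theorem closeLoc : RowLie.CloseLoc.{u} := fun _ _ _ _ _ _ _ _ S _ _ _ _ _ _ _ _ _ _ D P hP _ hM =>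
  EH3Close.Closing.loc_le S.ctx.char2 S.cfg S.hall D P hP hM

/-- **The groups of Lie type in characteristic 2.** -/
theorem rowLie (K : Cls.{u}) : RowG K (fun X _ _ => IsLieTypeChar 2 X) :=
  RowLie.rowLie Kf.TableAll.rows ESix.Main.e6 closeLoc bender SQ1.NodeI.nodeI.toK

/-- **LeafEH3.** -/
theorem leaf (K : Cls.{u}) : FrameExtra.LeafEH3 K :=
  Plug.Open.leaf
    { uniq := CLDone.unique
      table := TwoF.RowsDone.rows
      lie := rowLie K
      u43 := UFour.Row.rowG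
      co2 := RowG.of_all CoTwo.Close.rowG
      rowS := RowS.Assemble.rowS K }

theorem Open.leaf {K : Cls.{u}} (_ : Open K) : FrameExtra.LeafEH3 K := Final.leaf K

/-- nothing is missing -/
theorem isOpen (K : Cls.{u}) : Open K := ⟨⟩

end Cfsg.Agent.Omega.EH3.Final

end

-- merged: Cfsg.Agent.Mrg.Omega.Node.EndMinusQ
section

section


/-!
# `EndMinusQ`: type (β) of the leaf N1 (= NO-1'), `q ≥ 4` (cut: helper301)

`Dat` : the data after THEOREM BETA (183), THEOREM FIELD (198, 495), THEOREM UNI (177, 456) and THEOREM ALL-N1 (869).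

* `exists_pre` : `Cfg S P`, `MinusQ K σ P V` give `GIn`, `Mt`, `Fld`, `FldX` (no open input);
* `AllMinus` : MX and `G = ⟨N(R), N(V)⟩` (owner: helper869);
* `EndOne`, `EndBig` : the ends `dim Φ = 1` (`U₅(q)`; owner: helper870, helper534) and `dim Φ ≥ 2`
  (`U_n(q)`, `n ≥ 6`; owner: helper283, helper495, helper802);
* `endMinusQ_of`.
-/

set_option autoImplicit false
set_option linter.unusedSectionVars false

namespace Cfsg.Agent.Omega.NO1.EndQ

open Subgroup Cfsg Cfsg.Agent.ZN Cfsg.Agent.Omega.MinPar Cfsg.Agent.Omega.Frame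
open Cfsg.Agent.Omega.NOne.SU Cfsg.Agent.Omega.NO1U Cfsg.Agent.Omega.NO1.Beta
open scoped Pointwise

universe u

/-- **The data of type (β)**, `q ≥ 4`, after BETA, FIELD, UNI and ALL-N1. -/
structure Dat {G : Type u} [Group G] [Finite G] {k F : Type} [Field k] [Field F] [Algebra k F] (T : Quad k F) (S : Sylow 2 G)
    {I : Type u} (V : Subgroup G) (Rf Qf : I → Subgroup G) (i j : I) (v : k → F → k → G) (p p' : G → F)
    {Φ : Type u} [AddCommGroup Φ] [Module F Φ] (φ χ : G → Φ) (hm : Φ → Φ → F)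
    {W : Type u} [AddCommGroup W] [Module F W] (w : G → W) (g : W → W → F) (f₀ : W) (ι : Φ →ₗ[F] W) : Prop where
  ctx : Frame.Ctx G
  full : Full (S : Subgroup G)
  /-- `Ω₁(Z(S)) ≤ R` -/
  Z_R : zc (S : Subgroup G) ≤ Rf i
  /-- `GIn`, `Mt`, `Fld`, MX -/
  D : XD T S V Rf Qf i j v p p' φ χ
  X : FldX T V (Qf i) (Qf j) v p' φ χ
  o : Out T V (Rf i) (Qf i) (Qf j) v p φ χ hm w g f₀ ι
  semi : Nontrivial Φ → CSide.Semi (Rf i) (Qf i) w g
  top : normalizer (Rf i : Set G) ⊔ normalizer (V : Set G) = ⊤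

/-- The end for `A (dim Φ)`. -/
def End (A : ℕ → Prop) : Prop :=
  ∀ (G : Type u) [Group G] [Finite G] (k F : Type) [Field k] [Field F] [Algebra k F] (T : Quad k F)
    (S : Sylow 2 G) (I : Type u) (V : Subgroup G) (Rf Qf : I → Subgroup G) (i j : I) (v : k → F → k → G)
    (p p' : G → F) (Φ : Type u) [AddCommGroup Φ] [Module F Φ] (φ χ : G → Φ) (hm : Φ → Φ → F)
    (W : Type u) [AddCommGroup W] [Module F W] (w : G → W) (g : W → W → F) (f₀ : W) (ι : Φ →ₗ[F] W),
    Dat T S V Rf Qf i j v p p' φ χ hm w g f₀ ι → A (Module.finrank F Φ) → IsKnownSimple' G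

/-- **`dim Φ = 1`**: `U₅(q)`.  Owner: helper870, helper534. -/
def EndOne : Prop := End.{u} fun n => n = 1

/-- **`dim Φ ≥ 2`**: `U_n(q)`, `n ≥ 6`.  Owner: helper283, helper495, helper802. -/
def EndBig : Prop := End.{u} fun n => 2 ≤ n

/-- **THEOREM ALL-N1 for type (β)**: MX and `G = ⟨N(R), N(V)⟩`.  Owner: helper869. -/
def AllMinus : Prop :=
  ∀ (G : Type u) [Group G] [Finite G] (S : Sylow 2 G) (P : Subgroup G), Cfg S P →
    ∀ (K : Type) [Field K] [Finite K] [CharP K 2] (σ : K ≃+* K), 16 ≤ Nat.card K →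
      ∀ d : Inst.Co K σ (P ⊔ centralizer (zl (S : Subgroup G) P : Set G)) (zl (S : Subgroup G) P),
        (S : Subgroup G) ≤ normalizer (d.R0 : Set G) → zc (S : Subgroup G) ≤ d.R0 →
        Inst.Sy d o2 (S : Subgroup G) (zc (S : Subgroup G)) → Inst.Hyp d o2 →
        (∀ m ∈ normalizer (zl (S : Subgroup G) P : Set G),
          ∃ x ∈ o2 (normalizer (d.R0 : Set G)) ⊔ o2 (normalizer (d.Roo : Set G)),
            x * m ∈ normalizer (d.R0 : Set G)) ∧
        normalizer (d.R0 : Set G) ⊔ normalizer (zl (S : Subgroup G) P : Set G) = ⊤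

section pre

variable {G : Type u} [Group G] [Finite G] {S : Sylow 2 G} {P : Subgroup G} {K : Type} [Field K] [Finite K]
  [CharP K 2] {σ : K ≃+* K}

open GHyp GInst in
/-- **BETA + FIELD in the configuration of N1.** -/
theorem exists_pre (h : Cfg S P) (m : MinusQ K σ P (zl (S : Subgroup G) P)) (h1 : σ ≠ RingEquiv.refl K)
    (h2 : ∀ x, σ (σ x) = x) (h16 : 16 ≤ Nat.card K) :
    ∃ d : Inst.Co K σ (P ⊔ centralizer (zl (S : Subgroup G) P : Set G)) (zl (S : Subgroup G) P),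
      (S : Subgroup G) ≤ normalizer (d.R0 : Set G) ∧ zc (S : Subgroup G) ≤ d.R0 ∧
      Inst.Sy d o2 (S : Subgroup G) (zc (S : Subgroup G)) ∧ Inst.Hyp d o2 ∧
      Meet.Mt (zl (S : Subgroup G) P) (fun i : Inst.Pt d => i.1) (fun i => o2 (normalizer (i.1 : Set G))) ∧
      GIn (quad d.inv d.nt h16) S (zl (S : Subgroup G) P) d.R0 (o2 (normalizer (d.R0 : Set G)))
        (o2 (normalizer (d.Roo : Set G))) (vv d) (pu d) (pl d) ∧
      ∃ (Φ : Type u) (_ : AddCommGroup Φ) (_ : Module K Φ) (φ χ : G → Φ),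
        Fld (quad d.inv d.nt h16) (zl (S : Subgroup G) P) d.R0 (o2 (normalizer (d.R0 : Set G)))
          (o2 (normalizer (d.Roo : Set G))) (vv d) (pu d) φ χ ∧
        FldX (quad d.inv d.nt h16) (zl (S : Subgroup G) P) (o2 (normalizer (d.R0 : Set G)))
          (o2 (normalizer (d.Roo : Set G))) (vv d) (pl d) φ χ := by
  obtain ⟨d, h3, h4, h5, h6, -⟩ := Plug.main h m h1 h2
  obtain ⟨hM, hg, -⟩ := GHyp.main' h6 h16 h5.meet S h5.S_M h3
  refine ⟨d, h3, h4, h5, h6, hM, hg, ?_⟩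
  exact exists_FldX (Rf := fun i : Inst.Pt d => i.1) (Qf := fun i => o2 (normalizer (i.1 : Set G)))
    (i := i0 d) (j := i1 d) hg hM (i0_ne_i1 d) fun x => mem_Roo_vv d

end pre

/-- **`EndMinusQ`** from ALL-N1 and the ends `dim Φ = 1`, `dim Φ ≥ 2` (`dim Φ = 0` is `known_zero`). -/
theorem endMinusQ_of {K : Cls.{u}} (hB : RootLemma.Bender.{u}) (h44 : Exits.St1144.{u}) (hA : AllMinus.{u})
    (h1 : EndOne.{u}) (h2 : EndBig.{u}) : EndMinusQ K := by
  intro G _ _ S P h _ F _ _ _ σ hσ hσ2 h16 m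
  obtain ⟨d, hS, hZ, hSy, hH, hM, hg, Φ, _, _, φ, χ, hf, hX⟩ := exists_pre h m hσ hσ2 h16
  obtain ⟨hmx, htop⟩ := hA G S P h F σ h16 d hS hZ hSy hH
  obtain ⟨W, _, _, w, g, f₀, ι, hm, o, hs⟩ := SemiOf.exists_Out_semi hg hf
  have D : Dat (GInst.quad d.inv d.nt h16) S (zl (S : Subgroup G) P) (fun i : Inst.Pt d => i.1)
      (fun i => o2 (normalizer (i.1 : Set G))) (GHyp.i0 d) (GHyp.i1 d) (GInst.vv d) (GInst.pu d) (GInst.pl d)
      φ χ hm w g f₀ ι :=
    { ctx := h.ctx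
      full := h.full
      Z_R := hZ
      D := { g := hg, M := hM, ne := GHyp.i0_ne_i1 d, Rj := fun x => GInst.mem_Roo_vv d, f := hf, mx := hmx }
      X := hX
      o := o
      semi := hs
      top := htop }
  rcases Nat.lt_or_ge (Module.finrank F Φ) 1 with hn | hn
  · have hfin : Finite Φ := by
      apply Finite.of_surjective φ
      intro x
      obtain ⟨y, -, -, hy⟩ := hf.φ_surj x
      exact ⟨y, hy⟩
    have : Module.Finite F Φ := Module.Finite.of_finite
    have : Subsingleton Φ := (Module.finrank_zero_iff (R := F)).1 (by omega)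
    have hE : NOne.SU.Ext (zl (S : Subgroup G) P) d.R0 (o2 (normalizer (d.R0 : Set G)))
        (o2 (normalizer (d.Roo : Set G))) (GInst.pl d) :=
      { p'_surj := hX.p'_surj
        sw := by
          obtain ⟨n, hn, h3, -, -⟩ := hX.swap
          exact ⟨n, hn, h3⟩
        MX := hmx }
    exact known_zero hB h44 h.ctx h.full hg hf o hE
  · rcases Nat.lt_or_ge (Module.finrank F Φ) 2 with hn' | hn'
    · exact h1 G _ F _ S _ _ _ _ _ _ _ _ _ Φ φ χ hm W w g f₀ ι D (by omega)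
    · exact h2 G _ F _ S _ _ _ _ _ _ _ _ _ Φ φ χ hm W w g f₀ ι D hn'

end Cfsg.Agent.Omega.NO1.EndQ

end

section


/-!
# `EndQ.AllMinus` (THEOREM ALL-N1, type (β)), `CoreMinus`

* `coreMinus : CoreMinus` (no hypothesis);
* `allMinus : BT → EndQ.AllMinus`.
-/

set_option autoImplicit false
set_option linter.unusedSectionVars false

namespace Cfsg.Agent.Omega.NO1.AllMinus

open Subgroup Cfsg Cfsg.Agent.ZN Cfsg.Agent.Omega.MinPar Cfsg.Agent.Omega.Frame Cfsg.Agent.Omega.All.NOne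
open Cfsg.Agent.Omega.NOne.SU Cfsg.Agent.Omega.NO1.Beta

universe u

/-- **`Core` for `MinusQ`.** -/
theorem coreMinus : CoreMinus.{u} := by
  intro G _ _ S P h K _ _ _ σ h1 h2 h16 m
  obtain ⟨d, hS, hZ, hSy, hH, -⟩ := EndQ.exists_pre h m h1 h2 h16
  exact ⟨GInst.kf σ, K, _, _, _, _, _, _, _, _, _, (OfGIn.two_hyp hH h16 S hSy.meet hSy.S_M hS hZ).core⟩

/-- **THEOREM ALL-N1 for type (β)**: MX and `G = ⟨N(R), N(V)⟩`. -/
theorem allMinus (hBT : BT.{u}) : EndQ.AllMinus.{u} := by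
  intro G _ _ S P h K _ _ _ σ h16 d hS hZ hSy hH
  have T2 := OfGIn.two_hyp hH h16 S hSy.meet hSy.S_M hS hZ
  refine ⟨fun m hm => ?_, ?_⟩
  · exact T2.core.mx S h.ctx.char2 (ZN.zc_ne_bot S.isPGroup' (h.ctx.sylow_ne_bot S)) hm
  · exact T2.core.sup_eq_top_of S (T2.toPair.ext S) h.ctx h.full hBT coreMinus

end Cfsg.Agent.Omega.NO1.AllMinus

end

end

-- merged: Cfsg.Agent.Mrg.Omega.NO1.Nat.Main
section

/-!
# THEOREM NAT (#13408): `NatOne`

(0)-(3) `exists_quad` (helper359), (4) helper626 / helper753, (5) `Quad.six` (helper626),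
(6), (7) `Nat.Seven.false` (helper382).
-/

set_option autoImplicit false

namespace Cfsg.Agent.Omega.NO1.NatA

open Subgroup Cfsg Cfsg.Agent.ZN Cfsg.Agent.Omega.MinPar Cfsg.Agent.Omega.Frame

universe u

theorem quadFalse : QuadFalse.{u} := by
  intro G _ _ S P z V V₁ C Q q
  obtain ⟨M, e, h⟩ := q.six
  exact Nat.Seven.false h q.cfg.ctx.rank

/-- **THEOREM NAT.** -/
theorem natOne : NatOne.{u} := fun _ _ _ _ _ h _ _ _ _ N => ty_of quadFalse h N

end Cfsg.Agent.Omega.NO1.NatA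

end

-- merged: Cfsg.Agent.Mrg.Omega.NO1U.EndSys
section

section


/-!
# The closing of NO-1' (β), q ≥ 4, `dim Φ ≥ 2`: the parabolic system of type `B_{m+1}`

`sys : SysL`, `card_U`, **`isLie`** : a simple group `G = ⟨N(V), N(R)⟩` with `XD`, `Out`, `Semi` and `dim Φ ≥ 2` is of
Lie type.
-/

set_option autoImplicit false
set_option linter.unusedVariables false
set_option linter.unusedSectionVars false

open Subgroup Module
open Cfsg.Agent.Omega.NO1.Beta.Meet Cfsg.Agent.Omega.NOne.SU Cfsg.Agent.ParSys.Polar.Flags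
open Cfsg.Agent.ParSys.Polar.Hermit Cfsg.Agent.ParSys.Polar.Unip Cfsg.Agent.ParSys.RankTwo
open Cfsg.Agent.ParSys Cfsg.Agent.ParSys.RootEpsBD Cfsg.Agent.ParSys.FreeCount

namespace Cfsg.Agent.Omega.NO1U.EndSys

open Cfsg.Agent.Omega.NO1U.CSide

/-- the Coxeter matrix of type `B_{m+1}` -/
def BM (m : ℕ) : CoxeterMatrix (Fin (m + 1)) where
  M := Matrix.of fun i j : Fin (m + 1) => if i = j then 1 else
    if ((i : ℕ) + 1 = j ∧ (j : ℕ) = m) ∨ ((j : ℕ) + 1 = i ∧ (i : ℕ) = m) then 4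
    else if (i : ℕ) + 1 = j ∨ (j : ℕ) + 1 = i then 3 else 2
  isSymm := by
    ext i j
    simp only [Matrix.transpose_apply, Matrix.of_apply]
    by_cases h : i = j
    · subst h; rfl
    · rw [if_neg h, if_neg (Ne.symm h)]
      simp only [or_comm]
  diagonal i := by simp
  off_diagonal i j h := by
    simp only [Matrix.of_apply, if_neg h]
    split_ifs <;> decide

theorem BM_apply (m : ℕ) (i j : Fin (m + 1)) : BM m i j = if i = j then 1 else
    if ((i : ℕ) + 1 = j ∧ (j : ℕ) = m) ∨ ((j : ℕ) + 1 = i ∧ (i : ℕ) = m) then 4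
    else if (i : ℕ) + 1 = j ∨ (j : ℕ) + 1 = i then 3 else 2 := rfl

theorem typeB (m : ℕ) : TypeB ((BM m).reindex (Equiv.refl _)) := by
  intro i j h
  have h1 := BM_apply m i j
  rw [if_neg h] at h1
  exact h1

universe u

variable {G : Type u} [Group G] {k F : Type*} [Field k] [Field F] [Algebra k F] {T : Quad k F}
  {S : Sylow 2 G} {I : Type*} {V : Subgroup G} {Rf Qf : I → Subgroup G} {i j : I}
  {v : k → F → k → G} {p p' : G → F}
  {Φ : Type*} [AddCommGroup Φ] [Module F Φ] {φ χ : G → Φ} {hm : Φ → Φ → F}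
  {W : Type*} [AddCommGroup W] [Module F W] {w : G → W} {g : W → W → F} {f₀ : W} {ι : Φ →ₗ[F] W}

/-- `|k| |F|^n ≤ |Q|` -/
theorem card_Q [Finite G] (D : XD T S V Rf Qf i j v p p' φ χ)
    (o : Out T V (Rf i) (Qf i) (Qf j) v p φ χ hm w g f₀ ι) [FiniteDimensional F W] :
    Nat.card k * Nat.card F ^ finrank F W ≤ Nat.card (Qf i) := by
  have hF := T.finF
  rw [← Module.natCard_eq_pow_finrank (K := F) (V := W), ← Nat.card_prod]
  refine Nat.card_le_card_of_injective (fun z : k × W => (⟨v z.1 0 0 * sec o z.2,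
    mul_mem (D.g.E_le _ _) (sec_mem o _)⟩ : Qf i)) ?_
  rintro ⟨a, x⟩ ⟨b, y⟩ h
  have h1 : v a 0 0 * sec o x = v b 0 0 * sec o y := congrArg Subtype.val h
  have h2 : x = y := by
    have h3 := congrArg w h1
    rw [o.w_mul _ (D.g.E_le _ _) _ (sec_mem o _), o.w_mul _ (D.g.E_le _ _) _ (sec_mem o _), w_sec o, w_sec o,
      OutL.w_R D.g o (D.g.mem_R.2 ⟨a, rfl⟩), OutL.w_R D.g o (D.g.mem_R.2 ⟨b, rfl⟩), zero_add, zero_add] at h3
    exact h3
  subst h2
  have h4 := mul_right_cancel h1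
  rw [(D.g.v_eq h4).1]

section pol

variable (D : XD T S V Rf Qf i j v p p' φ χ) (o : Out T V (Rf i) (Qf i) (Qf j) v p φ χ hm w g f₀ ι)
  {sigma : ↥(normalizer (Rf i : Set G)) →* Equiv.Perm (Submodule F W)} {m : ℕ}
  {fl : ℕ → Submodule F W}
  (P : Pol (normalizer (Rf i : Set G)) (Nat.card k) (sgR T) g (rho D.g o) sigma m fl)
  (hf1 : fl 1 = F ∙ w (v 0 1 0)) (hm2 : 2 ≤ m)

/-- the parabolic subgroups -/
def PP (Rf Qf : I → Subgroup G) (i j : I)
    (sigma : ↥(normalizer (Rf i : Set G)) →* Equiv.Perm (Submodule F W)) (m : ℕ)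
    (fl : ℕ → Submodule F W) (a : Fin (m + 1)) : Subgroup G :=
  if (a : ℕ) = 0 then (Qf i ⊔ Qf j) ⊔ fst (normalizer (Rf i : Set G)) sigma m fl ∅
  else fst (normalizer (Rf i : Set G)) sigma m fl {(a : ℕ)}

/-- the parameters -/
noncomputable def qq (k F W : Type*) [Field F] [AddCommGroup W] [Module F W] (m : ℕ) (a : Fin (m + 1)) : ℕ :=
  if (a : ℕ) = m then Nat.card k * Nat.card F ^ (finrank F W - 2 * m) else Nat.card F

theorem PP_zero {a : Fin (m + 1)} (h : (a : ℕ) = 0) :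
    PP Rf Qf i j sigma m fl a = (Qf i ⊔ Qf j) ⊔ fst (normalizer (Rf i : Set G)) sigma m fl ∅ := if_pos h

theorem PP_pos {a : Fin (m + 1)} (h : (a : ℕ) ≠ 0) :
    PP Rf Qf i j sigma m fl a = fst (normalizer (Rf i : Set G)) sigma m fl {(a : ℕ)} := if_neg h

theorem B_le [FiniteDimensional F W] (Rf Qf : I → Subgroup G) (i j : I)
    (sigma : ↥(normalizer (Rf i : Set G)) →* Equiv.Perm (Submodule F W)) (m : ℕ)
    (fl : ℕ → Submodule F W) (a : Fin (m + 1)) :
    fst (normalizer (Rf i : Set G)) sigma m fl ∅ ≤ PP Rf Qf i j sigma m fl a := by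
  by_cases h : (a : ℕ) = 0
  · rw [PP_zero h]; exact le_sup_right
  · rw [PP_pos h]; exact fst_mono (Set.empty_subset _)

include D o P hf1 hm2

theorem gp [Finite G] [FiniteDimensional F W] : Free.GP (fst (normalizer (Rf i : Set G)) sigma m fl ∅)
    (PP Rf Qf i j sigma m fl) (fun a b => BM m a b) := by
  have E := nd D o P hf1 (by omega : 1 ≤ m)
  have key : ∀ a b : Fin (m + 1), (a : ℕ) < b →
      GPp (fst (normalizer (Rf i : Set G)) sigma m fl ∅) (PP Rf Qf i j sigma m fl) a b (BM m a b) ∧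
      GPp (fst (normalizer (Rf i : Set G)) sigma m fl ∅) (PP Rf Qf i j sigma m fl) b a (BM m a b) := by
    intro a b hab
    have hb := b.2
    have hne : a ≠ b := fun h => by rw [h] at hab; exact lt_irrefl _ hab
    rw [BM_apply, if_neg hne]
    have hb0 : (b : ℕ) ≠ 0 := by omega
    by_cases ha : (a : ℕ) = 0
    · by_cases hb1 : (b : ℕ) = 1
      · rw [if_neg (by omega), if_pos (by omega)]
        refine gpp01 D o P hf1 (by omega) hm2 hne (B_le Rf Qf i j sigma m fl) (PP_zero ha) ?_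
        rw [PP_pos hb0, hb1]
      · rw [if_neg (by omega), if_neg (by omega)]
        have h1 : PP Rf Qf i j sigma m fl b ≤ normalizer (V : Set G) := by
          rw [PP_pos hb0]
          exact fst_le_N D o P hf1 (by omega) (by
            rw [Set.mem_singleton_iff]; omega)
        have h2 : PP Rf Qf i j sigma m fl b ≤ normalizer (Rf i : Set G) := by
          rw [PP_pos hb0]; exact fst_le
        exact ⟨Nd.digon D E (B_le Rf Qf i j sigma m fl) (PP_zero ha) h1 h2, Nd.digon' D E (B_le Rf Qf i j sigma m fl) (PP_zero ha) h1 h2⟩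
    · by_cases h1 : (a : ℕ) + 1 = b
      · by_cases h2 : (b : ℕ) = m
        · rw [if_pos (by omega)]
          exact P.rk_four (B_le Rf Qf i j sigma m fl) (PP_pos ha) (PP_pos hb0) (by omega) h1 h2
        · rw [if_neg (by omega), if_pos (by omega)]
          exact P.rk_three (B_le Rf Qf i j sigma m fl) (PP_pos ha) (PP_pos hb0) (by omega) h1 (by omega)
      · rw [if_neg (by omega), if_neg (by omega)]
        exact P.rk_two (B_le Rf Qf i j sigma m fl) (PP_pos ha) (PP_pos hb0) (by omega) (by omega)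
  intro a b hab
  rcases lt_trichotomy (a : ℕ) b with h | h | h
  · exact (key a b h).1
  · exact absurd (Fin.ext h) hab
  · have h1 := (key b a h).2
    rwa [(BM m).symmetric] at h1

/-- **the parabolic system** -/
theorem sys [Finite G] [IsSimpleGroup G] [FiniteDimensional F W]
    (hMC : normalizer (V : Set G) ⊔ normalizer (Rf i : Set G) = ⊤) :
    FreeLoc.SysL (BM m).toCoxeterSystem (fst (normalizer (Rf i : Set G)) sigma m fl ∅)
      (PP Rf Qf i j sigma m fl) (Un P.A m fl) (qq k F W m) where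
  le := B_le Rf Qf i j sigma m fl
  gen := by
    have E := nd D o P hf1 (by omega : 1 ≤ m)
    refine Nd.gen D E hMC (P.gen (by omega) fun d hd1 hd => ?_) ?_
    · have h1 := le_iSup (PP Rf Qf i j sigma m fl) ⟨d, by omega⟩
      rwa [PP_pos (by simp only; omega)] at h1
    · have h1 := le_iSup (PP Rf Qf i j sigma m fl) ⟨0, by omega⟩
      rwa [PP_zero rfl] at h1
  gp := gp D o P hf1 hm2
  card a := by
    have ha := a.2
    have E := nd D o P hf1 (by omega : 1 ≤ m)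
    by_cases h0 : (a : ℕ) = 0
    · rw [PP_zero h0, Nd.card D E, qq, if_neg (by omega)]
    · rw [PP_pos h0, qq]
      by_cases hm' : (a : ℕ) = m
      · rw [if_pos hm', hm', P.relIndex_last (by omega)]
      · rw [if_neg hm', P.relIndex_lt (by omega) (by omega)]
  two a := by
    have hF := T.finF
    have h1 := T.four
    have h2 : 2 ≤ Nat.card F := Finite.one_lt_card
    unfold qq
    split_ifs
    · exact le_trans (by omega) (Nat.mul_le_mul h1 (Nat.one_le_pow _ _ (by omega)))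
    · exact h2
  U_le := un_le P.A
  pan a := by
    have ha := a.2
    have E := nd D o P hf1 (by omega : 1 ≤ m)
    by_cases h0 : (a : ℕ) = 0
    · rw [PP_zero h0]; exact Nd.pan D E
    · rw [PP_pos h0]; exact P.pan (by omega) (by omega)
  clo a := by
    have ha := a.2
    have E := nd D o P hf1 (by omega : 1 ≤ m)
    by_cases h0 : (a : ℕ) = 0
    · rw [PP_zero h0]; exact Nd.clo D E
    · rw [PP_pos h0]; exact P.clo (by omega) (by omega)
  core x _ hx := by
    have hF := T.finF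
    have E := nd D o P hf1 (by omega : 1 ≤ m)
    refine Cfsg.Agent.ParSys.Free.core_of_simple (B := fst (normalizer (Rf i : Set G)) sigma m fl ∅) ?_ x hx
    intro htop
    have h1 := Nd.card D E
    rw [htop, Subgroup.relIndex_eq_one.2 le_top] at h1
    have h2 : 2 ≤ Nat.card F := Finite.one_lt_card
    omega

/-- the order of `U` -/
theorem card_U [Finite G] [FiniteDimensional F W] :
    (Nat.card F) ^ ((m + 1) * m) * (Nat.card k * Nat.card F ^ (finrank F W - 2 * m)) ^ (m + 1)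
      ≤ Nat.card (Un P.A m fl) := by
  have h1 := P.card_un (Q := Qf i) (Q_le D.g) (fun x hx m => rho_Q D.g o hx _ m)
  refine le_trans (le_trans (le_of_eq ?_) (Nat.mul_le_mul_right _ (card_Q D o))) h1
  rw [T.card]
  generalize Nat.card k = q
  rcases P.finrank_eq with hn | hn
  · rw [hn, Nat.sub_self, pow_zero, mul_one]
    have e1 : 2 * m * (2 * m - 1) / 2 = m * (2 * m - 1) := by
      rw [mul_assoc, Nat.mul_div_cancel_left _ two_pos]
    rw [e1, ← pow_mul, ← pow_add, ← pow_mul, ← pow_succ', ← pow_add]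
    congr 1
    obtain ⟨r, rfl⟩ := Nat.exists_eq_add_of_le' hm2
    have e2 : 2 * (r + 2) - 1 = 2 * r + 3 := by omega
    rw [e2]; ring
  · rw [hn]
    have e0 : 2 * m + 1 - 2 * m = 1 := by omega
    have e1 : (2 * m + 1) * (2 * m + 1 - 1) / 2 = (2 * m + 1) * m := by
      rw [Nat.add_sub_cancel, mul_comm 2 m, ← mul_assoc, Nat.mul_div_cancel _ two_pos, mul_comm m 2]
    rw [e0, e1, pow_one, ← pow_mul, ← pow_succ', ← pow_mul, ← pow_add, ← pow_mul, ← pow_succ', ← pow_add]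
    congr 1
    ring

end pol

/-- **the closing for `dim Φ ≥ 2`** -/
theorem isLie [Finite G] [IsSimpleGroup G] (D : XD T S V Rf Qf i j v p p' φ χ)
    (o : Out T V (Rf i) (Qf i) (Qf j) v p φ χ hm w g f₀ ι) (hs : Semi (Rf i) (Qf i) w g)
    (hMC : normalizer (V : Set G) ⊔ normalizer (Rf i : Set G) = ⊤)
    (hΦ : ∀ x : Φ, ∃ y : Φ, ∀ s : F, y ≠ s • x) :
    Cfsg.IsPSL G ∨ Cfsg.IsPSp G ∨ Cfsg.IsPSU G ∨ Cfsg.IsPOmegaOdd G ∨ Cfsg.IsPOmegaPlus G ∨ Cfsg.IsPOmegaMinus G ∨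
      Cfsg.IsExceptionalLieType G := by
  have hF := T.finF
  obtain ⟨hfin, sigma, m, fl, P, hf1, hm1⟩ := exists_pol D.g D.f o hs
  -- `m ≥ 2`
  have hm2 : 2 ≤ m := by
    have hfW : Finite W := Module.finite_of_finite F
    have hfΦ : Finite Φ := Finite.of_injective ι (by
      rw [← LinearMap.ker_eq_bot, LinearMap.ker_eq_bot']
      intro x hx
      refine o.hm_nondeg x fun u => ?_
      rw [← o.g_ιι, hx]; exact OutL.g_zero D.g o _)
    have hfinΦ : Module.Finite F Φ := Module.Finite.of_finite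
    have h1 := finrank_W D o
    have h2 : 2 ≤ finrank F Φ := by
      by_contra hlt
      have h3 : finrank F Φ ≤ 1 := by omega
      obtain ⟨x, hx⟩ := finrank_le_one_iff.1 h3
      obtain ⟨y, hy⟩ := hΦ x
      obtain ⟨s, hs⟩ := hx y
      exact hy s hs.symm
    have h3 := P.finrank_eq
    omega
  refine FreeLieLoc.isLie (hasQ_B (Equiv.refl (Fin (m + 1))) (typeB m) (x := Nat.card F)
    (y := Nat.card k * Nat.card F ^ (finrank F W - 2 * m)) (q := qq k F W m) fun a => rfl)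
    (sys D o P hf1 hm2 hMC) (card_U D o P hf1 hm2) ?_ (conn_B (Equiv.refl _) (typeB m))
  rw [Nat.card_eq_fintype_card, Fintype.card_fin]
  omega

end Cfsg.Agent.Omega.NO1U.EndSys

end

section


/-!
# The closing of NO-1' (β), q ≥ 4, `dim Φ ≥ 2`: from `XD` and `G = ⟨N(V), N(R)⟩`
-/

set_option autoImplicit false
set_option linter.style.haveILetI false

open Subgroup
open Cfsg.Agent.Omega.NOne.SU

namespace Cfsg.Agent.Omega.NO1U.EndBig

universe u

variable {G : Type u} [Group G] {k F : Type*} [Field k] [Field F] [Algebra k F] {T : Quad k F}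
  {S : Sylow 2 G} {I : Type*} {V : Subgroup G} {Rf Qf : I → Subgroup G} {i j : I}
  {v : k → F → k → G} {p p' : G → F} {Φ : Type*} [AddCommGroup Φ] [Module F Φ] {φ χ : G → Φ}

/-- **a simple group `G = ⟨N(V), N(R)⟩` with `XD` and `dim Φ ≥ 2` is of Lie type** -/
theorem isLie [Finite G] [IsSimpleGroup G] (D : XD T S V Rf Qf i j v p p' φ χ)
    (hMC : normalizer (V : Set G) ⊔ normalizer (Rf i : Set G) = ⊤)
    (hΦ : ∀ x : Φ, ∃ y : Φ, ∀ s : F, y ≠ s • x) :
    Cfsg.IsPSL G ∨ Cfsg.IsPSp G ∨ Cfsg.IsPSU G ∨ Cfsg.IsPOmegaOdd G ∨ Cfsg.IsPOmegaPlus G ∨ Cfsg.IsPOmegaMinus G ∨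
      Cfsg.IsExceptionalLieType G := by
  letI : Module k Φ := Module.compHom Φ (algebraMap k F)
  haveI : IsScalarTower k F Φ := IsScalarTower.of_algebraMap_smul fun _ _ => rfl
  have hn : Nontrivial Φ := by
    obtain ⟨y, hy⟩ := hΦ 0
    exact ⟨y, 0, fun h => hy 0 (by rw [h, smul_zero])⟩
  obtain ⟨W, _, _, w, g, f₀, ι, hm, o, hs⟩ := SemiOf.exists_Out_semi D.g D.f
  exact EndSys.isLie D o (hs hn) hMC hΦ

/-- **`dim Φ ≥ 2`: known** -/
theorem known [Finite G] [IsSimpleGroup G] (D : XD T S V Rf Qf i j v p p' φ χ)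
    (hMC : normalizer (V : Set G) ⊔ normalizer (Rf i : Set G) = ⊤)
    (h2 : 2 ≤ Module.finrank F Φ) : Cfsg.IsKnownSimple' G := by
  have hfin : Module.Finite F Φ := Module.finite_of_finrank_pos (by omega)
  have h := isLie D hMC fun x => by
    by_contra hcon
    push Not at hcon
    have h1 : (⊤ : Submodule F Φ) ≤ Submodule.span F {x} := fun y _ => by
      obtain ⟨s, hs⟩ := hcon y
      exact Submodule.mem_span_singleton.2 ⟨s, hs.symm⟩
    have h3 := Submodule.finrank_mono h1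
    rw [finrank_top] at h3
    have h4 := finrank_span_le_card (R := F) ({x} : Set Φ)
    rw [Set.toFinset_singleton, Finset.card_singleton] at h4
    omega
  rcases h with h | h | h | h | h | h | h
  · exact Or.inr (Or.inr (Or.inl h))
  · exact Or.inr (Or.inr (Or.inr (Or.inl h)))
  · exact Or.inr (Or.inr (Or.inr (Or.inr (Or.inl h))))
  · exact Or.inr (Or.inr (Or.inr (Or.inr (Or.inr (Or.inl h)))))
  · exact Or.inr (Or.inr (Or.inr (Or.inr (Or.inr (Or.inr (Or.inl h))))))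
  · exact Or.inr (Or.inr (Or.inr (Or.inr (Or.inr (Or.inr (Or.inr (Or.inl h)))))))
  · exact Or.inr (Or.inr (Or.inr (Or.inr (Or.inr (Or.inr (Or.inr (Or.inr (Or.inl h))))))))

end Cfsg.Agent.Omega.NO1U.EndBig

end

end

-- merged: Cfsg.Agent.Mrg.Omega.Node.EndMinusQEnds
section

/-!
# `EndMinusQ` from `AllMinus`

* `endOne` : `dim Φ = 1` (helper870, helper534: `RankTwoClose/UFive/Known.lean`);
* `endBig` : `dim Φ ≥ 2` (helper283, helper495, helper802: `Omega/NO1U/EndBig.lean`);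
* `endMinusQ`.
-/

set_option autoImplicit false

namespace Cfsg.Agent.Omega.NO1.EndQ

open Subgroup Cfsg Cfsg.Agent.ZN Cfsg.Agent.Omega.MinPar Cfsg.Agent.Omega.Frame
open Cfsg.Agent.Omega.NOne.SU Cfsg.Agent.Omega.NO1U Cfsg.Agent.Omega.NO1.Beta

universe u

/-- **The end `dim Φ = 1`**: `U₅(q)`. -/
theorem endOne (hB : RootLemma.Bender.{u}) (h44 : Exits.St1144.{u}) : EndOne.{u} := by
  intro G _ _ k F _ _ _ T S I V Rf Qf i j v p p' Φ _ _ φ χ hm W _ _ w g f₀ ι d h1
  have hE : NOne.SU.Ext V (Rf i) (Qf i) (Qf j) p' :=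
    { p'_surj := d.X.p'_surj
      sw := by
        obtain ⟨n, hn, h3, -, -⟩ := d.X.swap
        exact ⟨n, hn, h3⟩
      MX := d.D.mx }
  exact RankTwoClose.UFive.Known.known_of_out h44 hB d.ctx.simple d.ctx.nonComm d.ctx.char2 d.D.g d.D.f hE
    d.o h1 d.top

/-- **The end `dim Φ ≥ 2`**: `U_n(q)`, `n ≥ 6`. -/
theorem endBig : EndBig.{u} := by
  intro G _ _ k F _ _ _ T S I V Rf Qf i j v p p' Φ _ _ φ χ hm W _ _ w g f₀ ι d h1
  have := d.ctx.simple
  exact NO1U.EndBig.known d.D (by rw [sup_comm]; exact d.top) h1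

/-- **`EndMinusQ`** from THEOREM ALL-N1. -/
theorem endMinusQ {K : Cls.{u}} (hB : RootLemma.Bender.{u}) (h44 : Exits.St1144.{u}) (hA : AllMinus.{u}) :
    EndMinusQ K :=
  endMinusQ_of hB h44 hA (endOne hB h44) endBig

end Cfsg.Agent.Omega.NO1.EndQ

end

-- merged: Cfsg.Agent.Mrg.Omega.Mix.OneCo
section

/-!
# A mixed pair with `W₁ = V₁`: `V₁V₂` is a Sylow 2-subgroup of `L₃(q)`

* `FIn.exists_co3` : coordinates `Co3` on `V₁V₂`;
* `MixedN.exists_co3` : `Co3` and `Ctx`;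
* `MixedN.rank_four` : for `q = 4` the sectional 2-rank of `G` is at most 4.
-/

set_option autoImplicit false
set_option linter.unusedSectionVars false

namespace Cfsg.Agent.Omega.Mix

open Subgroup Cfsg.Agent.Lib.SL2Mat Cfsg.Agent.Omega.BTwo Cfsg.Agent.Omega.CloseA
open Cfsg.Agent.Omega.NatPair (dt dt_smul dt_add exists_smul_of_dt exists_comb ap ap_smul ap_zero' ap_one' ap_mul
  ap_inv_ap ap_ap_inv ap_one)

universe u

variable {G : Type u} [Group G] {F₁ F₂ : Type*} [Field F₁] [Field F₂] {V₁ V₂ N₁ N₂ : Subgroup G} {M₁ : RMod F₁ V₁ N₁}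
  {M₂ : RMod F₂ V₂ N₂} {R : Subgroup G}

namespace FIn

variable {w₁ : Fin 2 → F₁} {w₂ : Fin 2 → F₂} (f : FIn M₁ M₂ R w₁ w₂) [Finite G] [Finite F₁] [Finite F₂] [CharP F₁ 2]
  [CharP F₂ 2]
include f

/-- an element of `W₂` with a given value on `a ∈ W₁ - R` -/
theorem exists_fm {a : G} (ha : a ∈ LL V₁ R R) (haR : a ∉ R) (c : F₁) : ∃ b ∈ LL V₂ R R, fm (kap M₁ w₁) a b = c := by
  have p := f.pai
  obtain ⟨b₀, hb₀, hne⟩ : ∃ b ∈ LL V₂ R R, fm (kap M₁ w₁) a b ≠ 0 := by
    by_contra hc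
    push Not at hc
    exact haR (p.nd a ha fun b hb => (p.fm_eq_zero ha (p.tst hb)).1 (hc b hb))
  obtain ⟨b, hb, h⟩ := p.lin_right f.lin₂ f.symm.W₂_ZZ (c * (fm (kap M₁ w₁) a b₀)⁻¹) hb₀
  exact ⟨b, hb, by rw [h a ha, mul_assoc, inv_mul_cancel₀ hne, mul_one]⟩

theorem ker_one' (h₁ : LL V₁ R R ≤ V₁) {a b : G} (ha : a ∈ LL V₁ R R) (hb : b ∈ LL V₂ R R) (hab : a * b = b * a)
    (hbR : b ∉ R) : a ∈ R := by
  by_contra haR
  apply hbR
  refine f.pai.nd' b hb fun a' ha' => ?_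
  exact comm_line M₁ f.ne₁ f.line₁ (f.W₂_ZZ hb) (one_mem _) (a := a)
    (by rw [cj_one]; exact h₁ ha) haR hab a' (by rw [cj_one]; exact h₁ ha')

/-- **coordinates on `V₁V₂`** -/
theorem exists_co3 (h₁ : LL V₁ R R ≤ V₁) (hsq₂ : ∀ u ∈ LL V₂ R R, u * u = 1) :
    ∃ x y z : G → F₁, Co3 (LL V₁ R R) (LL V₂ R R) R x y z := by
  have p := f.pai
  set κ := kap M₁ w₁ with hκ
  obtain ⟨a₀, ha₀, ha₀R⟩ : ∃ v ∈ LL V₁ R R, v ∉ R := by
    by_contra hcon
    push Not at hcon
    exact f.R_ne_W₁ (le_antisymm f.R_W₁ hcon)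
  obtain ⟨b₀, hb₀, hab⟩ := f.exists_fm ha₀ ha₀R 1
  have hb₀R : b₀ ∉ R := by
    intro h
    rw [p.R_right ha₀ h] at hab
    exact zero_ne_one hab
  -- one-dimensionality
  have h1d : ∀ u ∈ LL V₁ R R, ∀ v ∈ LL V₂ R R, fm κ u v = fm κ u b₀ * fm κ a₀ v := by
    intro u hu v hv
    obtain ⟨u', hu', h⟩ := f.lin₁ (fm κ u b₀) a₀ ha₀
    have h3 : fm κ (u * u'⁻¹) b₀ = 0 := by
      rw [p.mul_left hu (inv_mem hu') (p.tst hb₀), p.inv_left hu' (p.tst hb₀), h b₀ (f.W₂_ZZ hb₀), hab, mul_one,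
        add_neg_cancel]
    have h4 : u * u'⁻¹ ∈ LL V₁ R R := mul_mem hu (inv_mem hu')
    have h5 := f.ker_one' h₁ h4 hb₀ ((p.fm_eq_zero h4 (p.tst hb₀)).1 h3) hb₀R
    have h6 : fm κ (u * u'⁻¹) v = 0 := p.R_left h5 (p.tst hv)
    rw [p.mul_left hu (inv_mem hu') (p.tst hv), p.inv_left hu' (p.tst hv), h v (f.W₂_ZZ hv)] at h6
    linear_combination h6
  classical
  -- coordinates on `R`
  let z : G → F₁ := fun g => if h : ∃ c, κ c = g then h.choose else 0
  have hz : ∀ c, z (κ c) = c := by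
    intro c
    have h : ∃ c', κ c' = κ c := ⟨c, rfl⟩
    have h3 : z (κ c) = h.choose := dif_pos h
    rw [h3]
    exact p.κ_inj h.choose_spec
  refine ⟨fun u => fm κ u b₀, fun v => fm κ a₀ v, z, ?_⟩
  exact
    { sq₁ := fun u hu => M₁.sq (h₁ hu)
      sq₂ := hsq₂
      inf := fun u => ⟨fun hu => ⟨f.R_W₁ hu, f.symm.R_W₁ hu⟩, fun hu =>
        p.nd u hu.1 fun b hb => f.comm₂ u hu.2 b hb⟩
      x_mul := fun u hu v hv => p.mul_left hu hv (p.tst hb₀)
      x_surj := fun a => by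
        obtain ⟨u, hu, h⟩ := f.lin₁ a a₀ ha₀
        exact ⟨u, hu, by rw [h b₀ (f.W₂_ZZ hb₀), hab, mul_one]⟩
      x_ker := fun u hu => ⟨fun h => f.ker_one' h₁ hu hb₀ ((p.fm_eq_zero hu (p.tst hb₀)).1 h) hb₀R,
        fun h => p.R_left h (p.tst hb₀)⟩
      y_mul := fun u hu v hv => p.mul_right ha₀ (p.tst hu) (p.tst hv)
      y_surj := fun a => f.exists_fm ha₀ ha₀R a
      y_ker := fun u hu => ⟨fun h => by
          by_contra huR
          exact ha₀R (f.ker_one' h₁ ha₀ hu ((p.fm_eq_zero ha₀ (p.tst hu)).1 h) huR),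
        fun h => p.R_right ha₀ h⟩
      z_mul := fun u hu v hv => by
        obtain ⟨c, rfl⟩ := (p.κ_mem u).1 hu
        obtain ⟨d, rfl⟩ := (p.κ_mem v).1 hv
        rw [← p.κ_add, hz, hz, hz]
      z_surj := fun a => ⟨κ a, (p.κ_mem _).2 ⟨a, rfl⟩, hz a⟩
      z_inj := fun u hu h => by
        obtain ⟨c, rfl⟩ := (p.κ_mem u).1 hu
        rw [hz] at h
        rw [h, p.κ_zero]
      mem := p.cm
      com := fun u hu v hv => by
        rw [← p.spec hu (p.tst hv), hz]
        exact h1d u hu v hv }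

/-- elements of a 2-group trivial on `V₁ / R` -/
theorem faith_one (h₁ : LL V₁ R R ≤ V₁) {S : Subgroup G} (hS : IsPGroup 2 S) (hSN : S ≤ N₁)
    (hSR : S ≤ normalizer (R : Set G)) (hW : LL V₂ R R ≤ S) {s : G} (hs : s ∈ S)
    (h : ∀ a ∈ LL V₁ R R, s * a * s⁻¹ * a⁻¹ ∈ R) : ∃ a ∈ LL V₁ R R, ∃ b ∈ LL V₂ R R, s = b * a := by
  have p := f.pai
  set κ := kap M₁ w₁ with hκ
  obtain ⟨u, hu⟩ := exists_dt f.ne₁
  have hu0 : u ≠ 0 := ne_zero_of_dt hu
  have haW : M₁.e u ∈ LL V₁ R R := V_le_LL V₁ R (M₁.e_mem u)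
  have haR : M₁.e u ∉ R := by
    intro h3
    rw [f.line₁] at h3
    obtain ⟨c, hc⟩ := M₁.e_mem_line.1 h3
    rw [hc, dt_smul, dt_self, mul_zero] at hu
    exact hu rfl
  -- `b` with the same action on `a`
  obtain ⟨c, hc⟩ := (p.κ_mem _).1 (inv_mem (h _ haW))
  obtain ⟨b, hb, hbc⟩ := f.exists_fm haW haR c
  have hb' := p.spec haW (p.tst hb)
  rw [hbc, hc] at hb'
  set a := M₁.e u with ha
  set t := b⁻¹ * s with ht
  have htS : t ∈ S := mul_mem (inv_mem (hW hb)) hs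
  have hta : t * a * t⁻¹ = a := by
    have e1 : a * b * a⁻¹ * b⁻¹ = a * s * a⁻¹ * s⁻¹ := by
      rw [← hb']; group
    have e2 : b * a⁻¹ * b⁻¹ = s * a⁻¹ * s⁻¹ := by
      have := congrArg (fun z => a⁻¹ * z) e1
      calc b * a⁻¹ * b⁻¹ = a⁻¹ * (a * b * a⁻¹ * b⁻¹) := by group
        _ = a⁻¹ * (a * s * a⁻¹ * s⁻¹) := this
        _ = s * a⁻¹ * s⁻¹ := by group
    have e3 : b * a * b⁻¹ = s * a * s⁻¹ := by
      have := congrArg (fun z => z⁻¹) e2
      calc b * a * b⁻¹ = (b * a⁻¹ * b⁻¹)⁻¹ := by group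
        _ = (s * a⁻¹ * s⁻¹)⁻¹ := this
        _ = s * a * s⁻¹ := by group
    calc t * a * t⁻¹ = b⁻¹ * (s * a * s⁻¹) * b := by rw [ht]; group
      _ = b⁻¹ * (b * a * b⁻¹) * b := by rw [e3]
      _ = a := by group
  have htV : ∀ v ∈ LL V₁ R R, t * v * t⁻¹ * v⁻¹ ∈ R := by
    intro v hv
    have h3 := h v hv
    have hbR : b ∈ normalizer (R : Set G) := hSR (hW hb)
    have h4 := conj_inv_mem_of_normalizer hbR h3
    have h5 := p.cm v hv b⁻¹ (inv_mem hb)
    have e : t * v * t⁻¹ * v⁻¹ = b⁻¹ * (s * v * s⁻¹ * v⁻¹) * b * (v * b⁻¹ * v⁻¹ * b⁻¹⁻¹)⁻¹ := by rw [ht]; group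
    rw [e]
    exact mul_mem h4 (inv_mem h5)
  obtain ⟨σ, hσ⟩ := M₁.exists_semi (hSN htS)
  have hact : M₁.act t u = u := by
    apply M₁.e_inj
    rw [M₁.e_act (hSN htS)]
    exact hta
  have hσ1 : ∀ c, σ c = c := by
    intro c
    have h3 := htV _ (V_le_LL V₁ R (M₁.e_mem (c • u)))
    rw [← M₁.e_act (hSN htS), hσ, hact, ← M₁.e_sub, ← sub_smul, f.line₁] at h3
    obtain ⟨d, hd⟩ := M₁.e_mem_line.1 h3
    have h4 := congrArg (dt w₁) hd
    rw [dt_smul, dt_smul, dt_self, mul_zero] at h4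
    exact sub_eq_zero.1 ((mul_eq_zero.1 h4).resolve_right hu)
  -- the action on `R`
  obtain ⟨d, hd⟩ : ∃ d : F₁, M₁.act t w₁ = d • w₁ := by
    have h3 : M₁.e w₁ ∈ R := by
      rw [f.line₁]
      exact M₁.e_mem_line.2 ⟨1, (one_smul _ _).symm⟩
    have h4 := conj_mem_of_normalizer (hSR htS) h3
    rw [← M₁.e_act (hSN htS), f.line₁] at h4
    exact M₁.e_mem_line.1 h4
  have hpow : ∀ n : ℕ, ∀ z, t ^ n * κ z * (t ^ n)⁻¹ = κ (d ^ n * z) := by
    intro n
    induction n with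
    | zero =>
      intro z
      simp
    | succ n ih =>
      intro z
      have h3 : t * κ z * t⁻¹ = κ (d * z) := by
        show t * M₁.e (z • w₁) * t⁻¹ = M₁.e ((d * z) • w₁)
        rw [← M₁.e_act (hSN htS), hσ, hσ1, hd, smul_smul, mul_comm]
      calc t ^ (n + 1) * κ z * (t ^ (n + 1))⁻¹ = t ^ n * (t * κ z * t⁻¹) * (t ^ n)⁻¹ := by
            rw [pow_succ]; group
        _ = κ (d ^ (n + 1) * z) := by rw [h3, ih, ← mul_assoc, pow_succ]
  have hd1 : d = 1 := by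
    obtain ⟨k, hk⟩ := hS ⟨t, htS⟩
    have hk' : t ^ 2 ^ k = 1 := congrArg Subtype.val hk
    have h3 := hpow (2 ^ k) 1
    rw [hk', one_mul, inv_one, mul_one, mul_one] at h3
    exact NatPair.eq_one_of_pow (p.κ_inj h3).symm
  have htc : t ∈ centralizer (LL V₁ R R : Set G) := by
    rw [mem_centralizer_iff]
    intro v hv
    obtain ⟨x, rfl⟩ := (M₁.mem_iff v).1 (h₁ hv)
    obtain ⟨α, β, rfl⟩ := exists_comb hu x
    have h3 : t * M₁.e (α • w₁ + β • u) * t⁻¹ = M₁.e (α • w₁ + β • u) := by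
      rw [← M₁.e_act (hSN htS), M₁.act_add (hSN htS), hσ, hσ, hσ1, hσ1, hact, hd, hd1, one_smul]
    exact (mul_inv_eq_iff_eq_mul.1 h3).symm
  refine ⟨t, f.cen_W₁ htc, b, hb, ?_⟩
  rw [ht, mul_inv_cancel_left]

end FIn

namespace MixedN

variable (m : MixedN M₁ M₂ R) [Finite G] [Finite F₁] [Finite F₂] [CharP F₁ 2] [CharP F₂ 2]
include m

/-- **`V₁V₂` is a Sylow 2-subgroup of `L₃(q)`, normal in `S`** -/
theorem exists_co3 (h₁ : LL V₁ R R ≤ V₁) : ∃ S : Sylow 2 G, (S : Subgroup G) ≤ N₁ ∧ (S : Subgroup G) ≤ N₂ ∧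
    (S : Subgroup G) ≤ normalizer (R : Set G) ∧ (∃ x y z : G → F₁, Co3 (LL V₁ R R) (LL V₂ R R) R x y z) ∧
    Ctx (S : Subgroup G) (LL V₁ R R ⊔ LL V₂ R R) R (LL V₁ R R) (LL V₂ R R) := by
  obtain ⟨w₁, w₂, f⟩ := m.exists_fin
  obtain ⟨S, hS1, hS2, hS3, -⟩ := m.sylow
  have h₂ := f.le_of_le h₁
  have hQS := QQ_le_sylow hS3
  have hW₁ : LL V₁ R R ≤ (S : Subgroup G) := m.C_le_QQ.trans hQS
  have hW₂ : LL V₂ R R ≤ (S : Subgroup G) := m.symm.C_le_QQ.trans hQS
  have p := f.pai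
  have hsup : ∀ g, g ∈ LL V₁ R R ⊔ LL V₂ R R ↔ ∃ a ∈ LL V₁ R R, ∃ b ∈ LL V₂ R R, g = a * b := by
    intro g
    constructor
    · intro hg
      let X : Subgroup G :=
        { carrier := {g | ∃ x ∈ LL V₁ R R, ∃ y ∈ LL V₂ R R, g = x * y}
          one_mem' := ⟨1, one_mem _, 1, one_mem _, (mul_one 1).symm⟩
          mul_mem' := by
            rintro _ _ ⟨x, hx, y, hy, rfl⟩ ⟨x', hx', y', hy', rfl⟩
            refine ⟨x * x', mul_mem hx hx', x'⁻¹ * y * x' * y', mul_mem ?_ hy', by group⟩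
            exact conj_inv_mem_of_normalizer (f.W₁_norm₂ hx') hy
          inv_mem' := by
            rintro _ ⟨x, hx, y, hy, rfl⟩
            exact ⟨x⁻¹, inv_mem hx, x * y⁻¹ * x⁻¹, conj_mem_of_normalizer (f.W₁_norm₂ hx) (inv_mem hy), by group⟩ }
      have h3 : LL V₁ R R ⊔ LL V₂ R R ≤ X := sup_le (fun x hx => ⟨x, hx, 1, one_mem _, (mul_one x).symm⟩)
        (fun y hy => ⟨1, one_mem _, y, hy, (one_mul y).symm⟩)
      exact h3 hg
    · rintro ⟨a, ha, b, hb, rfl⟩
      exact mul_mem (mem_sup_left ha) (mem_sup_right hb)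
  have hsq₁ := m.facts.C_sq
  have hsq₂ := m.symm.facts.C_sq
  refine ⟨S, hS1, hS2, hS3, f.exists_co3 h₁ hsq₂, ?_⟩
  exact
    { le₁ := hW₁
      le₂ := hW₂
      n₁ := fun s hs a ha => conj_mem_of_normalizer (normalizer_le_LL V₁ R R (hS3 hs)) ha
      n₂ := fun s hs a ha => conj_mem_of_normalizer (normalizer_le_LL V₂ R R (hS3 hs)) ha
      sq₁ := hsq₁
      sq₂ := hsq₂
      inf := fun u => ⟨fun hu => ⟨f.R_W₁ hu, f.symm.R_W₁ hu⟩, fun hu =>
        p.nd u hu.1 fun b hb => f.comm₂ u hu.2 b hb⟩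
      sup := hsup
      faith₁ := fun s hs h => by
        obtain ⟨a, ha, b, hb, rfl⟩ := f.faith_one h₁ S.isPGroup' hS1 hS3 hW₂ hs fun a ha => by
          rw [inv_eq_of_mul_eq_one_right (hsq₁ a ha)]
          exact h a ha
        exact mul_mem (mem_sup_right hb) (mem_sup_left ha)
      faith₂ := fun s hs h => by
        obtain ⟨a, ha, b, hb, rfl⟩ := f.symm.faith_one h₂ S.isPGroup' hS2 hS3 hW₁ hs fun a ha => by
          rw [inv_eq_of_mul_eq_one_right (hsq₂ a ha)]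
          exact h a ha
        exact mul_mem (mem_sup_left hb) (mem_sup_right ha) }

/-- **`q = 4`, `W₁ = V₁`** -/
theorem rank_four (h₁ : LL V₁ R R ≤ V₁) (hF : Nat.card F₁ = 4) : Cfsg.SectionalPRankLE 2 4 G := by
  obtain ⟨S, -, -, -, ⟨x, y, z, h⟩, c⟩ := m.exists_co3 h₁
  exact Co3.rank_four S h c hF

end MixedN

end Cfsg.Agent.Omega.Mix

end

-- merged: Cfsg.Agent.Mrg.Omega.Node.LeafBRank
section

/-!
# `LeafB.RankFour` is proved (`MixedN.rank_four`, Omega/Mix/OneCo)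

`leafB` : leaf B of case FF from the theorem on weakly closed TI-subgroups and the landed rank results.
-/

set_option autoImplicit false

namespace Cfsg.Agent.Omega.Node.LeafB

open Cfsg Cfsg.Agent.Omega.Frame Cfsg.Agent.Omega.Mix

universe u

theorem rankFour : RankFour.{u} := by
  intro G _ _ F₁ F₂ _ _ _ _ _ _ V₁ V₂ N₁ N₂ M₁ M₂ R m hF h₁
  exact m.rank_four h₁ hF

/-- **LeafB**, every input but the TI theorem and the two listed rank theorems is proved. -/
theorem leafB {K : Cls.{u}} (hTI : TIMain.{u}) (h59 : Exits.St1759.{u}) (h61 : Exits.St1761.{u}) : FrameFF.LeafB K :=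
  leafB_of hTI h59 h61 rankFour

end Cfsg.Agent.Omega.Node.LeafB

end

-- merged: Cfsg.Agent.Mrg.Omega.Node.LeafA4End
section

/-!
# The leaf II.a, `q ≥ 4`, is closed (assembler helper978; compiled by helper912)

`leafA4_of_lieBNP` : `LeafA4 K` from S1143, S1144 and `LieBNP K`.  `leafA4` : `LeafA4 K` from S1143, S1144.
-/

set_option autoImplicit false

namespace Cfsg.Agent.Omega.IIa4

open Cfsg.Agent.Omega.Frame Cfsg.Agent.Omega.FrameFF Cfsg.Agent.Omega.Lie.End

universe u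

theorem leafA4_of_lieBNP {K : Cls.{u}} (h43 : Exits.St1143.{u}) (h44 : Exits.St1144.{u})
    (hbn : LieBNP K) : LeafA4 K :=
  leafA4_main h43 h44 (Lie.KRowsPlug.kRows Lie.OutT.out) (sep_of kSideX) hbn

/-- **The leaf II.a, `q ≥ 4`** -/
theorem leafA4 {K : Cls.{u}} (h43 : Exits.St1143.{u}) (h44 : Exits.St1144.{u}) : LeafA4 K :=
  leafA4_of_lieBNP h43 h44 lieBNP

end Cfsg.Agent.Omega.IIa4

end

-- merged: Cfsg.Agent.Mrg.Omega.IIa2.Main
section

/-!
# Leaf II.a, `q = 2` (MASTER REDUCTION v5.2)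

* `Ent.kill`: `Ω₁(Z(O₂(C(z)))) = ⟨z⟩` (`FFTwoA.Kill.kill`);
* `exists_sympl`: a mutual pair `V_P`, `V_P^x` with `|V_P| = 4` gives an involution `z` with `F*(C_G(z))` of
  symplectic type;
* `known`, `leafA2`: `FrameExtra.NodeSympl K` implies `FrameFF.LeafA2 K`.
-/

set_option autoImplicit false

namespace Cfsg.Agent.Omega.IIa2

open Subgroup Cfsg Cfsg.Agent.ZN Cfsg.Agent.Omega.Frame Cfsg.Agent.Omega.Exits

universe u

theorem Ent.kill {G : Type u} [Group G] [Finite G] {S : Sylow 2 G} {z a : G} (hG : IsCharacteristicTwoType G)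
    (h : Ent S z a) : ∀ d, FFTwoA.Main.Dp Oc z d → d * d = 1 → d = 1 ∨ d = z :=
  FFTwoA.Kill.kill h.cfg S h.le h.hZ (fun _ hv hv1 _ hx hq => hch hG hv hv1 hx hq) h.hna

/-- A mutual pair `V_P`, `V_P^x` with `|V_P| = 4`: `F*(C_G(z))` is of symplectic type for some involution `z`. -/
theorem exists_sympl {G : Type u} [Group G] [Finite G] (hG : Ctx G) (S : Sylow 2 G) {P : Subgroup G} {x : G}
    (hm : Mutual (S : Subgroup G) P P x) (h4 : Nat.card (zl (S : Subgroup G) P) = 4) :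
    ∃ z : G, orderOf z = 2 ∧ (S : Subgroup G) ≤ centralizer ({z} : Set G) ∧
      IsOfSymplecticType ↥(generalizedFittingSubgroup ↥(centralizer ({z} : Set G))) := by
  obtain ⟨z, a, h⟩ := exists_ent hG.char2 S hm h4
  exact ⟨z, h.orderOf_z, h.le, h.sympl hG (h.kill hG.char2)⟩

variable {K : Cls.{u}}

/-- **II.a, `q = 2`**, without further hypotheses on the other members of `P*(S)`. -/
theorem known (hX : FrameExtra.NodeSympl K) {G : Type u} [Group G] [Finite G] (hG : Ctx G) (hK : K G)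
    (S : Sylow 2 G) {P : Subgroup G} {x : G} (hm : Mutual (S : Subgroup G) P P x)
    (h4 : Nat.card (zl (S : Subgroup G) P) = 4) : IsKnownSimple' G := by
  obtain ⟨z, hz, -, h⟩ := exists_sympl hG S hm h4
  exact hX G hG hK z hz h

/-- **Leaf II.a, `q = 2`.** -/
theorem leafA2 (hX : FrameExtra.NodeSympl K) : FrameFF.LeafA2 K :=
  fun _ _ _ hG hK S _ _ _ _ _ hm h4 => known hX hG hK S hm.pair h4

end Cfsg.Agent.Omega.IIa2

end

-- merged: Cfsg.Agent.Mrg.Omega.OpenTree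
section

/-!
# OMEGA: the open inputs of the classification

`Open K` = the Props which are still open, relative to a class `K` of groups, every landed theorem being plugged;
`Open.evenLeaves : Main.EvenLeaves K`; `classification` : literal S0000.
`Landed` (`Landed.lean`, proved in `LandedAll.lean`) are landed theorems with a large import closure.
-/

set_option autoImplicit false

namespace Cfsg.Agent.Omega.OpenTree

open Cfsg Cfsg.Agent.Omega.Frame
open Cfsg.Agent.Omega.Landed (Landed)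

universe u

/-! ### `F*(C_G(z))` of symplectic type: EH3 (assembler: helper807) -/

/-- **`F*(C_G(z))` of symplectic type** (assembler: helper807). -/
theorem sympl (K : Cls.{u}) (L : Landed.{u}) : FrameExtra.NodeSympl K :=
  FrameExtra.nodeSympl L.s1758 (FrameExtra.nodeExtra Node.LeafOne.leafOne L.lib.s1759 L.lib.s1761 L.lib.s1762
    L.lib.s1763 (Node.WC.leafWC K) (EH3.Final.leaf K))

/-! ### N1 (assembler: helper406) -/

/-- **(BT)** (assemblers: helper406, helper527). -/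
theorem bt : NO1.BT.{u} :=
  NO1.bt_of FFBr.ffthmM NO1.NatA.natOne NO1.natMany NO1.Sym.symAll NO1.btNot

/-- **N1.** -/
theorem n1 {K : Cls.{u}} (L : Landed.{u}) (hS : FrameExtra.NodeSympl K) : FrameLE.NodeN1 K :=
  NO1.nodeN1_of hS bt NO1.endMinus2 NOne.AG.PlusThm.endPlus2 NOne.AG.End.endNat4
    (fun h => NO1.EndQ.endMinusQ_of L.benderAll L.lib.s1144 (NO1.AllMinus.allMinus h)
      (NO1.EndQ.endOne L.benderAll L.lib.s1144) NO1.EndQ.endBig)
    (fun h => NO1.EndP.endPlusQ_of_bt h NO1.AllMinus.coreMinus)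

/-! ### Case FF -/

/-- The FF theorem gives the types of all members of mutual pairs. -/
theorem typedStep : FrameMulti.TypedStep.{u} := by
  intro G _ _ hG S P₁ P₂ x hm
  obtain ⟨⟨h1, h2⟩, ⟨h3, h4⟩, -⟩ := FFThm.of_mutual FFBr.ffthm hG.char2 S hm
  exact ⟨⟨h1, h2⟩, ⟨h3, h4⟩⟩

/-- II.a, `q = 2`, from a mutual pair `V_P`, `V_P^g`. -/
theorem knownA2 {K : Cls.{u}} (hS : FrameExtra.NodeSympl K) : S5.Plug.KnownA2 K :=
  fun _ _ _ hG hK S _ _ hm h4 => IIa2.known hS hG hK S hm h4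

/-- (not used any more in the tree) -/
theorem nodeN2 {K : Cls.{u}} (hS : FrameExtra.NodeSympl K) (h2 : NO3S.Two K) : S5.Main.NodeN2 K :=
  S5.Main.nodeN2 (S5.Plug.nodeN2a_of (knownA2 hS)) (S5.Plug.nodeN2b_of h2)

/-! ### The tree -/

/-- **The open inputs of the even half, relative to `K`.** -/
structure Open (K : Cls.{u}) : Prop where
  /-- NO-3S (assembler: helper172) -/
  no3s : NO3S.OpenL K
  /-- NO-3L, box R (assemblers: helper597, helper858) -/
  no3l : Node.NO3LOpen.OpenR K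

theorem Open.evenLeaves {K : Cls.{u}} (L : Landed.{u}) (T : Open K) : Main.EvenLeaves K :=
  have hS : FrameExtra.NodeSympl K := sympl K L
  have LL : NO3S.Landed.{u} := NO3S.landed_of L
  { bender := L.lib.bender
    one := SQ1.NodeI.nodeI.toK
    n1 := n1 L hS
    multi := FrameMulti.leafMulti_of typedStep (OpenD.leafWr K) (OpenD.leafSymWr K) (S5.NatZero.leafC K) (OpenD.leafF4 K)
    h1 := OpenD.leafH1 L.lib.s1740
    b := Node.LeafB.leafB L.ti L.lib.s1759 L.lib.s1761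
    norm := II0.Norm.normStep K
    a2 := IIa2.leafA2 hS
    a4 := IIa4.leafA4 L.lib.s1143 L.lib.s1144
    no3s := T.no3s.node LL
    no3l := T.no3l.node L }

/-- **The classification from its open inputs and the odd half** (literal S0000). -/
theorem classification (L : Landed.{u}) (T : Open All.{u}) (odd : Assembly.OddLit.{u})
    (G : Type u) [Group G] [Finite G] [IsSimpleGroup G] : IsKnownSimple' G :=
  Main.Leaves.classification { toEvenLeaves := T.evenLeaves L, odd := odd, k4 := L.k4, s1738 := L.s1738 } G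

end Cfsg.Agent.Omega.OpenTree

end
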