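import Cfsg.Agent.Mrg.Omega.EK3.QL.Fin
import Cfsg.Agent.Mrg.Omega.NO3S.CaseLW.LamQ.ActNT
import Cfsg.Agent.Mrg.Omega.NO3S.CaseLW.HoQOf
import Cfsg.Agent.Mrg.Omega.NO3S.CaseLW.QWa
import Cfsg.Agent.Mrg.Omega.NO3S.MFive.TSix
import Cfsg.Agent.Mrg.Omega.CaseLQ.PsiBg
import Cfsg.Agent.Mrg.Omega.Node.ELXUni
import Cfsg.Agent.MinSimple.LemXPerm
import Cfsg.Agent.Mrg.Omega.NO3S.Fld.FourBase
import Cfsg.Agent.Mrg.Omega.CaseLQ.OneY
import Cfsg.Agent.Mrg.Omega.CaseLQ.Inst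
import Cfsg.Agent.Mrg.Omega.Node.NoWFiveSel
import Cfsg.Agent.Mrg.Omega.NO3S.LightB.Facts
import Cfsg.Agent.Mrg.Omega.CaseLQ.InstTwo
import Cfsg.Agent.Mrg.Omega.CaseLQ.Crd
import Cfsg.Agent.Mrg.Omega.NO3S.WY.Tor.LitS
import Cfsg.Agent.Mrg.Omega.NO3S.Sym.LineFive
import Cfsg.Agent.Mrg.Omega.Node.NoWFivePlug
import Cfsg.Agent.Mrg.Omega.NO3S.WY.Tor.SFiveK
import Cfsg.Agent.Mrg.Omega.NO3S.WY.Tor.CxOf
import Cfsg.Agent.Mrg.Omega.NO3S.WY.Tor.NatOne
import Cfsg.Agent.Mrg.Omega.NO3S.Sym.Light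
import Cfsg.Agent.Mrg.Omega.TTn.BOne
import Cfsg.Agent.Mrg.Omega.Node.NO3SOpen
import Cfsg.Agent.Mrg.Omega.OpenTree
import Cfsg.Agent.Mrg.Omega.LandedAll
import Cfsg.Agent.OddHalf.S1765Plug

-- merged: Cfsg.Agent.Mrg.Omega.Node.OffNOf
section

/-!
# THEOREM L(q) over `MulL` (`OffNK K`) from the family `HFam` of relative QW

* `offN_of_fam : HFam h → OffN h`;
* `HFamK K`, **`offNK_of : HFamK K → OffNK K`**.
-/

set_option autoImplicit false

namespace Cfsg.Agent.Omega.Node.OffNOf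

open Subgroup Cfsg Cfsg.Agent.ZN.ChoiceBase
open Cfsg.Agent.ZN (jj zj bau zc zl o2)
open Cfsg.Agent.Omega.Frame (Cls)
open Cfsg.Agent.Omega.Node.MulX
open Cfsg.Agent.Omega.EK3.QL (OffN OffNK)
open Cfsg.Agent.Omega.NO3S.CaseLW.QWrelPlug (HFam best_gen)

universe u

theorem offN_of_fam {G : Type u} [Group G] [Finite G] {S : Sylow 2 G} {P B ZJ : Subgroup G} {k : ℕ}
    {L W Z C A : Fin k → Subgroup G} {q : ℕ} (h : MulL S P B ZJ L W Z C A q) (hf : HFam h) : OffN h := by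
  intro D _ hm T R hT hB hP hch hR hn hl hK
  refine best_gen h hf hT ?_ hP hch (fun l => ?_) hl hK hn
  · rw [h.eB, h.eZ]
    exact hB
  · obtain ⟨z, hz, hz1, hzD⟩ := hm l
    exact ⟨z, hz, hz1, hR.trans (centralizer_le (Set.singleton_subset_iff.2 hzD))⟩

/-- the family, `q ≥ 4` -/
def HFamK (K : Cls.{u}) : Prop :=
  ∀ (G : Type u) [Group G] [Finite G], K G → ∀ (S : Sylow 2 G) (P B ZJ : Subgroup G) (k : ℕ)
    (L W Z C A : Fin k → Subgroup G) (q : ℕ), 2 ≤ k → 4 ≤ q → ∀ h : MulL S P B ZJ L W Z C A q, HFam h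

theorem offNK_of {K : Cls.{u}} (hf : HFamK K) : OffNK K :=
  fun G _ _ hG S P B ZJ k L W Z C A q hk hq h => offN_of_fam h (hf G hG S P B ZJ k L W Z C A q hk hq h)

end Cfsg.Agent.Omega.Node.OffNOf

end

-- merged: Cfsg.Agent.Mrg.Omega.NO3S.CaseLW.QWHz
section

/-!
# RELATIVE QW, (1)-(3) (helper291, OMEGA #26899; helper993 #26539), with `H = C_G(e)`, `e ∈ Z_J` of support `{m ≠ l}`

`MulL S P B ZJ L W Z C A q`, `WQ S P T Y`, `B ≤ T`; `Y` centralises `e ∈ Z_J`, `e ∈ C l`, `e ∉ C i` for `i ≠ l`, and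
`1 ≠ z ∈ Z l`; `r = e z`, `N = ⟨r^H⟩`, `H = C_G(e) ≥ C_G(Z_J), L_l, Y`.

* `exists_syl` : (1) a Sylow 2-subgroup of `H` centralises `z`;
* `le_B` : (2) `N ≤ B`;
* `cent` : (3) under (neg) `U = ⟨V_P^Y⟩` centralises `N`; `U_le_o2_H` : `U ≤ O₂(H)`;
* **`hFam : MLK → HFam h`**.
-/

set_option autoImplicit false
set_option linter.unusedSectionVars false
set_option linter.dupNamespace false

namespace Cfsg.Agent.Omega.NO3S.CaseLW.QWHz

open Subgroup Cfsg Cfsg.Agent.ZN.ChoiceBase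
open Cfsg.Agent.ZN (jj zj bau zc zl o2 le_centralizer_zc le_normalizer_zl)
open Cfsg.Agent.ZN.ChoiceSit (Syl exists_syl syl_conj syl_not_dvd o2_le_syl)
open Cfsg.Agent.Omega.MinPar
open Cfsg.Agent.Omega.FFThm (ElemM OffM NoOverM relIndex_le_iff)
open Cfsg.Agent.Omega.NO1.BestOff (Best)
open Cfsg.Agent.Omega.NO3b.EZero (cl cl_le le_cl cj_le_cl le_normalizer_cl)
open Cfsg.Agent.Omega.OM.WeakCl (WC)
open Cfsg.Agent.Omega.OM.Lev.Uni (FrL)
open Cfsg.Agent.Omega.NO3S.Level (nxt Lev BO CaseL)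
open Cfsg.Agent.Omega.NO3S.WY (WQ BB)
open Cfsg.Agent.Omega.NO3S.CaseLW.QWc (Neg Ex)
open Cfsg.Agent.Omega.ML.Final (MLK)
open Cfsg.Agent.Omega.ML.GMod (ZD)
open Cfsg.Agent.Omega.Node.MulX (MulL)
open Cfsg.Agent.Omega.HOne.TvHSide (red_of)
open Cfsg.Agent.Omega.OM.SwapT.QuietL (exists_norm_B)
open Cfsg.Agent.Omega.NO3S.CaseLW.QWrelPlug (HFam others)

universe u

variable {G : Type u} [Group G] [Finite G]

/-! ### `⟨r^H⟩` -/

/-- `⟨r^H⟩` -/
def NN (H : Subgroup G) (r : G) : Subgroup G := closure {x | ∃ g ∈ H, ∃ z ∈ ({r} : Set G), g * z * g⁻¹ = x}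

theorem mem_NN {H : Subgroup G} {r g : G} (hg : g ∈ H) : g * r * g⁻¹ ∈ NN H r :=
  subset_closure ⟨g, hg, r, rfl, rfl⟩

theorem r_mem {H : Subgroup G} {r : G} : r ∈ NN H r := by
  have h1 := mem_NN (r := r) (one_mem H)
  simpa using h1

theorem NN_le {H K : Subgroup G} {r : G} (h : ∀ g ∈ H, g * r * g⁻¹ ∈ K) : NN H r ≤ K := by
  rw [NN, closure_le]
  rintro _ ⟨g, hg, _, rfl, rfl⟩
  exact h g hg

theorem norm_NN {H : Subgroup G} {r : G} : H ≤ normalizer (NN H r : Set G) := by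
  intro x hx
  refine mem_normalizer_of_cj_le (cj_le_iff.2 (NN_le fun g hg => ?_))
  rw [mem_cj, inv_inv]
  have e : x * (g * r * g⁻¹) * x⁻¹ = x * g * r * (x * g)⁻¹ := by group
  rw [e]
  exact mem_NN (mul_mem hx hg)

/-! ### The situation -/

variable {S : Sylow 2 G} {P B ZJ : Subgroup G} {k : ℕ} {L W Z C A : Fin k → Subgroup G} {q : ℕ}
  {T Y : Subgroup G} {e z : G} {l : Fin k}

/-- the situation -/
structure Sit (S : Sylow 2 G) (P ZJ : Subgroup G) {k : ℕ} (Z C : Fin k → Subgroup G) (Y : Subgroup G) (e z : G)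
    (l : Fin k) : Prop where
  he : e ∈ ZJ
  el : e ∈ C l
  ef : ∀ i, i ≠ l → e ∉ C i
  Ye : Y ≤ centralizer ({e} : Set G)
  hz : z ∈ Z l
  z1 : z ≠ 1
  Yz : Y ≤ centralizer ({z} : Set G)

section sit

variable (h : MulL S P B ZJ L W Z C A q) (s : Sit S P ZJ Z C Y e z l)
include h s

theorem e_ne : e ≠ 1 := by
  intro h1
  obtain ⟨i, hi⟩ := h.bg.two l
  exact s.ef i hi (by rw [h1]; exact one_mem _)

theorem sqV {v : G} (hv : v ∈ zl (S : Subgroup G) P) : v ^ 2 = 1 := h.bg.fr.Vsq hv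

theorem LH : L l ≤ centralizer ({e} : Set G) := fun x hx =>
  mem_centralizer_singleton_iff.2 (h.fr.LC l x hx e s.he s.el)

theorem BH : B ≤ centralizer ({e} : Set G) := fun b hb =>
  mem_centralizer_singleton_iff.2 (((h.fr.mem_ZJ e).1 s.he).2 b hb)

theorem VH : zl (S : Subgroup G) P ≤ centralizer ({e} : Set G) := fun _ hv =>
  mem_centralizer_singleton_iff.2 (h.fr.Vc hv (h.fr.ZJV s.he))

theorem r_ZJ : e * z ∈ ZJ := mul_mem s.he (h.fr.Z_le l s.hz)

theorem r_full (i : Fin k) : e * z ∉ C i := by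
  intro h1
  by_cases hi : i = l
  · subst hi
    exact QWoFr.not_mem_C h.fr s.hz s.z1 ((mul_mem_cancel_left s.el).1 h1)
  · exact s.ef i hi ((mul_mem_cancel_right (QWoFr.Z_C h.fr hi s.hz)).1 h1)

/-- **(1)** -/
theorem exists_T : ∃ T₁ : Subgroup G, Syl T₁ (centralizer ({e} : Set G)) ∧ B ≤ T₁ ∧
    ∃ T₂ : Subgroup G, Syl T₂ (centralizer ({e} : Set G)) ∧ T₂ ≤ centralizer ({e * z} : Set G) := by
  have wc := OM.UniPlus.WC.weakNormal h.bg.wc
  obtain ⟨T₁, hT, hBT⟩ := exists_syl h.bg.bau_two (BH h s)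
  refine ⟨T₁, hT, hBT, ?_⟩
  have hTB := wc T₁ hT.2.1 hBT
  have hTZ : ∀ t ∈ T₁, cj t (Z l) = Z l := by
    intro t ht
    obtain ⟨-, hp⟩ := h.fr.norm_of (hTB ht) (h.norm_le (hTB ht))
    obtain ⟨i, hi, -⟩ := hp l
    have h1 : t * e * t⁻¹ ∈ C i := QWoFr.supp_cj h.fr (fun i => (hp i).imp fun m hm => hm.1) hi s.he s.el
    have h2 : t * e * t⁻¹ = e := mul_inv_eq_iff_eq_mul.2 (mem_centralizer_singleton_iff.1 (hT.1 ht))
    rw [h2] at h1
    by_cases hij : i = l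
    · rw [hi, hij]
    · exact absurd h1 (s.ef i hij)
  obtain ⟨d, hd, hd1, hdT⟩ := QWoFr.exists_fix hT.2.1 (fun t ht n hn => by
    rw [← hTZ t ht]; exact ⟨n, hn, rfl⟩) (QWoFr.two_dvd h.fr l)
  obtain ⟨g, hg, hgd⟩ := QWoFr.Z_conj h.fr hd s.hz hd1 s.z1
  have hgH := LH h s hg
  have h3 : Syl (cj g T₁) (cj g (centralizer ({e} : Set G))) := NO1.JMin.syl_cj hT g
  rw [cj_eq_of_mem_normalizer (le_normalizer hgH)] at h3
  refine ⟨_, h3, ?_⟩
  rintro _ ⟨t, ht, rfl⟩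
  change g * t * g⁻¹ ∈ _
  rw [mem_centralizer_singleton_iff]
  have h4 : t * d = d * t := mul_inv_eq_iff_eq_mul.1 (hdT t ht)
  have h5 : (g * t * g⁻¹) * z = z * (g * t * g⁻¹) := by
    rw [← hgd]
    calc g * t * g⁻¹ * (g * d * g⁻¹) = g * (t * d) * g⁻¹ := by group
      _ = g * (d * t) * g⁻¹ := by rw [h4]
      _ = _ := by group
  have h6 : (g * t * g⁻¹) * e = e * (g * t * g⁻¹) := mem_centralizer_singleton_iff.1 (h3.1 ⟨t, ht, rfl⟩)
  have c1 : Commute (g * t * g⁻¹) e := h6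
  have c2 : Commute (g * t * g⁻¹) z := h5
  exact (c1.mul_right c2).eq

/-- `N ≤ Ω₁(Z(O₂(H)))` -/
theorem NN_le_zc : NN (centralizer ({e} : Set G)) (e * z) ≤ zc (o2 (centralizer ({e} : Set G))) := by
  have hG := h.cl.ctx.char2
  obtain ⟨-, -, -, T₂, hT₂, hc⟩ := exists_T h s
  have hrV := h.fr.ZJV (r_ZJ h s)
  have h0 : e * z ∈ zc (o2 (centralizer ({e} : Set G))) := by
    have h1 : e * z ∈ o2 (centralizer ({e} : Set G)) := by
      refine MinSimple.Basic.char2_centralizer hG (sqV h s (h.fr.ZJV s.he)) (e_ne h s)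
        (mem_inf.2 ⟨VH h s hrV, mem_centralizer_iff.2 fun x hx => ?_⟩)
      exact mem_centralizer_singleton_iff.1 (hc (o2_le_syl hT₂ hx))
    refine mem_zc.2 ⟨h1, sqV h s hrV, fun x hx => ?_⟩
    exact mem_centralizer_singleton_iff.1 (hc (o2_le_syl hT₂ hx))
  have hn : centralizer ({e} : Set G) ≤ normalizer (zc (o2 (centralizer ({e} : Set G))) : Set G) :=
    (ZN.le_normalizer_o2 _).trans (NO3S.Level.normalizer_le_zc _)
  exact NN_le fun g hg => (mem_normalizer_iff.1 (hn hg) _).1 h0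

theorem N_le_o2 : NN (centralizer ({e} : Set G)) (e * z) ≤ o2 (centralizer ({e} : Set G)) :=
  (NN_le_zc h s).trans (ZN.zc_le _)

theorem N_sq {v : G} (hv : v ∈ NN (centralizer ({e} : Set G)) (e * z)) : v * v = 1 := by
  have h1 := (mem_zc.1 (NN_le_zc h s hv)).2.1
  rwa [sq] at h1

theorem N_comm {v w : G} (hv : v ∈ NN (centralizer ({e} : Set G)) (e * z))
    (hw : w ∈ NN (centralizer ({e} : Set G)) (e * z)) : v * w = w * v :=
  (mem_zc.1 (NN_le_zc h s hw)).2.2 v (N_le_o2 h s hv)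

/-- `O₂(C_G(r)) ∩ H ≤ O₂(C_H(r))` -/
theorem le_o2_cap {U : Subgroup G} (hU : U ≤ o2 (centralizer ({e * z} : Set G)))
    (hUH : U ≤ centralizer ({e} : Set G)) :
    U ≤ o2 (centralizer ({e} : Set G) ⊓ centralizer (zpowers (e * z) : Set G)) := by
  have e1 : centralizer (zpowers (e * z) : Set G) = centralizer ({e * z} : Set G) := by
    rw [zpowers_eq_closure, centralizer_closure]
  rw [e1]
  exact fun x hx => NOne.Flat.o2_inf_le_o2 inf_le_right ⟨hU hx, hUH hx, ZN.o2_le _ (hU hx)⟩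

/-- (ML) -/
theorem ml_ind (ml : MLK.{u, u}) {U : Subgroup G} (hU : U ≤ o2 (centralizer ({e * z} : Set G)))
    (hUH : U ≤ centralizer ({e} : Set G)) (hsq : ∀ a ∈ U, a * a = 1) :
    (centralizer (NN (centralizer ({e} : Set G)) (e * z) : Set G)).relIndex U ≤
      (centralizer (U : Set G)).relIndex (NN (centralizer ({e} : Set G)) (e * z)) := by
  obtain ⟨-, -, -, T₂, hT₂, hc⟩ := exists_T h s
  have e1 : centralizer (zpowers (e * z) : Set G) = centralizer ({e * z} : Set G) := by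
    rw [zpowers_eq_closure, centralizer_closure]
  have D : ZD (centralizer ({e} : Set G)) (NN (centralizer ({e} : Set G)) (e * z)) (zpowers (e * z)) T₂ U :=
    { nV := norm_NN
      sq := fun v hv => N_sq h s hv
      ZV := by rw [zpowers_le]; exact r_mem
      gen := fun X h1 h2 => NN_le fun g hg => (mem_normalizer_iff.1 (h2 hg) _).1 (h1 (mem_zpowers _))
      TL := hT₂.1
      two := hT₂.2.1
      odd := syl_not_dvd hT₂
      TZ := by rw [e1]; exact hc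
      AO := le_o2_cap h s hU hUH
      Asq := fun a ha => by rw [hsq a ha]; exact one_mem _ }
  exact D.gml ml (TwoFar.isKGroup_centralizer_pt h.cl.hypN.toHyp (e_ne h s))

/-- **(2)** : `N ≤ B` -/
theorem le_B (ml : MLK.{u, u}) : NN (centralizer ({e} : Set G)) (e * z) ≤ B := by
  set N : Subgroup G := NN (centralizer ({e} : Set G)) (e * z) with hN
  obtain ⟨T₁, hT₁, hBT, -⟩ := exists_T h s
  have eBT : B = OM.SwapT.BT (S : Subgroup G) (o2 P) := by rw [h.eB, h.eZ]; rfl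
  obtain ⟨g, hg, hle, -⟩ := exists_norm_B h.cl.wc h.cl.levQ hT₁.2.1 (eBT ▸ hBT)
  have hgB : g ∈ normalizer (B : Set G) := by rw [eBT]; exact hg
  have hgi : g⁻¹ ∈ normalizer (B : Set G) := inv_mem hgB
  have hgV : cj g⁻¹ (zl (S : Subgroup G) P) = zl (S : Subgroup G) P := cj_eq_of_mem_normalizer (h.norm_le hgi)
  have hNT : N ≤ T₁ := (N_le_o2 h s).trans (o2_le_syl hT₁)
  have hNS : cj g⁻¹ N ≤ (S : Subgroup G) := by
    have := cj_mono g⁻¹ (hNT.trans hle)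
    rwa [cj_inv_cj] at this
  have h1 := ml_ind h s ml (LowFull.low_full h ml (r_ZJ h s) (r_full h s)) (VH h s)
    (fun a ha => by have := sqV h s ha; rwa [sq] at this)
  have h2 := (relIndex_le_iff (V := zl (S : Subgroup G) P) (A := N)
    (B := centralizer (zl (S : Subgroup G) P : Set G)) (D := centralizer (N : Set G))).2 h1
  have e1 : cj g⁻¹ (N ⊓ centralizer (zl (S : Subgroup G) P : Set G)) =
      cj g⁻¹ N ⊓ centralizer (zl (S : Subgroup G) P : Set G) := by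
    rw [cj_inf, cj_centralizer, hgV]
  have e2 : cj g⁻¹ (zl (S : Subgroup G) P ⊓ centralizer (N : Set G)) =
      zl (S : Subgroup G) P ⊓ centralizer (cj g⁻¹ N : Set G) := by
    rw [cj_inf, cj_centralizer, hgV]
  have h3 : Nat.card (zl (S : Subgroup G) P) * Nat.card ↥(cj g⁻¹ N ⊓ centralizer (zl (S : Subgroup G) P : Set G)) ≤
      Nat.card (cj g⁻¹ N) * Nat.card ↥(zl (S : Subgroup G) P ⊓ centralizer (cj g⁻¹ N : Set G)) := by
    rw [← e1, ← e2, card_cj, card_cj, card_cj]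
    exact h2
  have hno := (h.cl.hypN.toHyp.ff FF.Glob.ffthmM (h.cl.ff P h.cl.pss)).1
  have hcjsq : ∀ a ∈ cj g⁻¹ N, a * a = 1 := by
    rintro _ ⟨a, ha, rfl⟩
    change g⁻¹ * a * g⁻¹⁻¹ * (g⁻¹ * a * g⁻¹⁻¹) = 1
    have h4 := N_sq h s ha
    calc g⁻¹ * a * g⁻¹⁻¹ * (g⁻¹ * a * g⁻¹⁻¹) = g⁻¹ * (a * a) * g := by group
      _ = 1 := by rw [h4]; group
  have hcjc : ∀ a ∈ cj g⁻¹ N, ∀ b ∈ cj g⁻¹ N, a * b = b * a := by
    rintro _ ⟨a, ha, rfl⟩ _ ⟨b, hb, rfl⟩
    change g⁻¹ * a * g⁻¹⁻¹ * (g⁻¹ * b * g⁻¹⁻¹) = g⁻¹ * b * g⁻¹⁻¹ * (g⁻¹ * a * g⁻¹⁻¹)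
    have h4 := N_comm h s ha hb
    calc g⁻¹ * a * g⁻¹⁻¹ * (g⁻¹ * b * g⁻¹⁻¹) = g⁻¹ * (a * b) * g := by group
      _ = g⁻¹ * (b * a) * g := by rw [h4]
      _ = _ := by group
  have h5 : Best (zl (S : Subgroup G) P) (cj g⁻¹ N) := by
    refine LowOne.best_of_off hno (hNS.trans h.cl.pss.par.isLoc.le) ⟨fun a ha => ?_, fun a ha b hb => ?_⟩ h3
    · rw [sq, hcjsq a ha]; exact one_mem _
    · rw [hcjc a ha b hb, mul_assoc, mul_assoc, mul_inv_cancel_left, mul_inv_cancel]; exact one_mem _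
  have h6 : cj g⁻¹ N ∈ BO (S : Subgroup G) (o2 P) := ⟨hNS, by rw [h.cl.zc_eq]; exact h5⟩
  have h7 : cj g⁻¹ N ≤ B := by
    rw [h.eqB]
    exact (NO3S.Level.BO.le_nxt h6).trans (le_inf (NO3S.Level.nxt_le _ _) (NO3S.Level.le_centralizer_zc _))
  have h8 := cj_mono g h7
  rwa [cj_cj_inv, cj_eq_of_mem_normalizer hgB] at h8

/-! ### (3) -/

variable (w : WQ S P T Y) (BT : B ≤ T)
include w

theorem Y_r {y : G} (hy : y ∈ Y) : y * (e * z) = e * z * y := by
  have c1 : Commute y e := mem_centralizer_singleton_iff.1 (s.Ye hy)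
  have c2 : Commute y z := mem_centralizer_singleton_iff.1 (s.Yz hy)
  exact (c1.mul_right c2).eq

theorem U_H : cl (zl (S : Subgroup G) P) Y ≤ centralizer ({e} : Set G) := cl_le fun y hy => by
  have h1 := cj_mono y (VH h s)
  rwa [cj_eq_of_mem_normalizer (le_normalizer (s.Ye hy))] at h1

theorem U_low (ml : MLK.{u, u}) : cl (zl (S : Subgroup G) P) Y ≤ o2 (centralizer ({e * z} : Set G)) := cl_le fun y hy => by
  have h1 := cj_mono y (LowFull.low_full h ml (r_ZJ h s) (r_full h s))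
  rwa [cj_eq_of_mem_normalizer (ZN.le_normalizer_o2 _ (mem_centralizer_singleton_iff.2 (Y_r h s w hy)))] at h1

include BT in
/-- `N` is exact on `U` -/
theorem N_ex (ml : MLK.{u, u}) : Ex T (cl (zl (S : Subgroup G) P) Y) (NN (centralizer ({e} : Set G)) (e * z)) := by
  refine Ex.of_rel ((le_B h s ml).trans BT) ⟨fun a ha => ?_, fun a ha b hb => ?_⟩
    (ml_ind h s ml (U_low h s w ml) (U_H h s w) fun a ha => ?_)
  · rw [sq, N_sq h s ha]; exact one_mem _
  · rw [N_comm h s ha hb, mul_assoc, mul_assoc, mul_inv_cancel_left, mul_inv_cancel]; exact one_mem _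
  · have h1 := (mem_zc.1 (w.md_zl.le (QWc.U_le_zl w ha))).2.1
    rwa [sq] at h1

include BT in
/-- **(3)** : `U` centralises `N` -/
theorem cent (ml : MLK.{u, u}) (neg : Neg T Y (cl (zl (S : Subgroup G) P) Y)) :
    cl (zl (S : Subgroup G) P) Y ≤ centralizer (NN (centralizer ({e} : Set G)) (e * z) : Set G) := by
  have hG := h.cl.ctx.char2
  have wc := OM.UniPlus.WC.weakNormal h.bg.wc
  obtain ⟨-, -, -, T₂, hT₂, hc⟩ := exists_T h s
  have hlow := LowFull.low_full h ml (r_ZJ h s) (r_full h s)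
  have hex := N_ex h s w BT ml
  refine cl_le fun y hy => cj_le_iff.2 ?_
  rw [h.fr.V_eq]
  refine iSup_le fun m u hu => ?_
  rw [mem_cj, inv_inv]
  have hyB : cj y⁻¹ (NN (centralizer ({e} : Set G)) (e * z)) ≤ B := by
    have h1 := Ex.le_BB w neg (Ex.cj w neg hex (inv_mem hy))
    have eB : B = BB (S : Subgroup G) P := by
      have eZ : ZJ = WY.ZJ (S : Subgroup G) P := h.eZ
      rw [h.eB, eZ]
    rwa [eB]
  have huU : y * u * y⁻¹ ∈ cl (zl (S : Subgroup G) P) Y := cj_le_cl hy ⟨u, h.fr.WV m hu, rfl⟩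
  have hu2 : u * u = 1 := by
    have := sqV h s (h.fr.WV m hu)
    rwa [sq] at this
  refine Odd.mem_cent (H := centralizer ({e} : Set G)) (C := cj y (Z m)) (z := e * z) norm_NN
    (fun K hK1 hK2 hK3 => red_of (Z₀ := ({e * z} : Set G)) hT₂.1 hT₂.2.1 (syl_not_dvd hT₂)
      (fun x hx _ hz' => by
        rw [Set.mem_singleton_iff.1 hz']
        exact mem_centralizer_singleton_iff.1 (hc hx))
      norm_NN (Set.singleton_subset_iff.2 r_mem) le_rfl K hK1 hK2 hK3)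
    (fun x hx x' hx' => N_comm h s hx hx') (U_H h s w huU) ?_ ?_ r_mem ?_ ?_
  · calc y * u * y⁻¹ * (y * u * y⁻¹) = y * (u * u) * y⁻¹ := by group
      _ = 1 := by rw [hu2]; group
  · intro x hx
    have hb : y⁻¹ * x * y ∈ B := hyB (by
      rw [mem_cj, inv_inv]
      have e1 : y * (y⁻¹ * x * y) * y⁻¹ = x := by group
      rwa [e1])
    have h1 := (h.fr.blk m).com _ hb u hu
    have hx2 : x⁻¹ = x := inv_eq_of_mul_eq_one_left (N_sq h s hx)
    have e1 : x * (y * u * y⁻¹ * x * (y * u * y⁻¹)⁻¹) =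
        y * (y⁻¹ * x * y * u * (y⁻¹ * x * y)⁻¹ * u⁻¹) * y⁻¹ := by
      calc x * (y * u * y⁻¹ * x * (y * u * y⁻¹)⁻¹) = x * (y * u * y⁻¹ * x⁻¹ * (y * u * y⁻¹)⁻¹) := by rw [hx2]
        _ = _ := by group
    rw [e1]
    exact ⟨_, h1, rfl⟩
  · exact mem_centralizer_singleton_iff.1 (ZN.o2_le _ (U_low h s w ml huU))
  · intro c _ hcC _
    refine ⟨o2 (centralizer ({e * z * c} : Set G)), MinSimple.VModule.o2_isPGroup _,
      QWoFr.le_o2_cj h.fr hG h.bg.bau_two wc h.norm_le h.bg.two (r_ZJ h s) (r_full h s) hlow (Y_r h s w hy) m c hcC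
        ⟨u, hu, rfl⟩, fun x hx a ha => ?_⟩
    exact QW.o2_conj_mem (mem_centralizer_singleton_iff.2 hx) ha

include BT in
/-- **(3)** : `U ≤ O₂(H)` -/
theorem U_le_o2_H (ml : MLK.{u, u}) (neg : Neg T Y (cl (zl (S : Subgroup G) P) Y)) :
    cl (zl (S : Subgroup G) P) Y ≤ o2 (centralizer ({e} : Set G)) := by
  have h1 := le_o2_cap h s (U_low h s w ml) (U_H h s w)
  have h2 := cent h s w BT ml neg
  set N : Subgroup G := NN (centralizer ({e} : Set G)) (e * z) with hN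
  have h3 : centralizer ({e} : Set G) ⊓ centralizer (N : Set G) ≤
      centralizer ({e} : Set G) ⊓ centralizer (zpowers (e * z) : Set G) := by
    refine inf_le_inf_left _ (centralizer_le ?_)
    rw [SetLike.coe_subset_coe, zpowers_le]
    exact r_mem
  have h4 : cl (zl (S : Subgroup G) P) Y ≤ o2 (centralizer ({e} : Set G) ⊓ centralizer (N : Set G)) := fun x hx =>
    NOne.Flat.o2_inf_le_o2 h3 ⟨h1 hx, U_H h s w hx, h2 hx⟩
  have h5 : centralizer ({e} : Set G) ≤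
      normalizer ((centralizer ({e} : Set G) ⊓ centralizer (N : Set G) : Subgroup G) : Set G) :=
    NO3b.EZero.le_normalizer_inf_cent norm_NN
  refine h4.trans (ZN.ChoiceSit.le_o2 (ZN.isPGroup_o2 _) ((ZN.o2_le _).trans inf_le_left) (h5.trans ?_))
  exact ZN.normalizer_le_normalizer_o2 _

end sit

/-! ### The socket -/

/-- an element of `D` with support `I` -/
theorem exists_supp {ι : Type*} [Finite ι] {B Q V X ZJ : Subgroup G} {L W Z C A : ι → Subgroup G} {q : ℕ}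
    (h : FrL B Q V X ZJ L W Z C A q) (I : Set ι) {D : Subgroup G} (hD : ∀ l ∈ I, ∃ z ∈ Z l, z ≠ 1 ∧ z ∈ D) :
    ∃ c ∈ D, ∀ i ∈ I, c ∉ C i := by
  classical
  cases nonempty_fintype ι
  set 𝒞 : Set (Finset ι) := {s | (∀ i ∈ s, i ∈ I) ∧ ∃ z ∈ D, ∀ i ∈ s, z ∉ C i} with h𝒞
  have hne : 𝒞.Nonempty := ⟨∅, fun i hi => absurd hi (Finset.notMem_empty i), 1, one_mem _,
    fun i hi => absurd hi (Finset.notMem_empty i)⟩
  obtain ⟨s, ⟨hsI, z, hz, hzs⟩, hmax⟩ := Set.exists_max_image 𝒞 Finset.card (Set.toFinite _) hne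
  refine ⟨z, hz, fun i₀ hi₀I hi₀ => ?_⟩
  obtain ⟨y, hy, hy1, hyD⟩ := hD i₀ hi₀I
  have hyW : y ∈ W i₀ := (h.blk i₀).ZV hy
  have hi₀s : i₀ ∉ s := fun h1 => hzs i₀ h1 hi₀
  have hyC : ∀ i, i ≠ i₀ → y ∈ C i := fun i hi => h.WjC i i₀ hi hyW
  have hy0 : y ∉ C i₀ := QWoFr.not_mem_C h hy hy1
  have hmem : insert i₀ s ∈ 𝒞 := by
    refine ⟨fun i hi => ?_, z * y, mul_mem hz hyD, fun i hi => ?_⟩
    · rcases Finset.mem_insert.1 hi with rfl | hi
      · exact hi₀I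
      · exact hsI i hi
    · rcases Finset.mem_insert.1 hi with rfl | hi
      · rw [mul_mem_cancel_left hi₀]
        exact hy0
      · have h1 : y ∈ C i := hyC i fun e => hi₀s (e ▸ hi)
        rw [mul_mem_cancel_right h1]
        exact hzs i hi
  have h1 := hmax _ hmem
  rw [Finset.card_insert_of_notMem hi₀s] at h1
  omega

/-- **`HFam` from (ML)** -/
theorem hFam (h : MulL S P B ZJ L W Z C A q) (ml : MLK.{u, u}) : HFam h := by
  intro T Y w hB z hz hz1 hzY neg l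
  set D : Subgroup G := closure (others z l) with hD
  have hDJ : D ≤ ZJ := by
    rw [hD, closure_le]
    rintro _ ⟨m, -, rfl⟩
    exact h.fr.Z_le m (hz m)
  have hDC : D ≤ C l := by
    rw [hD, closure_le]
    rintro _ ⟨m, hm, rfl⟩
    exact QWoFr.Z_C h.fr (Ne.symm hm) (hz m)
  have hDY : Y ≤ centralizer (D : Set G) := by
    rw [hD, centralizer_closure]
    intro y hy
    rw [mem_centralizer_iff]
    rintro _ ⟨m, -, rfl⟩
    exact mem_centralizer_iff.1 (hzY m hy) _ rfl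
  obtain ⟨e, he, hef⟩ := exists_supp h.fr {i | i ≠ l} (D := D) fun m hm =>
    ⟨z m, hz m, hz1 m, subset_closure ⟨m, hm, rfl⟩⟩
  have s : Sit S P ZJ Z C Y e (z l) l :=
    { he := hDJ he
      el := hDC he
      ef := hef
      Ye := hDY.trans (centralizer_le (Set.singleton_subset_iff.2 he))
      hz := hz l
      z1 := hz1 l
      Yz := hzY l }
  have h1 := U_le_o2_H h s w hB ml neg
  have h2 : centralizer (others z l) ≤ centralizer ({e} : Set G) := by
    rw [← centralizer_closure (others z l)]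
    exact centralizer_le (Set.singleton_subset_iff.2 he)
  have h3 : cl (zl (S : Subgroup G) P) Y ≤ centralizer (others z l) := by
    rw [← centralizer_closure (others z l)]
    refine cl_le fun y hy => ?_
    have h4 : zl (S : Subgroup G) P ≤ centralizer (closure (others z l) : Set G) := fun v hv =>
      mem_centralizer_iff.2 fun x hx => h.fr.Vc (h.fr.ZJV (hDJ hx)) hv
    have h5 := cj_mono y h4
    rwa [cj_eq_of_mem_normalizer (le_normalizer (hDY hy))] at h5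
  exact fun x hx => NOne.Flat.o2_inf_le_o2 h2 ⟨h1 hx, h3 hx⟩

end Cfsg.Agent.Omega.NO3S.CaseLW.QWHz

end

-- merged: Cfsg.Agent.Mrg.Omega.CaseLQ.FiveSit
section

/-!
# One `S₅`, the weird parabolics: `T = C_S(n)`, `V_τ = ⟨p 2 p 3, p 2 p 4⟩`, `τ = {2, 3, 4}`

`FiveL S P p`, `n = nn p`, `a = aa p`, `T = Std.T S p`, `V_τ = Vt p`, `X = XT S P p = P ∩ C(n) ∩ N(C_T(V_τ))`.

* `mem_Vt`, `card_Vt`;
* `T_XT`, `XT_P`, `XT_n`, `XT_norm` (`X ≤ N(V_τ)`), `XT_full` : `X` induces `Sym(τ)` on `V_τ`;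
* `act_t` : `T` acts on `V_τ` as `⟨(2 3)⟩`; `noN`, `lineN`, `irrN` : the fields of `CaseLQ.Sit`;
* `exists_s` : every `A ≤ S`, `A ≰ O₂(P)` has an `S`-conjugate which moves `V_τ`.
-/

set_option autoImplicit false
set_option linter.unusedSectionVars false

namespace Cfsg.Agent.Omega.CaseLQ.FiveI

open Subgroup Cfsg Cfsg.Agent.ZN.ChoiceBase
open Cfsg.Agent.ZN.ChoiceSit (Syl)
open Cfsg.Agent.ZN (zc zl o2)
open Cfsg.Agent.Omega.FFThm (OffM ElemM)
open Cfsg.Agent.Omega.NTwo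
open Cfsg.Agent.Omega.NO3S.Sym.Light (FiveL)
open Cfsg.Agent.Omega.NO3b.EZero (cl cj_le_cl le_cl cl_le le_normalizer_cl cent_symm cj_cent)

universe u

variable {G : Type u} [Group G]

/-- `V_τ`, `τ = {2, 3, 4}` -/
def Vt (p : Fin 5 → G) : Subgroup G := closure {p 2 * p 3, p 2 * p 4}

theorem mem_cl4 {a b x : G} (ha : a * a = 1) (hb : b * b = 1) (hab : a * b = b * a) :
    x ∈ closure ({a, b} : Set G) ↔ x = 1 ∨ x = a ∨ x = b ∨ x = a * b := by
  have h1 : closure ({a, b} : Set G) = kl a b ha hb hab := by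
    apply le_antisymm
    · rw [closure_le]
      rintro y (rfl | rfl)
      · exact Or.inr (Or.inl rfl)
      · exact Or.inr (Or.inr (Or.inl rfl))
    · rintro y (rfl | rfl | rfl | rfl)
      · exact one_mem _
      · exact subset_closure (Or.inl rfl)
      · exact subset_closure (Or.inr rfl)
      · exact mul_mem (subset_closure (Or.inl rfl)) (subset_closure (Or.inr rfl))
  rw [h1]
  exact Iff.rfl

section fv

variable {P : Subgroup G} {p : Fin 5 → G} (h : Fv P p)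
include h

theorem pair_sq (i j : Fin 5) : p i * p j * (p i * p j) = 1 := by
  rw [mul_assoc, ← mul_assoc (p j), h.comm j i, mul_assoc (p i), h.sq, mul_one, h.sq]

theorem pair_cm (i j k l : Fin 5) : p i * p j * (p k * p l) = p k * p l * (p i * p j) := by
  have e1 : p i * p j * p k = p k * (p i * p j) := by
    rw [mul_assoc, h.comm j k, ← mul_assoc, h.comm i k, mul_assoc]
  have e2 : p i * p j * p l = p l * (p i * p j) := by
    rw [mul_assoc, h.comm j l, ← mul_assoc, h.comm i l, mul_assoc]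
  rw [← mul_assoc, e1, mul_assoc (p k), e2, ← mul_assoc]

theorem pair_mul (i j k : Fin 5) : p i * p j * (p i * p k) = p j * p k := by
  calc p i * p j * (p i * p k) = p i * (p j * p i) * p k := by group
    _ = p i * (p i * p j) * p k := by rw [h.comm j i]
    _ = (p i * p i) * p j * p k := by group
    _ = p j * p k := by rw [h.sq, one_mul]

theorem mem_Vt {x : G} : x ∈ Vt p ↔ x = 1 ∨ x = p 2 * p 3 ∨ x = p 2 * p 4 ∨ x = p 3 * p 4 := by
  rw [Vt, mem_cl4 (pair_sq h 2 3) (pair_sq h 2 4) (pair_cm h 2 3 2 4), pair_mul h]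

theorem pair_mem {k l : Fin 5} (hk : 2 ≤ k) (hl : 2 ≤ l) (hkl : k ≠ l) : p k * p l ∈ Vt p := by
  have key : ∀ k l : Fin 5, 2 ≤ k → 2 ≤ l → k ≠ l → (k = 2 ∧ l = 3) ∨ (k = 3 ∧ l = 2) ∨ (k = 2 ∧ l = 4) ∨
      (k = 4 ∧ l = 2) ∨ (k = 3 ∧ l = 4) ∨ (k = 4 ∧ l = 3) := by decide
  rw [mem_Vt h]
  rcases key k l hk hl hkl with ⟨rfl, rfl⟩ | ⟨rfl, rfl⟩ | ⟨rfl, rfl⟩ | ⟨rfl, rfl⟩ | ⟨rfl, rfl⟩ | ⟨rfl, rfl⟩
  · exact Or.inr (Or.inl rfl)
  · exact Or.inr (Or.inl (h.comm _ _))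
  · exact Or.inr (Or.inr (Or.inl rfl))
  · exact Or.inr (Or.inr (Or.inl (h.comm _ _)))
  · exact Or.inr (Or.inr (Or.inr rfl))
  · exact Or.inr (Or.inr (Or.inr (h.comm _ _)))

/-- an element which acts as `σ` and preserves `τ` normalises `V_τ` -/
theorem norm_Vt_of {g : G} {σ : Equiv.Perm (Fin 5)} (hσ : ∀ i, g * p i * g⁻¹ = p (σ i)) (h0 : σ 0 = 0 ∨ σ 0 = 1)
    (h1 : σ 1 = 0 ∨ σ 1 = 1) {x : G} (hx : x ∈ Vt p) : g * x * g⁻¹ ∈ Vt p := by
  have key : ∀ σ : Equiv.Perm (Fin 5), (σ 0 = 0 ∨ σ 0 = 1) → (σ 1 = 0 ∨ σ 1 = 1) → ∀ i : Fin 5, 2 ≤ i → 2 ≤ σ i := by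
    decide +kernel
  have hc : ∀ i j : Fin 5, i ≠ j → 2 ≤ i → 2 ≤ j → g * (p i * p j) * g⁻¹ ∈ Vt p := fun i j hij hi hj => by
    rw [cm, hσ, hσ]
    exact pair_mem h (key σ h0 h1 i hi) (key σ h0 h1 j hj) fun e => hij (σ.injective e)
  rcases (mem_Vt h).1 hx with rfl | rfl | rfl | rfl
  · simp
  · exact hc 2 3 (by decide) (by decide) (by decide)
  · exact hc 2 4 (by decide) (by decide) (by decide)
  · exact hc 3 4 (by decide) (by decide) (by decide)

theorem card_Vt : Nat.card (Vt p) = 4 := by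
  have hne1 : p 2 * p 3 ≠ 1 := h.mul_ne_one (by decide)
  have hne2 : p 2 * p 4 ≠ 1 := h.mul_ne_one (by decide)
  have hne3 : p 3 * p 4 ≠ 1 := h.mul_ne_one (by decide)
  have e12 : p 2 * p 3 ≠ p 2 * p 4 := fun e => absurd (h.inj (mul_left_cancel e)) (by decide)
  have e23 : p 2 * p 4 ≠ p 3 * p 4 := fun e => absurd (h.inj (mul_right_cancel e)) (by decide)
  have e13 : p 2 * p 3 ≠ p 3 * p 4 := fun e => by
    rw [h.comm 2 3] at e
    exact absurd (h.inj (mul_left_cancel e)) (by decide)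
  have hs : ((Vt p : Subgroup G) : Set G) = {1, p 2 * p 3, p 2 * p 4, p 3 * p 4} := by
    ext x
    exact mem_Vt h
  have h1 : Nat.card (Vt p) = Set.ncard ((Vt p : Subgroup G) : Set G) := rfl
  rw [h1, hs, Set.ncard_insert_of_notMem (by
    rintro (e | e | e)
    · exact hne1 e.symm
    · exact hne2 e.symm
    · exact hne3 e.symm), Set.ncard_insert_of_notMem (by
    rintro (e | e)
    · exact e12 e
    · exact e13 e), Set.ncard_pair e23]

end fv

/-- `X = P ∩ C(n) ∩ N(C_T(V_τ))` -/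
def XT (S P : Subgroup G) (p : Fin 5 → G) : Subgroup G :=
  P ⊓ centralizer ({nn p} : Set G) ⊓ normalizer ((Std.T S p ⊓ centralizer (Vt p : Set G) : Subgroup G) : Set G)

section five

variable [Finite G] {S : Sylow 2 G} {P : Subgroup G} {p : Fin 5 → G} (h : FiveL S P p)
include h

theorem perm_n {g : G} (hg : g ∈ P) (hn : g ∈ centralizer ({nn p} : Set G)) :
    ∃ σ : Equiv.Perm (Fin 5), (∀ i, g * p i * g⁻¹ = p (σ i)) ∧ (σ 0 = 0 ∨ σ 0 = 1) ∧ (σ 1 = 0 ∨ σ 1 = 1) := by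
  obtain ⟨σ, hσ⟩ := h.std.perm g hg
  refine ⟨σ, hσ, ?_⟩
  have h2 := mem_cent.1 hn
  rw [nn, cm, hσ, hσ] at h2
  rcases h.std.pair_inj (fun e => absurd (σ.injective e) (by decide)) (by decide) h2 with ⟨e1, e2⟩ | ⟨e1, e2⟩
  · exact ⟨Or.inl e1, Or.inr e2⟩
  · exact ⟨Or.inr e1, Or.inl e2⟩

theorem C_norm_Vt : P ⊓ centralizer ({nn p} : Set G) ≤ normalizer (Vt p : Set G) := by
  have key : ∀ g ∈ P ⊓ centralizer ({nn p} : Set G), ∀ x ∈ Vt p, g * x * g⁻¹ ∈ Vt p := fun g hg x hx => by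
    obtain ⟨σ, hσ, h0, h1⟩ := perm_n h hg.1 hg.2
    exact norm_Vt_of h.std.toFv hσ h0 h1 hx
  intro g hg
  rw [mem_normalizer_iff]
  refine fun x => ⟨key g hg x, fun hx => ?_⟩
  have h1 := key g⁻¹ (inv_mem hg) _ hx
  have e : g⁻¹ * (g * x * g⁻¹) * g⁻¹⁻¹ = x := by group
  rwa [e] at h1

theorem T_C : Std.T (S : Subgroup G) p ≤ P ⊓ centralizer ({nn p} : Set G) :=
  le_inf (Std.T_le.trans h.std.le) inf_le_right

theorem T_norm_Vt : Std.T (S : Subgroup G) p ≤ normalizer (Vt p : Set G) := (T_C h).trans (C_norm_Vt h)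

omit h in
theorem norm_cent {K V : Subgroup G} (hK : K ≤ normalizer (V : Set G)) :
    K ≤ normalizer (centralizer (V : Set G) : Set G) := by
  intro k hk
  rw [mem_normalizer_iff_cj, cj_centralizer, cj_eq_of_mem_normalizer (hK hk)]

theorem T_XT : Std.T (S : Subgroup G) p ≤ XT (S : Subgroup G) P p := by
  refine le_inf (T_C h) fun x hx => ?_
  rw [mem_normalizer_iff_cj, cj_inf, cj_eq_of_mem_normalizer (le_normalizer hx :
    x ∈ normalizer ((Std.T (S : Subgroup G) p : Subgroup G) : Set G)), cj_centralizer,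
    cj_eq_of_mem_normalizer (T_norm_Vt h hx)]

omit h in
theorem XT_P : XT (S : Subgroup G) P p ≤ P := inf_le_left.trans inf_le_left

omit h in
theorem XT_n : XT (S : Subgroup G) P p ≤ centralizer ({nn p} : Set G) := inf_le_left.trans inf_le_right

theorem XT_norm : XT (S : Subgroup G) P p ≤ normalizer (Vt p : Set G) := inf_le_left.trans (C_norm_Vt h)

theorem syl_TC : Syl (Std.T (S : Subgroup G) p) (P ⊓ centralizer ({nn p} : Set G)) :=
  Node.ELXUni.syl_T h (T_C h) inf_le_right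

/-- `X` induces `Sym(τ)` on `V_τ` -/
theorem XT_full {σ : Equiv.Perm (Fin 5)} (h0 : σ 0 = 0) (h1 : σ 1 = 1) : ∃ x ∈ XT (S : Subgroup G) P p,
    ∀ i j : Fin 5, 2 ≤ i → 2 ≤ j → i ≠ j → x * (p i * p j) * x⁻¹ = p (σ i) * p (σ j) := by
  obtain ⟨g, hg, hσ⟩ := h.std.full σ
  have hgn : g ∈ centralizer ({nn p} : Set G) := mem_cent.2 (by rw [nn, cm, hσ, hσ, h0, h1])
  have hgC : g ∈ P ⊓ centralizer ({nn p} : Set G) := ⟨hg, hgn⟩
  have hL : P ⊓ centralizer ({nn p} : Set G) ≤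
      normalizer ((P ⊓ centralizer ({nn p} : Set G) ⊓ centralizer (Vt p : Set G) : Subgroup G) : Set G) := by
    intro x hx
    rw [mem_normalizer_iff_cj, cj_inf, cj_eq_of_mem_normalizer (le_normalizer hx :
      x ∈ normalizer ((P ⊓ centralizer ({nn p} : Set G) : Subgroup G) : Set G)), cj_centralizer,
      cj_eq_of_mem_normalizer (C_norm_Vt h hx)]
  obtain ⟨l, hl, n, hn, e⟩ := MinSimple.LemXPerm.exists_frattini (T_C h) (syl_TC h).2.1
    (ZN.ChoiceSit.syl_not_dvd (syl_TC h)) hL hgC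
  have e1 : Std.T (S : Subgroup G) p ⊓ (P ⊓ centralizer ({nn p} : Set G) ⊓ centralizer (Vt p : Set G)) =
      Std.T (S : Subgroup G) p ⊓ centralizer (Vt p : Set G) := by
    rw [← inf_assoc, inf_eq_left.2 (T_C h)]
  rw [e1] at hn
  refine ⟨n, hn, fun i j hi hj hij => ?_⟩
  have key : ∀ σ : Equiv.Perm (Fin 5), σ 0 = 0 → σ 1 = 1 → ∀ i : Fin 5, 2 ≤ i → 2 ≤ σ i := by
    decide +kernel
  have hv : g * (p i * p j) * g⁻¹ = p (σ i) * p (σ j) := by rw [cm, hσ, hσ]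
  have hm : p (σ i) * p (σ j) ∈ Vt p :=
    pair_mem h.std.toFv (key σ h0 h1 i hi) (key σ h0 h1 j hj) fun e => hij (σ.injective e)
  have hc : p (σ i) * p (σ j) * l = l * (p (σ i) * p (σ j)) := mem_centralizer_iff.1 hl.2 _ hm
  have hn' : n = l⁻¹ * g := by rw [e]; group
  calc n * (p i * p j) * n⁻¹ = l⁻¹ * (g * (p i * p j) * g⁻¹) * l := by rw [hn']; group
    _ = l⁻¹ * (p (σ i) * p (σ j) * l) := by rw [hv, mul_assoc]
    _ = p (σ i) * p (σ j) := by rw [hc]; group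

/-! ### the action of `T` on `V_τ` -/

theorem aa_Vt : aa p ∈ Vt p := (mem_Vt h.std.toFv).2 (Or.inr (Or.inl rfl))

/-- `T` acts on `V_τ` as `⟨(2 3)⟩` -/
theorem act_t {x : G} (hx : x ∈ Std.T (S : Subgroup G) p) : x ∈ centralizer (Vt p : Set G) ∨
    (x * (p 2 * p 4) * x⁻¹ = p 3 * p 4 ∧ x * (p 3 * p 4) * x⁻¹ = p 2 * p 4) := by
  have h4 := h.std.fix x (Std.T_le hx)
  rcases NO3S.MFive.Inst.T_two' h hx with ⟨h2, h3⟩ | ⟨h2, h3⟩
  · left
    refine mem_centralizer_iff.2 fun v hv => ?_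
    have hc : ∀ i j : Fin 5, x * p i * x⁻¹ = p i → x * p j * x⁻¹ = p j → p i * p j * x = x * (p i * p j) := by
      intro i j hi hj
      have e := cm x (p i) (p j)
      rw [hi, hj] at e
      exact (comm_iff.1 e).symm
    rcases (mem_Vt h.std.toFv).1 hv with rfl | rfl | rfl | rfl
    · simp
    · exact hc 2 3 h2 h3
    · exact hc 2 4 h2 h4
    · exact hc 3 4 h3 h4
  · right
    rw [cm, cm, h2, h3, h4]
    exact ⟨rfl, rfl⟩

theorem comm_t {x : G} (hx : x ∈ Std.T (S : Subgroup G) p) (hxc : x ∉ centralizer (Vt p : Set G)) :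
    x * (p 2 * p 4) * x⁻¹ * (p 2 * p 4)⁻¹ = aa p := by
  rw [((act_t h hx).resolve_left hxc).1, inv_eq_of_mul_eq_one_left (pair_sq h.std.toFv 2 4)]
  calc p 3 * p 4 * (p 2 * p 4) = p 3 * p 4 * (p 4 * p 2) := by rw [h.std.comm 2 4]
    _ = p 3 * (p 4 * p 4) * p 2 := by group
    _ = aa p := by rw [h.std.sq, mul_one, h.std.comm 3 2]

/-- `C_{V_τ}(x) = {1, a}` -/
theorem fix_t {x : G} (hx : x ∈ Std.T (S : Subgroup G) p) (hxc : x ∉ centralizer (Vt p : Set G)) {v : G}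
    (hv : v ∈ Vt p) (hxv : x * v = v * x) : v = 1 ∨ v = aa p := by
  obtain ⟨h24, h34⟩ := (act_t h hx).resolve_left hxc
  have e23 : p 2 * p 4 ≠ p 3 * p 4 := fun e => absurd (h.std.inj (mul_right_cancel e)) (by decide)
  rcases (mem_Vt h.std.toFv).1 hv with rfl | rfl | rfl | rfl
  · exact Or.inl rfl
  · exact Or.inr rfl
  · exact absurd ((comm_iff.2 hxv).symm.trans h24) e23
  · exact absurd ((comm_iff.2 hxv).symm.trans h34) e23.symm

theorem two_t {x y : G} (hx : x ∈ Std.T (S : Subgroup G) p) (hy : y ∈ Std.T (S : Subgroup G) p)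
    (hxc : x ∉ centralizer (Vt p : Set G)) (hyc : y ∉ centralizer (Vt p : Set G)) :
    x⁻¹ * y ∈ centralizer (Vt p : Set G) := by
  obtain ⟨h24, h34⟩ := (act_t h hx).resolve_left hxc
  obtain ⟨k24, k34⟩ := (act_t h hy).resolve_left hyc
  have hx3 := h.std.T_a hx
  have hy3 := h.std.T_a hy
  refine mem_centralizer_iff.2 fun v hv => ?_
  have key : ∀ v w : G, x * w * x⁻¹ = y * v * y⁻¹ → w = v → v * (x⁻¹ * y) = x⁻¹ * y * v := by
    rintro v w e rfl
    have e1 : x⁻¹ * y * w * (x⁻¹ * y)⁻¹ = w := by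
      calc x⁻¹ * y * w * (x⁻¹ * y)⁻¹ = x⁻¹ * (y * w * y⁻¹) * x := by group
        _ = x⁻¹ * (x * w * x⁻¹) * x := by rw [e]
        _ = w := by group
    exact (comm_iff.1 e1).symm
  rcases (mem_Vt h.std.toFv).1 hv with rfl | rfl | rfl | rfl
  · simp
  · exact key _ _ (hx3.trans hy3.symm) rfl
  · exact key _ _ (h24.trans k24.symm) rfl
  · exact key _ _ (h34.trans k34.symm) rfl

theorem card_a : Nat.card (zpowers (aa p)) = 2 := by
  rw [Nat.card_zpowers]
  exact orderOf_eq_prime (by rw [pow_two]; exact h.std.asq) h.std.a_ne_one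

theorem mem_za {x : G} : x ∈ zpowers (aa p) ↔ x = 1 ∨ x = aa p := by
  constructor
  · rintro ⟨k, rfl⟩
    have h1 : aa p ^ (2 : ℤ) = 1 := by
      have := h.std.asq
      rw [← pow_two] at this
      exact_mod_cast this
    rcases Int.even_or_odd k with ⟨m, hm⟩ | ⟨m, hm⟩
    · left
      show aa p ^ k = 1
      rw [hm, ← two_mul, zpow_mul, h1, one_zpow]
    · right
      show aa p ^ k = aa p
      rw [hm, zpow_add, zpow_mul, h1, one_zpow, one_mul, zpow_one]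
  · rintro (rfl | rfl)
    · exact one_mem _
    · exact mem_zpowers _

theorem za_Vt : zpowers (aa p) ≤ Vt p := zpowers_le.2 (aa_Vt h)

/-- `[T, V_τ] ≤ ⟨a⟩` -/
theorem comm_za {x v : G} (hx : x ∈ Std.T (S : Subgroup G) p) (hv : v ∈ Vt p) :
    x * v * x⁻¹ * v⁻¹ ∈ zpowers (aa p) := by
  rcases act_t h hx with hc | ⟨h24, h34⟩
  · rw [← mem_centralizer_iff.1 hc v hv, mul_inv_cancel_right, mul_inv_cancel]
    exact one_mem _
  · have h23 := h.std.T_a hx
    rw [mem_za h]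
    rcases (mem_Vt h.std.toFv).1 hv with rfl | rfl | rfl | rfl
    · left; simp
    · left
      rw [show x * (p 2 * p 3) * x⁻¹ = p 2 * p 3 from h23, mul_inv_cancel]
    · right
      exact comm_t h hx fun hc => by
        have e := comm_iff.2 (mem_centralizer_iff.1 hc _ ((mem_Vt h.std.toFv).2 (Or.inr (Or.inr (Or.inl rfl))))).symm
        exact absurd (h.std.inj (mul_right_cancel (e.symm.trans h24))) (by decide)
    · right
      rw [h34, inv_eq_of_mul_eq_one_left (pair_sq h.std.toFv 3 4)]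
      calc p 2 * p 4 * (p 3 * p 4) = p 2 * p 4 * (p 4 * p 3) := by rw [h.std.comm 3 4]
        _ = p 2 * (p 4 * p 4) * p 3 := by group
        _ = aa p := by rw [h.std.sq, mul_one]

theorem relIndex_le_two {E : Subgroup G} (hE : E ≤ Std.T (S : Subgroup G) p) :
    (centralizer (Vt p : Set G)).relIndex E ≤ 2 := by
  have h24 : p 2 * p 4 ∈ Vt p := (mem_Vt h.std.toFv).2 (Or.inr (Or.inr (Or.inl rfl)))
  have h1 : (centralizer (Vt p : Set G)).relIndex E ≤ (⊥ : Subgroup G).relIndex (zpowers (aa p)) := by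
    refine NO3S.Fld.relIndex_le_of_map (fun e => e * (p 2 * p 4) * e⁻¹ * (p 2 * p 4)⁻¹)
      (fun e he => comm_za h (hE he) h24) fun a ha b hb hab => ?_
    have e1 : a * (p 2 * p 4) * a⁻¹ = b * (p 2 * p 4) * b⁻¹ := by
      have := mem_bot.1 hab
      rw [inv_mul_eq_one] at this
      exact mul_right_cancel this
    by_cases hac : a ∈ centralizer (Vt p : Set G)
    · by_cases hbc : b ∈ centralizer (Vt p : Set G)
      · exact mul_mem (inv_mem hac) hbc
      · exfalso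
        have e2 := ((act_t h (hE hb)).resolve_left hbc).1
        have e3 := comm_iff.2 (mem_centralizer_iff.1 hac _ h24).symm
        exact absurd (h.std.inj (mul_right_cancel (e3.symm.trans (e1.trans e2)))) (by decide)
    · by_cases hbc : b ∈ centralizer (Vt p : Set G)
      · exfalso
        have e2 := ((act_t h (hE ha)).resolve_left hac).1
        have e3 := comm_iff.2 (mem_centralizer_iff.1 hbc _ h24).symm
        exact absurd (h.std.inj (mul_right_cancel (e3.symm.trans (e1.symm.trans e2)))) (by decide)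
      · exact two_t h (hE ha) (hE hb) hac hbc
  rwa [relIndex_bot_left, card_a h] at h1

/-- `C_{V_τ}(E) = ⟨a⟩` -/
theorem inf_cent {E : Subgroup G} (hE : E ≤ Std.T (S : Subgroup G) p) (hne : ¬ E ≤ centralizer (Vt p : Set G)) :
    Vt p ⊓ centralizer (E : Set G) = zpowers (aa p) := by
  apply le_antisymm
  · rintro v ⟨hv, hvc⟩
    obtain ⟨e, he, hec⟩ := SetLike.not_le_iff_exists.1 hne
    exact (mem_za h).2 (fix_t h (hE he) hec hv (mem_centralizer_iff.1 hvc e he))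
  · rw [zpowers_le]
    exact ⟨aa_Vt h, mem_centralizer_iff.2 fun e he => comm_iff.1 (h.std.T_a (hE he))⟩

theorem noN {E : Subgroup G} (hE : E ≤ Std.T (S : Subgroup G) p) (hne : ¬ E ≤ centralizer (Vt p : Set G)) :
    Nat.card E * Nat.card ↥(Vt p ⊓ centralizer (E : Set G)) ≤
      Nat.card (Vt p) * Nat.card ↥(E ⊓ centralizer (Vt p : Set G)) := by
  rw [inf_cent h hE hne, card_a h, card_Vt h.std.toFv]
  have h1 := NO3S.Fld.relIndex_mul_card E (centralizer (Vt p : Set G))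
  have h2 := relIndex_le_two h hE
  have h3 : Nat.card E ≤ 2 * Nat.card ↥(E ⊓ centralizer (Vt p : Set G)) := by
    rw [← h1]
    exact Nat.mul_le_mul_right _ h2
  omega

theorem lineN {E : Subgroup G} (hE : E ≤ Std.T (S : Subgroup G) p) (hne : ¬ E ≤ centralizer (Vt p : Set G)) :
    Vt p ⊓ centralizer (E : Set G) = zpowers (aa p) ∧ CommIn E (Vt p) (zpowers (aa p)) ∧
      ∀ Z' : Subgroup G, CommIn E (Vt p) Z' → zpowers (aa p) ≤ Z' := by
  refine ⟨inf_cent h hE hne, fun e he u hu => comm_za h (hE he) hu, fun Z' hZ' => ?_⟩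
  obtain ⟨e, he, hec⟩ := SetLike.not_le_iff_exists.1 hne
  rw [zpowers_le, ← comm_t h (hE he) hec]
  exact hZ' e he _ ((mem_Vt h.std.toFv).2 (Or.inr (Or.inr (Or.inl rfl))))

theorem irrN {E K : Subgroup G} (hE : E ≤ Std.T (S : Subgroup G) p) (hne : ¬ E ≤ centralizer (Vt p : Set G))
    (hK : K ≤ Vt p) (hn : cl E (XT (S : Subgroup G) P p) ≤ normalizer (K : Set G)) : K = ⊥ ∨ K = Vt p := by
  by_cases hb : K = ⊥
  · exact Or.inl hb
  right
  obtain ⟨e, he, hec⟩ := SetLike.not_le_iff_exists.1 hne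
  obtain ⟨h24, h34⟩ := (act_t h (hE he)).resolve_left hec
  obtain ⟨x, hx, hσ⟩ := XT_full h (σ := Equiv.swap 3 4) (by decide) (by decide)
  have x23 : x * (p 2 * p 3) * x⁻¹ = p 2 * p 4 := hσ 2 3 (by decide) (by decide) (by decide)
  have x24 : x * (p 2 * p 4) * x⁻¹ = p 2 * p 3 := hσ 2 4 (by decide) (by decide) (by decide)
  have x34 : x * (p 3 * p 4) * x⁻¹ = p 3 * p 4 := by
    rw [hσ 3 4 (by decide) (by decide) (by decide)]
    exact h.std.comm _ _
  have hen : ∀ v ∈ K, e * v * e⁻¹ ∈ K := fun v hv =>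
    (mem_normalizer_iff.1 (hn (le_cl E _ he)) v).1 hv
  have hxn : ∀ v ∈ K, (x * e * x⁻¹) * v * (x * e * x⁻¹)⁻¹ ∈ K := fun v hv =>
    (mem_normalizer_iff.1 (hn (cj_le_cl hx ⟨e, he, rfl⟩)) v).1 hv
  have hfin : p 2 * p 4 ∈ K → p 3 * p 4 ∈ K → K = Vt p := fun h1 h2 => by
    refine le_antisymm hK fun v hv => ?_
    rcases (mem_Vt h.std.toFv).1 hv with rfl | rfl | rfl | rfl
    · exact one_mem _
    · have h3 := mul_mem h1 h2
      have e3 : p 2 * p 4 * (p 3 * p 4) = p 2 * p 3 := by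
        calc p 2 * p 4 * (p 3 * p 4) = p 2 * p 4 * (p 4 * p 3) := by rw [h.std.comm 3 4]
          _ = p 2 * (p 4 * p 4) * p 3 := by group
          _ = _ := by rw [h.std.sq, mul_one]
      rwa [e3] at h3
    · exact h1
    · exact h2
  obtain ⟨v, hv, hv1⟩ : ∃ v ∈ K, v ≠ 1 := by
    by_contra hcon
    push Not at hcon
    exact hb ((eq_bot_iff_forall _).2 hcon)
  rcases (mem_Vt h.std.toFv).1 (hK hv) with rfl | rfl | rfl | rfl
  · exact absurd rfl hv1
  · have h1 := hxn _ hv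
    have e1 : (x * e * x⁻¹) * (p 2 * p 3) * (x * e * x⁻¹)⁻¹ = p 3 * p 4 := by
      calc (x * e * x⁻¹) * (p 2 * p 3) * (x * e * x⁻¹)⁻¹
          = x * (e * (x⁻¹ * (p 2 * p 3) * x) * e⁻¹) * x⁻¹ := by group
        _ = x * (e * (x⁻¹ * (x * (p 2 * p 4) * x⁻¹) * x) * e⁻¹) * x⁻¹ := by rw [x24]
        _ = x * (e * (p 2 * p 4) * e⁻¹) * x⁻¹ := by group
        _ = _ := by rw [h24, x34]
    rw [e1] at h1
    have h2 := hen _ h1
    rw [h34] at h2
    exact hfin h2 h1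
  · have h1 := hen _ hv
    rw [h24] at h1
    exact hfin hv h1
  · have h1 := hen _ hv
    rw [h34] at h1
    exact hfin h1 hv

/-- **`hN`** : every `A ≤ S`, `A ≰ O₂(P)` has an `S`-conjugate which moves `V_τ`. -/
theorem exists_s {A : Subgroup G} (hA : A ≤ (S : Subgroup G)) (hAP : ¬ A ≤ o2 P) :
    ∃ s ∈ (S : Subgroup G), ¬ cj s A ≤ centralizer (Vt p : Set G) := by
  by_contra hcon
  push Not at hcon
  apply hAP
  intro a ha
  obtain ⟨s, hs, hs1⟩ := h.std.tau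
  have h1 : a ∈ centralizer (Vt p : Set G) := by
    have := hcon 1 (one_mem _)
    rw [cj_one] at this
    exact this ha
  have h2 : s * a * s⁻¹ ∈ centralizer (Vt p : Set G) := hcon s hs ⟨a, ha, rfl⟩
  have h4 := h.std.fix a (hA ha)
  -- from `p i p 4` to `p i`
  have hfix : ∀ i, a * (p i * p 4) * a⁻¹ = p i * p 4 → a * p i * a⁻¹ = p i := fun i e => by
    rw [cm, h4] at e
    exact mul_right_cancel e
  have f2 : a * p 2 * a⁻¹ = p 2 := hfix 2 (comm_iff.2 (mem_centralizer_iff.1 h1 _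
    ((mem_Vt h.std.toFv).2 (Or.inr (Or.inr (Or.inl rfl))))).symm)
  have f3 : a * p 3 * a⁻¹ = p 3 := hfix 3 (comm_iff.2 (mem_centralizer_iff.1 h1 _
    ((mem_Vt h.std.toFv).2 (Or.inr (Or.inr (Or.inr rfl))))).symm)
  obtain ⟨σ, hσ⟩ := h.std.perm s (h.std.le hs)
  have s4 : σ 4 = 4 := by
    have := h.std.fix s hs
    rw [hσ] at this
    exact h.std.inj this
  have h01 : (σ 0 = 2 ∧ σ 1 = 3) ∨ (σ 0 = 3 ∧ σ 1 = 2) := by
    rw [cm, hσ, hσ] at hs1
    exact h.std.pair_inj (fun e => absurd (σ.injective e) (by decide)) (by decide) hs1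
  have hs' : ∀ i, s * (p i * p 4) * s⁻¹ ∈ Vt p → a * p i * a⁻¹ = p i := fun i hi => by
    refine hfix i ?_
    have e := comm_iff.2 (mem_centralizer_iff.1 h2 _ hi).symm
    calc a * (p i * p 4) * a⁻¹ = s⁻¹ * ((s * a * s⁻¹) * (s * (p i * p 4) * s⁻¹) * (s * a * s⁻¹)⁻¹) * s := by group
      _ = s⁻¹ * (s * (p i * p 4) * s⁻¹) * s := by rw [e]
      _ = _ := by group
  have hm : ∀ i, (σ i = 2 ∨ σ i = 3) → a * p i * a⁻¹ = p i := fun i hi => by
    refine hs' i ?_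
    rw [cm, hσ, hσ, s4, mem_Vt h.std.toFv]
    rcases hi with e | e <;> rw [e]
    · exact Or.inr (Or.inr (Or.inl rfl))
    · exact Or.inr (Or.inr (Or.inr rfl))
  have f0 : a * p 0 * a⁻¹ = p 0 := hm 0 (by rcases h01 with ⟨e, -⟩ | ⟨e, -⟩ <;> simp [e])
  have f1 : a * p 1 * a⁻¹ = p 1 := hm 1 (by rcases h01 with ⟨-, e⟩ | ⟨-, e⟩ <;> simp [e])
  have hall : ∀ i, a * p i = p i * a := fun i => by
    rw [← comm_iff]
    fin_cases i
    · exact f0
    · exact f1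
    · exact f2
    · exact f3
    · exact h4
  refine NO3S.MFive.Inst.cS h (hA ha) fun v hv => ?_
  rw [h.gen] at hv
  have h5 : closure (Set.range p) ≤ centralizer ({a} : Set G) := by
    rw [closure_le]
    rintro _ ⟨i, rfl⟩
    exact mem_centralizer_singleton_iff.2 (hall i).symm
  exact (mem_centralizer_singleton_iff.1 (h5 hv)).symm

end five

end Cfsg.Agent.Omega.CaseLQ.FiveI

end

-- merged: Cfsg.Agent.Mrg.Omega.CaseLQ.FiveLoc
section

/-!
# One `S₅`, the weird parabolics: the local module and the extremal class (#24136 (0), (i))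

`CaseL S P`, `FiveL S P p`, `T = Std.T S p = BB S P`, `WY S P T Y`, `Y ≤ C_G(n)`; `X = XT S P p`, `H = X Y`,
`U = ⟨Ω₁(Z(T))^H⟩`, `R = Λ = ⟨n⟩`.

* `FS S P p Y` : this situation;
* `FS.lmd`, `FS.loc` : `LMd S P T Y ⟨n⟩ H U`, `Loc ..`; `FS.Vt_le_U`;
* `FS.sit` : `CaseLQ.Sit H U T (o2 P) (Vt p) ⟨a⟩ ⟨n⟩ X Y`;
* **`FS.exists_E`** : all `MaxMin U H E`, `E ≤ T` centralise `V_τ`; one of them is not in `O₂(Y)`.
-/

set_option autoImplicit false
set_option linter.unusedSectionVars false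

namespace Cfsg.Agent.Omega.CaseLQ.FiveI

open Subgroup Cfsg Cfsg.Agent.ZN Cfsg.Agent.ZN.ChoiceBase
open Cfsg.Agent.ZN.ChoiceSit (Syl)
open Cfsg.Agent.Omega.MinPar (IsParS)
open Cfsg.Agent.Omega.FFThm (OffM ElemM StmtM)
open Cfsg.Agent.Omega.NTwo
open Cfsg.Agent.Omega.NO3S.Level (nxt CaseL)
open Cfsg.Agent.Omega.NO3S.RedC (MaxMin DX GX)
open Cfsg.Agent.Omega.NO3S.WY
open Cfsg.Agent.Omega.NO3S.Sym.Light (FiveL)
open Cfsg.Agent.Omega.NO3b.EZero (cl cj_le_cl le_cl cl_le le_normalizer_cl cent_symm cj_cent)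
open Cfsg.Agent.Omega.NO1.BestOff (Best)

universe u

variable {G : Type u} [Group G] [Finite G]

/-- **The situation.** -/
structure FS (S : Sylow 2 G) (P : Subgroup G) (p : Fin 5 → G) (Y : Subgroup G) : Prop where
  five : FiveL S P p
  bb : BB (S : Subgroup G) P = Std.T (S : Subgroup G) p
  wy : WY S P (Std.T (S : Subgroup G) p) Y
  cen : Y ≤ centralizer ({nn p} : Set G)

/-- `H = X Y` -/
abbrev HH (S P : Subgroup G) (p : Fin 5 → G) (Y : Subgroup G) : Subgroup G := XT S P p ⊔ Y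

/-- `U = ⟨Ω₁(Z(T))^H⟩` -/
abbrev UU (S P : Subgroup G) (p : Fin 5 → G) (Y : Subgroup G) : Subgroup G := ZN.zl (Std.T S p) (HH S P p Y)

namespace FS

variable {S : Sylow 2 G} {P : Subgroup G} {p : Fin 5 → G} {Y : Subgroup G} (f : FS S P p Y)
include f

theorem T2 : IsPGroup 2 (Std.T (S : Subgroup G) p) := S.isPGroup'.to_le Std.T_le

theorem n_zc : nn p ∈ zc (Std.T (S : Subgroup G) p) := f.five.std.mem_zcT.2 (Or.inr (Or.inl rfl))

theorem a_zc : aa p ∈ zc (Std.T (S : Subgroup G) p) := f.five.std.mem_zcT.2 (Or.inr (Or.inr (Or.inl rfl)))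

/-- `n ∈ Z_J` -/
theorem n_ZJ : nn p ∈ NO3S.WY.ZJ (S : Subgroup G) P := by
  have h1 : OM.SwapK.WL S (o2 P) := OM.SwapK.WL.of_top (Node.MulG.top_caseL f.wy.cl)
  have h2 := h1.zc_B
  have h3 : OM.SwapK.BK (S : Subgroup G) (o2 P) = Std.T (S : Subgroup G) p := f.bb
  have h4 := f.n_zc
  rw [← h3, h2] at h4
  exact h4

theorem T_X : Std.T (S : Subgroup G) p ≤ XT (S : Subgroup G) P p := T_XT f.five

theorem X_C : XT (S : Subgroup G) P p ≤ centralizer (zpowers (nn p) : Set G) := by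
  rw [le_centralizer_iff, zpowers_le]
  exact mem_centralizer_iff.2 fun x hx => by
    have := mem_centralizer_singleton_iff.1 (XT_n hx)
    exact this

theorem Y_C : Y ≤ centralizer (zpowers (nn p) : Set G) := by
  rw [le_centralizer_iff, zpowers_le]
  exact mem_centralizer_iff.2 fun x hx => mem_centralizer_singleton_iff.1 (f.cen hx)

theorem cent_eq : centralizer (zpowers (nn p) : Set G) = centralizer ({nn p} : Set G) := by
  apply le_antisymm
  · exact centralizer_le (Set.singleton_subset_iff.2 (mem_zpowers _))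
  · rw [le_centralizer_iff, zpowers_le]
    exact mem_centralizer_iff.2 fun x hx => mem_centralizer_singleton_iff.1 hx

theorem X_Q : XT (S : Subgroup G) P p ≤ normalizer (o2 P : Set G) := XT_P.trans (ZN.le_normalizer_o2 P)

theorem X_GX : XT (S : Subgroup G) P p ≤ GX (S : Subgroup G) P Y :=
  f.X_Q.trans (f.wy.NT_le (NO3S.RedC.DX_le_P _ _ _) f.wy.o2P_le)

theorem n_ne : zpowers (nn p) ≠ (⊥ : Subgroup G) := fun h => f.five.std.n_ne_one (zpowers_eq_bot.1 h)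

/-- **The local module.** -/
theorem lmd : LMd S P (Std.T (S : Subgroup G) p) Y (zpowers (nn p)) (HH (S : Subgroup G) P p Y)
    (UU (S : Subgroup G) P p Y) :=
  LMd.zl f.wy f.bb.le (zpowers_le.2 f.n_ZJ) f.n_ne (by
    rw [f.cent_eq]
    exact Node.ELXUni.syl_T f.five inf_le_right le_rfl) (f.T_X.trans le_sup_left) le_sup_right
    (sup_le f.X_GX f.wy.Y_le) (sup_le f.X_C f.Y_C)

theorem loc : Loc S P (Std.T (S : Subgroup G) p) Y (zpowers (nn p)) (HH (S : Subgroup G) P p Y)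
    (UU (S : Subgroup G) P p Y) := f.lmd.toLoc

theorem a_U : aa p ∈ UU (S : Subgroup G) P p Y := MinSimple.VModule.zc_le_zl _ _ f.a_zc

theorem n_U : nn p ∈ UU (S : Subgroup G) P p Y := MinSimple.VModule.zc_le_zl _ _ f.n_zc

theorem H_U : HH (S : Subgroup G) P p Y ≤ normalizer (UU (S : Subgroup G) P p Y : Set G) := f.lmd.Un

theorem Vt_le_U : Vt p ≤ UU (S : Subgroup G) P p Y := by
  have hmv : ∀ x ∈ XT (S : Subgroup G) P p, ∀ u ∈ UU (S : Subgroup G) P p Y,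
      x * u * x⁻¹ ∈ UU (S : Subgroup G) P p Y := fun x hx u hu =>
    (mem_normalizer_iff.1 (f.H_U ((le_sup_left : XT (S : Subgroup G) P p ≤ _) hx)) u).1 hu
  obtain ⟨x, hx, hσ⟩ := XT_full f.five (σ := Equiv.swap 3 4) (by decide) (by decide)
  have h24 : p 2 * p 4 ∈ UU (S : Subgroup G) P p Y := by
    have h1 := hmv x hx _ f.a_U
    have h2 : x * (p 2 * p 3) * x⁻¹ = p 2 * p 4 := hσ 2 3 (by decide) (by decide) (by decide)
    rwa [show x * aa p * x⁻¹ = p 2 * p 4 from h2] at h1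
  rw [Vt, closure_le]
  rintro _ (rfl | rfl)
  · exact f.a_U
  · exact h24

/-- `C_U(T) ≤ ⟨a⟩⟨n⟩` -/
theorem fix : UU (S : Subgroup G) P p Y ⊓ centralizer (Std.T (S : Subgroup G) p : Set G) ≤
    zpowers (aa p) ⊔ zpowers (nn p) := by
  refine f.loc.cUT.trans fun x hx => ?_
  rcases f.five.std.mem_zcT.1 hx with rfl | rfl | rfl | rfl
  · exact one_mem _
  · exact mem_sup_right (mem_zpowers _)
  · exact mem_sup_left (mem_zpowers _)
  · rw [← f.five.std.an]
    exact mul_mem (mem_sup_left (mem_zpowers _)) (mem_sup_right (mem_zpowers _))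

/-- `Y` moves `⟨a⟩` -/
theorem mv : ¬ Y ≤ normalizer (zpowers (aa p) : Set G) := by
  intro h1
  apply f.wy.mv
  have h2 : Y ≤ centralizer ({aa p} : Set G) := fun y hy => mem_cent.2 (by
    have h3 := (mem_normalizer_iff.1 (h1 hy) (aa p)).1 (mem_zpowers _)
    rcases (mem_za f.five).1 h3 with e | e
    · exfalso
      apply f.five.std.a_ne_one
      calc aa p = y⁻¹ * (y * aa p * y⁻¹) * y := by group
        _ = 1 := by rw [e]; group
    · exact e)
  intro y hy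
  have hn := mem_cent.1 (f.cen hy)
  have ha := mem_cent.1 (h2 hy)
  refine mem_centralizer_iff.2 fun x hx => ?_
  rcases f.five.std.mem_zcT.1 hx with rfl | rfl | rfl | rfl
  · simp
  · exact (comm_iff.1 hn).symm
  · exact (comm_iff.1 ha).symm
  · refine (comm_iff.1 ?_).symm
    rw [← f.five.std.an, cm, hn, ha]

theorem Vt_V : Vt p ≤ zl (S : Subgroup G) P := by
  rw [Vt, closure_le]
  rintro _ (rfl | rfl)
  · exact mul_mem (f.five.p_mem 2) (f.five.p_mem 3)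
  · exact mul_mem (f.five.p_mem 2) (f.five.p_mem 4)

theorem QVt : o2 P ≤ centralizer (Vt p : Set G) := fun q hq => mem_centralizer_iff.2 fun v hv =>
  (NO3S.MFive.Inst.VcQ f.five hq (f.Vt_V hv)).symm

/-- **`Sit`** -/
theorem sit : Sit (HH (S : Subgroup G) P p Y) (UU (S : Subgroup G) P p Y) (Std.T (S : Subgroup G) p) (o2 P) (Vt p)
    (zpowers (aa p)) (zpowers (nn p)) (XT (S : Subgroup G) P p) Y where
  Uc := f.loc.Uc
  Us := f.loc.Us
  HU := f.H_U
  TH := f.T_X.trans le_sup_left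
  T2 := f.T2
  QT := f.wy.QT
  TZ := fun x hx => by
    rw [mem_normalizer_iff_cj]
    refine Subgroup.eq_of_le_of_card_ge ?_ (card_cj _ _).ge
    rintro _ ⟨v, hv, rfl⟩
    show x * v * x⁻¹ ∈ zpowers (aa p)
    rcases (mem_za f.five).1 hv with rfl | rfl
    · simp
    · rw [f.five.std.T_a hx]; exact mem_zpowers _
  UT := f.loc.UT
  NU := f.Vt_le_U
  QN := f.QVt
  ZN := za_Vt f.five
  Zne := fun h => f.five.std.a_ne_one (zpowers_eq_bot.1 h)
  card := by rw [card_a f.five, card_Vt f.five.std.toFv]; norm_num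
  PH := le_sup_left
  TP := f.T_X
  PN := XT_norm f.five
  PQ := f.X_Q
  PC := inf_le_right
  YH := le_sup_right
  TY := f.wy.T_Y
  oY := f.wy.o2Y_T
  mv := f.mv
  HL := sup_le f.X_C f.Y_C
  fix := f.fix
  noN := fun E hE _ hne => noN f.five hE hne
  lineN := fun E hE ho => lineN f.five hE ho.ne
  irrN := fun E hE ho K hK hn => irrN f.five hE ho.ne hK hn
  oneY := oneY_of FF.Glob.ffthmM f.loc.Uc f.loc.Us f.H_U f.wy.syl f.wy.min f.wy.c2 f.wy.mv le_sup_right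
    (ZN.zl_le (MinSimple.VModule.zc_le_zl _ _) (le_sup_right.trans f.H_U)) f.wy.QT
    (f.QVt.trans (centralizer_le (za_Vt f.five))) f.wy.nQ fun x hx => by
      rw [mem_normalizer_iff_cj]
      refine Subgroup.eq_of_le_of_card_ge ?_ (card_cj _ _).ge
      rintro _ ⟨v, hv, rfl⟩
      show x * v * x⁻¹ ∈ zpowers (aa p)
      rcases (mem_za f.five).1 hv with rfl | rfl
      · simp
      · rw [f.five.std.T_a hx]; exact mem_zpowers _

/-- some best offender in `T` moves `U` -/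
theorem exists_off : ∃ A ≤ HH (S : Subgroup G) P p Y, OffM (UU (S : Subgroup G) P p Y) A := by
  obtain ⟨A, hA, hB, hne⟩ := f.lmd.exists_best fun A hA hP => by
    obtain ⟨s, hs, h1⟩ := exists_s f.five hA hP
    exact ⟨s, hs, fun hc => h1 (hc.trans (centralizer_le f.Vt_le_U))⟩
  exact ⟨A, hA.trans (f.T_X.trans le_sup_left), hB.offM le_rfl hne⟩

theorem sylH : Syl (Std.T (S : Subgroup G) p) (HH (S : Subgroup G) P p Y) :=
  Node.ELXUni.syl_T f.five (f.T_X.trans le_sup_left) ((sup_le f.X_C f.Y_C).trans f.cent_eq.le)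

/-- **(0), (i)** -/
theorem exists_E : (∀ E, MaxMin (UU (S : Subgroup G) P p Y) (HH (S : Subgroup G) P p Y) E →
      E ≤ Std.T (S : Subgroup G) p → E ≤ centralizer (Vt p : Set G)) ∧
    ∃ E, MaxMin (UU (S : Subgroup G) P p Y) (HH (S : Subgroup G) P p Y) E ∧ E ≤ Std.T (S : Subgroup G) p ∧ ¬ E ≤ o2 Y := by
  refine (f.sit.toC f.wy.syl).exists_E f.sylH f.exists_off fun A hA _ hX hY => ?_
  have hn : HH (S : Subgroup G) P p Y ≤ normalizer (centralizer (A : Set G) : Set G) := norm_cent (sup_le hX hY)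
  rw [le_centralizer_iff]
  refine ZN.zl_le ?_ hn
  intro v hv
  exact mem_centralizer_iff.2 fun x hx => (ChoiceBase.mem_zc.1 hv).2.2 x (hA hx)

end FS

end Cfsg.Agent.Omega.CaseLQ.FiveI

end

-- merged: Cfsg.Agent.Mrg.Omega.CaseLQ.FiveFr
section

/-!
# One `S₅`, the weird parabolics: the frame `PsiT.FrG`, `K♯`, the passive family (#25080 (a), (c))

`FS S P p Y`, `U = UU S P p Y`, `H = HH S P p Y`, `T = Std.T S p`.

* `exists_tj` : some `t ∈ T` acts as `(2 3)` on the letters; `comm_tj` : `[V_P, t] = {1, a}`;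
* `FS.frG_of_yb` : helper602's frame from `YB`;
* `FS.ys`, `FS.ge` : helper952's `YS`, `GE` for `Fam U H T`;
* `FS.exists_fr` : natural blocks of `Y`: the frame, with the position of the lines;
* **`FS.hloc`**, **`FS.exists_fam`** : natural blocks: `KSh S P Y U K 𝒜`, `FamT S P Y V 𝓕`.
-/

set_option autoImplicit false
set_option linter.unusedSectionVars false

namespace Cfsg.Agent.Omega.CaseLQ.FiveI

open Subgroup Cfsg Cfsg.Agent.ZN Cfsg.Agent.ZN.ChoiceBase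
open Cfsg.Agent.ZN.ChoiceSit (Syl)
open Cfsg.Agent.Omega.FFThm (OffM ElemM NoOverM StmtM NatKM)
open Cfsg.Agent.Omega.FrameFF (cv)
open Cfsg.Agent.Omega.NTwo
open Cfsg.Agent.Omega.OM
open Cfsg.Agent.Omega.OM.GLev (GE)
open Cfsg.Agent.Omega.OM.Lev.Low (YB)
open Cfsg.Agent.Omega.NO3S.RedC (MaxMin DX GX)
open Cfsg.Agent.Omega.NO3S.CaseLW.YBX (Xc mem_Xc Xc_le)
open Cfsg.Agent.Omega.NO3S.WY
open Cfsg.Agent.Omega.NO3S.Sym.Light (FiveL)
open Cfsg.Agent.Omega.NO1.BestOff (Best)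
open Cfsg.Agent.Omega.CaseLQ.PsiYB

universe u w

variable {G : Type u} [Group G] [Finite G] {S : Sylow 2 G} {P : Subgroup G} {p : Fin 5 → G} {Y : Subgroup G}

/-- some `t ∈ T` acts as `(2 3)` -/
theorem exists_tj (h : FiveL S P p) : ∃ t ∈ Std.T (S : Subgroup G) p, ∀ i, t * p i * t⁻¹ = p (Equiv.swap 2 3 i) := by
  obtain ⟨t, ht, h1⟩ := NO3S.MFive.Inst.std_all h.std NO3S.MFive.Inst.swap23_mem
  refine ⟨t, Std.mem_T.2 ⟨ht, ?_⟩, h1⟩
  rw [nn, cm, h1, h1]
  rfl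

/-- `[V_P, t] ≤ {1, a}` -/
theorem comm_tj (h : FiveL S P p) {t : G} (ht : ∀ i, t * p i * t⁻¹ = p (Equiv.swap 2 3 i)) {v : G}
    (hv : v ∈ zl (S : Subgroup G) P) : t * v * t⁻¹ * v⁻¹ = 1 ∨ t * v * t⁻¹ * v⁻¹ = aa p := by
  have hp : ∀ i, t * p i * t⁻¹ * (p i)⁻¹ = 1 ∨ t * p i * t⁻¹ * (p i)⁻¹ = aa p := by
    intro i
    rw [ht, h.std.pinv]
    fin_cases i
    · left; exact h.std.sq 0
    · left; exact h.std.sq 1
    · right; exact h.std.comm 3 2
    · right; rfl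
    · left; exact h.std.sq 4
  have hpi : ∀ i, p i ∈ zl (S : Subgroup G) P := h.p_mem
  have hci : ∀ i j, t * (p i * p j) * t⁻¹ * (p i * p j)⁻¹ =
      (t * p i * t⁻¹ * (p i)⁻¹) * (t * p j * t⁻¹ * (p j)⁻¹) := by
    intro i j
    rw [cm, ht, ht, mul_inv_rev, h.std.pinv, h.std.pinv]
    set a := p (Equiv.swap 2 3 i)
    set b := p (Equiv.swap 2 3 j)
    have e1 : p j * p i = p i * p j := h.std.comm _ _
    have e2 : b * p i = p i * b := h.std.comm _ _
    calc a * b * (p j * p i) = a * b * (p i * p j) := by rw [e1]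
      _ = a * (b * p i) * p j := by group
      _ = a * (p i * b) * p j := by rw [e2]
      _ = a * p i * (b * p j) := by group
  rcases h.elts hv with rfl | ⟨i, rfl⟩ | ⟨i, j, -, rfl⟩
  · left; simp
  · exact hp i
  · rw [hci]
    rcases hp i with e1 | e1 <;> rcases hp j with e2 | e2 <;> rw [e1, e2]
    · left; simp
    · right; simp
    · right; simp
    · left; exact h.std.asq

namespace FS

variable (f : FS S P p Y)
include f

/-- **The frame of (ii), version 2.** -/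
theorem frG_of_yb {κ : Type w} {X Lam : Subgroup G} {Ni c : κ → Subgroup G}
    (yb : YB (Std.T (S : Subgroup G) p) X Ni c) (WX : Vt p ≤ X)
    (CQ : X ⊓ centralizer (o2 P : Set G) ≤ zl (S : Subgroup G) P)
    (nz : ∃ i, aa p ∉ Ni i) (LN : ∀ i, ∀ x ∈ Lam, x ∈ X → x ∈ Ni i) :
    PsiT.FrG X (Std.T (S : Subgroup G) p) (o2 P) (Vt p) (aa p) Lam Ni c where
  comm := yb.ab
  BU := yb.norm
  QB := f.wy.QT
  perm := fun t ht i => yb.perm t ht i
  cU := yb.cX
  ne := yb.ne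
  inf := yb.triv
  cm := fun i m hm => yb.comm m i hm
  VU := WX
  BV := T_norm_Vt f.five
  VQ := le_centralizer_iff.1 f.QVt
  cov := fun i w hw => yb.fix i w (WX hw)
  zV := aa_Vt f.five
  mv := fun v hv hv1 => by
    obtain ⟨t, ht, hσ⟩ := exists_tj f.five
    have htc : t ∉ centralizer (Vt p : Set G) := fun hc => by
      have e1 := comm_iff.2 (mem_centralizer_iff.1 hc _
        ((mem_Vt f.five.std.toFv).2 (Or.inr (Or.inr (Or.inl rfl))))).symm
      rw [cm, hσ, hσ] at e1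
      have e2 : p 3 * p 4 = p 2 * p 4 := e1
      exact absurd (f.five.std.inj (mul_right_cancel e2)) (by decide)
    rcases (mem_Vt f.five.std.toFv).1 hv with rfl | rfl | rfl | rfl
    · exact absurd rfl hv1
    · exact Or.inl rfl
    · exact Or.inr ⟨t, ht, comm_t f.five ht htc⟩
    · refine Or.inr ⟨t, ht, ?_⟩
      rw [((act_t f.five ht).resolve_left htc).2, inv_eq_of_mul_eq_one_left (pair_sq f.five.std.toFv 3 4)]
      calc p 2 * p 4 * (p 3 * p 4) = p 2 * p 4 * (p 4 * p 3) := by rw [f.five.std.comm 3 4]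
        _ = p 2 * (p 4 * p 4) * p 3 := by group
        _ = aa p := by rw [f.five.std.sq, mul_one]
  tr := by
    obtain ⟨t, ht, hσ⟩ := exists_tj f.five
    have htc : t ∉ centralizer (Vt p : Set G) := fun hc => by
      have e1 := comm_iff.2 (mem_centralizer_iff.1 hc _
        ((mem_Vt f.five.std.toFv).2 (Or.inr (Or.inr (Or.inl rfl))))).symm
      rw [cm, hσ, hσ] at e1
      have e2 : p 3 * p 4 = p 2 * p 4 := e1
      exact absurd (f.five.std.inj (mul_right_cancel e2)) (by decide)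
    exact ⟨p 2 * p 4, (mem_Vt f.five.std.toFv).2 (Or.inr (Or.inr (Or.inl rfl))), t, ht, comm_t f.five ht htc,
      fun u hu huQ => comm_tj f.five hσ (CQ ⟨hu, huQ⟩)⟩
  nz := nz
  LamN := LN

theorem zc_U : zc (Std.T (S : Subgroup G) p) ≤ UU (S : Subgroup G) P p Y := MinSimple.VModule.zc_le_zl _ _

theorem VU' : zl (Std.T (S : Subgroup G) p) Y ≤ UU (S : Subgroup G) P p Y :=
  ZN.zl_le f.zc_U (le_sup_right.trans f.H_U)

/-- **[Y]** -/
theorem ys : YS (UU (S : Subgroup G) P p Y) (HH (S : Subgroup G) P p Y) (Std.T (S : Subgroup G) p) Y where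
  Uc := f.loc.Uc
  Us := f.loc.Us
  HU := f.H_U
  UT := f.loc.UT
  syl := f.wy.syl
  min := f.wy.min
  c2 := f.wy.c2
  mv := f.wy.mv
  YH := le_sup_right
  VU := f.VU'

theorem ge (noV : NoOverM (zl (Std.T (S : Subgroup G) p) Y) Y) :
    GE (Std.T (S : Subgroup G) p) Y (UU (S : Subgroup G) P p Y)
      (Fam (UU (S : Subgroup G) P p Y) (HH (S : Subgroup G) P p Y) (Std.T (S : Subgroup G) p)) where
  hm := f.ys.hm
  fam := bfam (f.ys.TY.trans f.ys.YH)
  elem := Cfsg.Agent.PLocal.ThompsonJ.isElementaryAbelian_iff.2 ⟨f.ys.U_mul, f.ys.Us⟩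
  norm := f.ys.YH.trans f.ys.HU
  VX := f.ys.VU
  QC := f.ys.cap
  noOver := noV

theorem WX : Vt p ≤ Xc (UU (S : Subgroup G) P p Y)
    (Fam (UU (S : Subgroup G) P p Y) (HH (S : Subgroup G) P p Y) (Std.T (S : Subgroup G) p)) := by
  intro w hw
  refine mem_Xc.2 ⟨f.Vt_le_U hw, fun A hA a ha => ?_⟩
  rcases hA.2 with h1 | h1
  · exact ((mem_centralizer_iff.1 (f.exists_E.1 A h1 hA.1 ha)) w hw).symm
  · exact ((mem_centralizer_iff.1 (h1 ha)) w (f.Vt_le_U hw)).symm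

theorem zT : zc (Std.T (S : Subgroup G) p) ≤ zpowers (nn p) ⊔ zpowers (aa p) := by
  intro x hx
  rcases f.five.std.mem_zcT.1 hx with rfl | rfl | rfl | rfl
  · exact one_mem _
  · exact mem_sup_left (mem_zpowers _)
  · exact mem_sup_right (mem_zpowers _)
  · rw [← f.five.std.na]
    exact mul_mem (mem_sup_left (mem_zpowers _)) (mem_sup_right (mem_zpowers _))

/-- the frame from the blocks of `Y` -/
theorem fr_of {κ : Type w} {Ni c : κ → Subgroup G}
    (yb : YB (Std.T (S : Subgroup G) p) (Xc (UU (S : Subgroup G) P p Y)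
      (Fam (UU (S : Subgroup G) P p Y) (HH (S : Subgroup G) P p Y) (Std.T (S : Subgroup G) p))) Ni c)
    (hex : ∃ l, ¬ zc (Std.T (S : Subgroup G) p) ≤ Ni l)
    (hcen : ∀ x ∈ UU (S : Subgroup G) P p Y, (∀ A ∈ Fam (UU (S : Subgroup G) P p Y) (HH (S : Subgroup G) P p Y)
      (Std.T (S : Subgroup G) p), ∀ y ∈ Y, ∀ a ∈ A, y * a * y⁻¹ * x = x * (y * a * y⁻¹)) → ∀ l, x ∈ Ni l) :
    PsiT.FrG (Xc (UU (S : Subgroup G) P p Y)
      (Fam (UU (S : Subgroup G) P p Y) (HH (S : Subgroup G) P p Y) (Std.T (S : Subgroup G) p)))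
      (Std.T (S : Subgroup G) p) (o2 P) (Vt p) (aa p) (zpowers (nn p)) Ni c := by
  have hΛ : ∀ l, zpowers (nn p) ≤ Ni l := fun l => by
    rw [zpowers_le]
    refine hcen _ f.n_U (fun A hA y hy a ha => ?_) l
    have h1 : y * a * y⁻¹ ∈ Y := mul_mem (mul_mem hy (f.ys.TY (hA.1 ha))) (inv_mem hy)
    exact mem_centralizer_singleton_iff.1 (f.cen h1)
  have nz : ∃ i, aa p ∉ Ni i := by
    obtain ⟨l, hl⟩ := hex
    exact ⟨l, fun hzl => hl (f.zT.trans (sup_le (hΛ l) (zpowers_le.2 hzl)))⟩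
  exact f.frG_of_yb yb f.WX ((inf_le_inf_right _ (Xc_le _ _)).trans f.loc.cUQ) nz fun l x hx _ => hΛ l hx

section nat

variable {F : Type} [Field F] [Finite F] [CharP F 2] {k : ℕ}

/-- natural blocks -/
theorem exists_fr (noV : NoOverM (zl (Std.T (S : Subgroup G) p) Y) Y)
    (N : NatKM F (Std.T (S : Subgroup G) p) Y (zl (Std.T (S : Subgroup G) p) Y) (cv (Std.T (S : Subgroup G) p) Y) k)
    (hk : 0 < k) : ∃ Ni c : Fin k → Subgroup G,
    PsiT.FrG (Xc (UU (S : Subgroup G) P p Y)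
      (Fam (UU (S : Subgroup G) P p Y) (HH (S : Subgroup G) P p Y) (Std.T (S : Subgroup G) p)))
      (Std.T (S : Subgroup G) p) (o2 P) (Vt p) (aa p) (zpowers (nn p)) Ni c ∧
    ∀ i, ∀ v ∈ c i, v ∈ zl (Std.T (S : Subgroup G) p) Y ∧ ∀ l, N.e v l 1 = 0 := by
  obtain ⟨-, E, hE, hEB, hEY⟩ := f.exists_E
  obtain ⟨Ni, c, yb, hex', hcen, hline⟩ := TwoFr.exists_ybxL (f.ge noV) N hk ⟨E, ⟨hEB, Or.inl hE⟩, hEY⟩ f.wy.mv
  exact ⟨Ni, c, f.fr_of yb hex' hcen, hline⟩

/-- **every best offender `A ≤ T` on `U` centralises `V_τ`** -/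
theorem hloc (noV : NoOverM (zl (Std.T (S : Subgroup G) p) Y) Y)
    (N : NatKM F (Std.T (S : Subgroup G) p) Y (zl (Std.T (S : Subgroup G) p) Y) (cv (Std.T (S : Subgroup G) p) Y) k)
    (hk : 0 < k) (A : Subgroup G) (hA : A ≤ Std.T (S : Subgroup G) p) (hB : Best (UU (S : Subgroup G) P p Y) A) :
    A ≤ centralizer (Vt p : Set G) := by
  obtain ⟨Ni, c, fr, hline⟩ := f.exists_fr noV N hk
  intro a ha
  rw [mem_centralizer_iff]
  intro v hv
  exact (fr.fix (hA ha) (fun i x hx => cent_natL f.ys.hm N hk f.ys.Uc f.ys.VU hA hB (hline i x hx).1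
    (hline i x hx).2 ha) v hv).symm

/-- **`K♯ ≤ O₂(P)` and the passive family** -/
theorem exists_fam (noV : NoOverM (zl (Std.T (S : Subgroup G) p) Y) Y)
    (N : NatKM F (Std.T (S : Subgroup G) p) Y (zl (Std.T (S : Subgroup G) p) Y) (cv (Std.T (S : Subgroup G) p) Y) k)
    (hk : 0 < k) : (∃ (K : Subgroup G) (𝒜 : Set (Subgroup G)), KSh S P Y (UU (S : Subgroup G) P p Y) K 𝒜) ∧
      ∃ (V : Subgroup G) (𝓕 : Set (Subgroup G)), FamT S P Y V 𝓕 :=
  CaseLQ.exists_fam f.lmd (f.hloc noV N hk) fun _ hA hP => exists_s f.five hA hP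

end nat

end FS

end Cfsg.Agent.Omega.CaseLQ.FiveI

end

-- merged: Cfsg.Agent.Mrg.Omega.CaseLQ.FiveTor
section

/-!
# One `S₅`, the weird parabolics: (TOR') (#25080 (b), (d))

`FS S P p Y`, `T = Std.T S p`, `|DX S P Y|` maximal (`mx`).

* `FS.exists_nat` : `Y` has natural blocks over a field of order at least 4;
* `FS.ts` : helper425's `TS`; `FS.one_of` : one block, `|F| = 4`, `X0 = V_τ D`;
* **`FS.torS`** : `TorS S P p Y`;
* **`torSOf : TorSOf K`**.
-/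

set_option autoImplicit false
set_option linter.unusedSectionVars false

namespace Cfsg.Agent.Omega.CaseLQ.FiveI

open Subgroup Cfsg Cfsg.Agent.ZN Cfsg.Agent.ZN.ChoiceBase
open Cfsg.Agent.ZN.ChoiceSit (Syl)
open Cfsg.Agent.MinSimple.VModule (oddGen)
open Cfsg.Agent.Omega.FFThm (OffM ElemM NoOverM StmtM NatKM ActsSL)
open Cfsg.Agent.Omega.FrameFF (cv)
open Cfsg.Agent.Omega.NTwo
open Cfsg.Agent.Omega.NO3S.RedC (MaxMin DX GX)
open Cfsg.Agent.Omega.NO3S.OneLine (NatC natC_of)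
open Cfsg.Agent.Omega.NO3S.WY
open Cfsg.Agent.Omega.NO3S.WY.Tor.SFive (TorS)
open Cfsg.Agent.Omega.NO3S.Sym.Light (FiveL)
open Cfsg.Agent.Omega.CaseLQ.PsiYB
open Cfsg.Agent.Omega.CaseLQ.Torus
open Cfsg.Agent.Omega.SQ1.Bau (card_sup_comm)
open Cfsg.Agent.Lib.SL2Mat (up)

universe u w

theorem card_four {F : Type} [Field F] [Finite F] [CharP F 2] (h : ∃ x : F, x ≠ 0 ∧ x ≠ 1) : 4 ≤ Nat.card F := by
  classical
  have := Fintype.ofFinite F
  obtain ⟨n, -, hn⟩ := FiniteField.card F 2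
  obtain ⟨x, h0, h1⟩ := h
  rw [Nat.card_eq_fintype_card]
  have h3 : 2 < Fintype.card F := Fintype.two_lt_card_iff.2 ⟨0, 1, x, zero_ne_one, h0.symm, h1.symm⟩
  rw [hn] at h3 ⊢
  have h4 : 2 ≤ (n : ℕ) := by
    by_contra hc
    have h4 : (n : ℕ) ≤ 1 := by omega
    have h5 := Nat.pow_le_pow_right (n := 2) (by omega) h4
    omega
  calc 4 = 2 ^ 2 := rfl
    _ ≤ 2 ^ (n : ℕ) := Nat.pow_le_pow_right (by omega) h4

variable {G : Type u} [Group G] [Finite G] {S : Sylow 2 G} {P : Subgroup G} {p : Fin 5 → G} {Y : Subgroup G}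

namespace FS

variable (f : FS S P p Y)
include f

theorem hex : ∃ E, E ≤ Std.T (S : Subgroup G) p ∧ MaxMin (UU (S : Subgroup G) P p Y) (HH (S : Subgroup G) P p Y) E ∧
    ¬ E ≤ o2 Y := by
  obtain ⟨-, E, hE, hET, hEY⟩ := f.exists_E
  exact ⟨E, hET, hE, hEY⟩

theorem noV : NoOverM (zl (Std.T (S : Subgroup G) p) Y) Y :=
  (f.ys.exists_concl FF.Glob.ffthmM f.hex).1.noOver

/-- **`Y` has natural blocks over a field of order at least 4.** -/
theorem exists_nat : ∃ (F : Type) (_ : Field F) (_ : Finite F) (_ : CharP F 2) (k : ℕ), 0 < k ∧ (∃ x : F, x ≠ 0 ∧ x ≠ 1) ∧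
    Nonempty (NatKM F (Std.T (S : Subgroup G) p) Y (zl (Std.T (S : Subgroup G) p) Y)
      (cv (Std.T (S : Subgroup G) p) Y) k) := by
  refine TvTwo.nat_four f.ys FF.Glob.ffthmM (Q := o2 P) (V := Vt p) (z := aa p) (Lam := zpowers (nn p))
    (P := XT (S : Subgroup G) P p) (fun hc => f.fr_of hc.yb hc.ex hc.cen)
    (fun E hE m => f.exists_E.1 E m hE) f.hex f.Vt_le_U le_sup_left f.T_X inf_le_right ?_
    (le_centralizer_iff.1 f.X_C) ?_
  · intro u hu huT
    have h1 := f.loc.cUT (mem_inf.2 ⟨hu, huT⟩)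
    rcases f.five.std.mem_zcT.1 h1 with rfl | rfl | rfl | rfl
    · exact Or.inl (one_mem _)
    · exact Or.inl (mem_zpowers _)
    · right; rw [mul_inv_cancel]; exact one_mem _
    · right
      rw [← f.five.std.na, mul_inv_cancel_right]
      exact mem_zpowers _
  · obtain ⟨x, hx, hσ⟩ := XT_full f.five (σ := Equiv.swap 3 4) (by decide) (by decide)
    refine ⟨x, hx, fun e => ?_⟩
    have h1 : x * (p 2 * p 3) * x⁻¹ = p 2 * p 4 := hσ 2 3 (by decide) (by decide) (by decide)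
    have h2 : p 2 * p 4 = p 2 * p 3 := h1.symm.trans e
    exact absurd (f.five.std.inj (mul_left_cancel h2)) (by decide)

/-- `⟨n⟩ ≤ C_V(O²(Y))` -/
theorem n_cv : zpowers (nn p) ≤ cv (Std.T (S : Subgroup G) p) Y := by
  rw [zpowers_le]
  refine mem_inf.2 ⟨MinSimple.VModule.zc_le_zl _ _ f.n_zc, mem_centralizer_iff.2 fun y hy => ?_⟩
  exact mem_centralizer_singleton_iff.1 (f.cen (MinSimple.VModule.oddGen_le Y hy))

theorem a_cv : aa p ∉ cv (Std.T (S : Subgroup G) p) Y := by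
  intro h
  apply f.mv
  have h1 : Y ≤ centralizer ({aa p} : Set G) := by
    rw [← NO3b.EZero.oddGen_sup_syl f.wy.syl]
    refine sup_le (fun y hy => ?_) fun x hx => mem_cent.2 (f.five.std.T_a hx)
    exact mem_centralizer_singleton_iff.2 (mem_centralizer_iff.1 (mem_inf.1 h).2 y hy)
  have h2 : centralizer ({aa p} : Set G) ≤ centralizer (zpowers (aa p) : Set G) := by
    rw [le_centralizer_iff, zpowers_le]
    exact mem_centralizer_iff.2 fun x hx => mem_centralizer_singleton_iff.1 hx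
  exact (h1.trans h2).trans (centralizer_le_normalizer _)

theorem hVQ : zl (Std.T (S : Subgroup G) p) Y ⊓ centralizer (o2 P : Set G) ≤ zl (S : Subgroup G) P :=
  (inf_le_inf_right _ f.VU').trans f.loc.cUQ

section one

variable {F : Type} [Field F] [Finite F] [CharP F 2] {k : ℕ}
  {M : NatC F (Std.T (S : Subgroup G) p) Y (zl (Std.T (S : Subgroup G) p) Y) (cv (Std.T (S : Subgroup G) p) Y) k}
  {K : Subgroup G}

/-- **(d)** : one block, `|F| = 4`, `X0 = V_τ D`. -/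
theorem one_of (t : TS M (o2 P) K (aa p)) (h4 : 4 ≤ Nat.card F) :
    (∃ E1 : Subgroup G, E1 ≤ X0 M ∧ o2 P ≤ centralizer (E1 : Set G) ∧
      ∀ v ∈ X0 M, ∃ c ∈ E1, M.nat.e c = M.nat.e v) ∧ k = 1 ∧ Nat.card F = 4 ∧
      X0 M = Vt p ⊔ cv (Std.T (S : Subgroup G) p) Y := by
  have hF : ∀ a : F, ∃ c : F, c ≠ 0 ∧ c ≠ a := fun a => TS.exists_ne_two h4 0 a
  obtain ⟨E1, hE, hEQ, hED, hEB, hEc⟩ := t.main hF (hF 1)
  have hEV : E1 ≤ zl (S : Subgroup G) P := fun x hx => f.hVQ ⟨(hE hx).1, (le_centralizer_iff.1 hEQ) hx⟩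
  have hft : FiveFacts.Vt p = Vt p := (FiveFacts.Vt_eq f.five.std.toFv).symm
  have hEn : E1 ⊓ zpowers (nn p) = ⊥ := by
    rw [eq_bot_iff, ← hED]
    exact inf_le_inf_left _ f.n_cv
  have hle : E1 ≤ Vt p ⊔ zpowers (nn p) := by
    intro u hu
    rw [← hft]
    refine FiveFacts.cent_le f.five.toFive (hEV hu) fun b hb => ?_
    have h1 := FiveFacts.comm_T f.five.toFive hb u (hEV hu)
    have h2 : b * u * b⁻¹ * u⁻¹ ∈ E1 := mul_mem ((mem_normalizer_iff.1 (hEB hb.1) u).1 hu) (inv_mem hu)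
    have h3 : b * u * b⁻¹ * u⁻¹ ∈ E1 ⊓ zpowers (nn p) := mem_inf.2 ⟨h2, h1⟩
    rw [hEn, mem_bot] at h3
    exact mul_inv_eq_iff_eq_mul.1 (mul_inv_eq_one.1 h3)
  have hVc : ∀ a ∈ zl (S : Subgroup G) P, ∀ b ∈ zl (S : Subgroup G) P, a * b = b * a := fun a ha b hb =>
    f.five.toFive.V_comm ha hb
  have hnV : zpowers (nn p) ≤ zl (S : Subgroup G) P := zpowers_le.2 f.five.n_mem
  have c1 := card_sup_comm (A := E1) (B := zpowers (nn p)) fun a ha b hb => hVc a (hEV ha) b (hnV hb)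
  have c2 := card_sup_comm (A := Vt p) (B := zpowers (nn p)) fun a ha b hb => hVc a (f.Vt_V ha) b (hnV hb)
  rw [hEn, card_bot, mul_one] at c1
  rw [card_Vt f.five.std.toFv] at c2
  have hp : 0 < Nat.card ↥(zpowers (nn p)) := Nat.card_pos
  have hp' : 0 < Nat.card ↥(Vt p ⊓ zpowers (nn p)) := Nat.card_pos
  have hle' : E1 ⊔ zpowers (nn p) ≤ Vt p ⊔ zpowers (nn p) := sup_le hle le_sup_right
  have c3 := Subgroup.card_le_of_le hle'
  have c4 : Nat.card ↥(Vt p ⊔ zpowers (nn p)) ≤ 4 * Nat.card ↥(zpowers (nn p)) := by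
    rw [← c2]
    exact Nat.le_mul_of_pos_right _ hp'
  have h3 : Nat.card E1 ≤ 4 := by
    rw [c1] at c3
    exact Nat.le_of_mul_le_mul_right (c3.trans c4) hp
  have hk : 0 < k := M.pos
  have hcard := TS.card_E (M := M) hE hED hEc
  have hk1 : k = 1 := by
    by_contra hne
    have hk2 : 2 ≤ k := by omega
    have h6 : 4 ^ 2 ≤ Nat.card F ^ k :=
      (Nat.pow_le_pow_left h4 2).trans (Nat.pow_le_pow_right (by omega) hk2)
    omega
  have hc4 : Nat.card F = 4 := by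
    rw [hk1, pow_one] at hcard
    omega
  have hE4 : Nat.card E1 = 4 := by rw [hcard, hk1, pow_one, hc4]
  have h6 : E1 ⊔ zpowers (nn p) = Vt p ⊔ zpowers (nn p) := by
    refine Subgroup.eq_of_le_of_card_ge hle' ?_
    rw [c1, hE4]
    exact c4
  refine ⟨⟨E1, hE, hEQ, hEc⟩, hk1, hc4, le_antisymm ?_ (sup_le ?_ (D_le_X0 M))⟩
  · intro v hv
    obtain ⟨c, hc, ec⟩ := hEc v hv
    have h7 := div_mem M hv.1 (hE hc).1 ec.symm
    have h8 : v = v * c⁻¹ * c := by group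
    rw [h8]
    refine mul_mem (mem_sup_right h7) ?_
    exact (hle.trans (sup_le le_sup_left (f.n_cv.trans le_sup_right))) hc
  · refine (le_sup_left.trans h6.ge).trans (sup_le hE (f.n_cv.trans (D_le_X0 M)))

end one

/-- **(TOR')** for one `S₅`. -/
theorem torS (mx : ∀ Y' : Subgroup G, WY S P (Std.T (S : Subgroup G) p) Y' → Y' ≤ Y →
      Nat.card (DX (S : Subgroup G) P Y') ≤ Nat.card (DX (S : Subgroup G) P Y)) : TorS S P p Y where
  five := f.five
  wy := f.wy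
  cen := f.cen
  fam := by
    obtain ⟨F, _, _, _, k, hk, -, ⟨N⟩⟩ := f.exists_nat
    exact (f.exists_fam f.noV N hk).2
  nat := by
    obtain ⟨F, _, _, _, k, hk, hx, ⟨N⟩⟩ := f.exists_nat
    obtain ⟨K, 𝒜, ks⟩ := (f.exists_fam f.noV N hk).1
    have h4 := card_four hx
    have hm := f.ys.hm
    have t : TS (natC_of hm hk N.toNatK) (o2 P) K (aa p) :=
      ts_of f.wy ks f.ys.Uc f.ys.VU N hk rfl f.a_zc f.a_cv fun Y' h1 h2 _ => mx Y' h1 h2
    obtain ⟨⟨E1, hE, hEQ, hEc⟩, rfl, hc4, hX⟩ := f.one_of t h4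
    refine ⟨F, inferInstance, inferInstance, inferInstance, N, hc4, fun v hv => ?_, fun q hq => ?_⟩
    · change N.e v 0 1 = 0 ↔ v ∈ Vt p ⊔ cv (Std.T (S : Subgroup G) p) Y
      rw [← hX]
      constructor
      · intro h0
        refine ⟨hv, fun i => ?_⟩
        rw [Subsingleton.elim i 0]
        exact h0
      · intro h0
        exact h0.2 0
    · obtain ⟨b, hb⟩ := t.up_of (fun x hx hxD => capD hm f.wy.min f.wy.mv hx hxD) hE hEQ hEc hq
      refine ⟨b 0, fun v hv i => ?_, hb.2⟩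
      have := hb.1 v hv i
      rw [Subsingleton.elim i 0] at this ⊢
      exact this

end FS

/-- **The infinite stage of `NoWFive`.** -/
theorem torSOf {K : Frame.Cls.{u}} : Node.NoWFivePlug.TorSOf K := by
  intro G _ _ _ S P B ZJ ι L W Z C A hM _ p hp Y hw hm wy
  have := hM.fin
  obtain ⟨e, hid⟩ := NO3S.Sym.LowFive.exists_id5 hp hM.fr (hM.eB.trans_le inf_le_left) hM.two hM.eB
  have hBT : B = Std.T (S : Subgroup G) p := hid.BT
  have hzc : zc B = ZJ := Node.NoWFiveSel.zc_B hM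
  have hbb : BB (S : Subgroup G) P = B := hM.eqB.symm
  subst hBT
  have f : FS S P p Y := ⟨hp, hbb, wy, hw.cen⟩
  refine f.torS fun Y' h1 h2 => hm Y' ⟨h1.min, h1.syl, h1.c2, h2.trans hw.cen, h1.nQ, ?_⟩
  rw [← hzc]
  exact h1.mv

end Cfsg.Agent.Omega.CaseLQ.FiveI

end

-- merged: Cfsg.Agent.Mrg.Omega.NO3S.WY.Tor.SFiveI
section

section


/-!
# (TOR) for ONE `S₅`: the facts at `Y`

`t : TorS S P p Y`, `T = Std.T S p`, `Q = O₂(P)`, `L = V_P`, `N : NatKM F T Y (zl T Y) (cv T Y) 1` (the `N` of `t.nat`).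

* `line_up` : an element of `T` which is trivial on the line modulo `cv T Y` acts as some `up b`;
* `exists_b` : some `b ∈ O₂(Y)` acts on `L` as `(0 1)`;
* `cv_eq` : `C_V(O²(Y)) = ⟨nn p⟩`;
* `K_p0` : `[Y, p 0] ≤ ⟨nn p⟩`; `KE`, `syl`.
-/

set_option autoImplicit false
set_option linter.unusedSectionVars false
set_option linter.dupNamespace false

namespace Cfsg.Agent.Omega.NO3S.WY.Tor.SFiveI

open Subgroup Cfsg Cfsg.Agent.ZN Cfsg.Agent.ZN.ChoiceBase
open Cfsg.Agent.ZN.ChoiceSit (Syl exists_syl syl_conj)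
open Cfsg.Agent.Omega.MinPar (IsParS)
open Cfsg.Agent.Omega.NO3S.RedC
open Cfsg.Agent.Omega.NO3S.Level (Lev)
open Cfsg.Agent.Omega.FFThm (OffM ElemM NatK NatKM ActsSL)
open Cfsg.Agent.Omega.NatPair (ap ap_mul ap_one ap_zero' ap_one' ext2)
open Cfsg.Agent.Lib.SL2Mat
open Cfsg.Agent.Omega.FrameFF (cv)
open Cfsg.Agent.Omega.NTwo (Std nn aa mem_cent cm cc)
open Cfsg.Agent.Omega.NO3S.Sym.Light (FiveL)
open Cfsg.Agent.MinSimple.VModule (oddGen oddGen_def oddGen_le le_normalizer_oddGen)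
open Cfsg.Agent.Omega.NO3b.EZero (cl cl_le le_cl cj_le_cl le_normalizer_cl oddGen_sup_syl)
open Cfsg.Agent.Omega.SQ1.Bau (mem_sup_comm)
open Cfsg.Agent.Omega.NO3S.WY.Tor.SFive (TorS Y5)
open Cfsg.Agent.Omega.NO3S.WY.Tor.NatOne (Ac ac_e ac_pow exists_lam pow_four pow_lower T_up)
open scoped commutatorElement

universe u

variable {G : Type u} [Group G] [Finite G] {S : Sylow 2 G} {P Y V : Subgroup G} {p : Fin 5 → G}
  {𝓕 : Set (Subgroup G)}

/-- `V_τ`, `τ = {2, 3, 4}` -/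
abbrev Vt (p : Fin 5 → G) : Subgroup G := closure {p 2 * p 3, p 2 * p 4}

/-- `Λ = ⟨nn p⟩` -/
abbrev Lm (p : Fin 5 → G) : Subgroup G := zpowers (nn p)

section basic

variable (t : TorS S P p Y)
include t

theorem Y_nn {y : G} (hy : y ∈ Y) : y * nn p * y⁻¹ = nn p := mem_cent.1 (t.cen hy)

theorem Y_nn' {y : G} (hy : y ∈ Y) : y * nn p = nn p * y := by
  have := Y_nn t hy
  rwa [mul_inv_eq_iff_eq_mul] at this

theorem Q_T : o2 P ≤ Std.T (S : Subgroup G) p := t.wy.QT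

theorem Q_Y : o2 P ≤ Y := (Q_T t).trans t.wy.T_Y

theorem Q_L : o2 P ≤ centralizer (zl (S : Subgroup G) P : Set G) := by
  rw [← t.wy.cl.zc_eq]
  exact Level.le_centralizer_zc _

theorem S_L : (S : Subgroup G) ⊓ centralizer (zl (S : Subgroup G) P : Set G) ≤ o2 P :=
  (IsParS.inf_centralizer S t.wy.hG t.wy.parP).le

/-- `N_Y(Q)` acts on the letters -/
theorem NQ_act {g : G} (hg : g ∈ normalizer (o2 P : Set G)) : ∃ σ : Equiv.Perm (Fin 5), ∀ i, g * p i * g⁻¹ = p (σ i) :=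
  act t.five (t.wy.cl.norm_o2_le hg)

theorem T_act {g : G} (hg : g ∈ Std.T (S : Subgroup G) p) :
    ∃ σ : Equiv.Perm (Fin 5), ∀ i, g * p i * g⁻¹ = p (σ i) :=
  t.five.std.perm g (t.five.std.le (Std.T_le hg))

theorem V0_le : zl (Std.T (S : Subgroup G) p) Y ≤ zc (DX (S : Subgroup G) P Y) :=
  ZN.zl_le t.wy.zcT_le_V (t.wy.Y_le.trans (GX_norm _ _ _))

theorem V0_comm {v w : G} (hv : v ∈ zl (Std.T (S : Subgroup G) p) Y) (hw : w ∈ zl (Std.T (S : Subgroup G) p) Y) :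
    v * w = w * v := Lev.zc_comm (V0_le t hv) (V0_le t hw)

theorem V0_sq {v : G} (hv : v ∈ zl (Std.T (S : Subgroup G) p) Y) : v * v = 1 := by
  rw [← pow_two]; exact t.wy.V_sq v (V0_le t hv)

theorem Y_V0 : Y ≤ normalizer (zl (Std.T (S : Subgroup G) p) Y : Set G) := ZN.le_normalizer_zl _ _

theorem Y_cv : Y ≤ normalizer (cv (Std.T (S : Subgroup G) p) Y : Set G) := by
  intro y hy
  rw [mem_normalizer_iff_cj, cv, cj_inf, cj_centralizer, cj_eq_of_mem_normalizer (Y_V0 t hy),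
    cj_eq_of_mem_normalizer (le_normalizer_oddGen Y hy)]

theorem cmem {y v : G} (hy : y ∈ Y) (hv : v ∈ zl (Std.T (S : Subgroup G) p) Y) :
    y * v * y⁻¹ ∈ zl (Std.T (S : Subgroup G) p) Y := (mem_normalizer_iff.1 (Y_V0 t hy) v).1 hv

theorem ccv {y v : G} (hy : y ∈ Y) (hv : v ∈ cv (Std.T (S : Subgroup G) p) Y) :
    y * v * y⁻¹ ∈ cv (Std.T (S : Subgroup G) p) Y := (mem_normalizer_iff.1 (Y_cv t hy) v).1 hv

theorem nn_zc : nn p ∈ zc (Std.T (S : Subgroup G) p) := t.five.std.mem_zcT.2 (Or.inr (Or.inl rfl))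

theorem aa_zc : aa p ∈ zc (Std.T (S : Subgroup G) p) := t.five.std.mem_zcT.2 (Or.inr (Or.inr (Or.inl rfl)))

theorem zcT_V0 : zc (Std.T (S : Subgroup G) p) ≤ zl (Std.T (S : Subgroup G) p) Y := ZN.zc_le_zl

theorem nn_V0 : nn p ∈ zl (Std.T (S : Subgroup G) p) Y := zcT_V0 t (nn_zc t)

theorem aa_V0 : aa p ∈ zl (Std.T (S : Subgroup G) p) Y := zcT_V0 t (aa_zc t)

theorem nn_cv : nn p ∈ cv (Std.T (S : Subgroup G) p) Y :=
  ⟨nn_V0 t, mem_centralizer_iff.2 fun _ hk => Y_nn' t (oddGen_le Y hk)⟩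

theorem Lm_cv : Lm p ≤ cv (Std.T (S : Subgroup G) p) Y := zpowers_le.2 (nn_cv t)

theorem W_V0 : cl (zpowers (aa p)) Y ≤ zl (Std.T (S : Subgroup G) p) Y := cl_le fun y hy => by
  rw [← cj_eq_of_mem_normalizer (Y_V0 t hy)]
  exact cj_mono y (zpowers_le.2 (aa_V0 t))

theorem Y_Lm : Y ≤ centralizer (Lm p : Set G) := fun y hy => mem_centralizer_iff.2 fun x hx => by
  obtain ⟨n, rfl⟩ := mem_zpowers_iff.1 hx
  exact ((Commute.zpow_right (show Commute y (nn p) from Y_nn' t hy) n)).eq.symm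

/-- `V₀ = W Λ` -/
theorem V0_le_W : zl (Std.T (S : Subgroup G) p) Y ≤ cl (zpowers (aa p)) Y ⊔ Lm p := by
  have hn : nn p ∈ cl (zpowers (aa p)) Y ⊔ Lm p := mem_sup_right (mem_zpowers _)
  have ha : aa p ∈ cl (zpowers (aa p)) Y ⊔ Lm p := mem_sup_left (le_cl _ Y (mem_zpowers _))
  refine ZN.zl_le (fun x hx => ?_) ?_
  · rcases t.five.std.mem_zcT.1 hx with rfl | rfl | rfl | rfl
    · exact one_mem _
    · exact hn
    · exact ha
    · rw [← t.five.std.na]; exact mul_mem hn ha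
  · intro y hy
    have h1 : cj y (Lm p) = Lm p := cj_eq_of_mem_normalizer (centralizer_le_normalizer _ (Y_Lm t hy))
    have h2 : cj y (cl (zpowers (aa p)) Y) = cl (zpowers (aa p)) Y := cj_eq_of_mem_normalizer (le_normalizer_cl _ _ hy)
    rw [mem_normalizer_iff_cj, show cj y (cl (zpowers (aa p)) Y ⊔ Lm p) =
      cj y (cl (zpowers (aa p)) Y) ⊔ cj y (Lm p) from Subgroup.map_sup _ _ _, h1, h2]

end basic

section nat

variable {F : Type} [Field F] (t : TorS S P p Y)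
  (N : NatKM F (Std.T (S : Subgroup G) p) Y (zl (Std.T (S : Subgroup G) p) Y) (cv (Std.T (S : Subgroup G) p) Y) 1)

omit [Finite G] in
theorem f_mul {T V D : Subgroup G} (N : NatKM F T Y V D 1) {v w : G} (hv : v ∈ V) (hw : w ∈ V) :
    N.e (v * w) 0 = N.e v 0 + N.e w 0 := by rw [N.mul v hv w hw]; rfl

omit [Finite G] in
theorem f_one {T V D : Subgroup G} (N : NatKM F T Y V D 1) : N.e 1 0 = 0 := by
  have h := f_mul N (one_mem V) (one_mem V)
  rw [one_mul] at h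
  exact left_eq_add.1 h

omit [Finite G] in
theorem f_inv {T V D : Subgroup G} (N : NatKM F T Y V D 1) {v : G} (hv : v ∈ V) : N.e v⁻¹ 0 = - N.e v 0 := by
  have h := f_mul N hv (inv_mem hv)
  rw [mul_inv_cancel, f_one] at h
  exact (neg_eq_of_add_eq_zero_right h.symm).symm

omit [Finite G] in
theorem f_ker {T V D : Subgroup G} (N : NatKM F T Y V D 1) {v : G} (hv : v ∈ V) : N.e v 0 = 0 ↔ v ∈ D := by
  rw [← N.ker v hv]
  constructor
  · intro h; funext i; rw [Subsingleton.elim i 0, h]; rfl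
  · intro h; rw [h]; rfl

omit [Finite G] in
theorem f_surj {T V D : Subgroup G} (N : NatKM F T Y V D 1) (x : Fin 2 → F) : ∃ v ∈ V, N.e v 0 = x := by
  obtain ⟨v, hv, h⟩ := N.surj fun _ => x
  exact ⟨v, hv, by rw [h]⟩

omit [Finite G] in
theorem f_eq {T V D : Subgroup G} (N : NatKM F T Y V D 1) {v w : G} (hv : v ∈ V) (hw : w ∈ V) :
    N.e v 0 = N.e w 0 ↔ v * w⁻¹ ∈ D := by
  rw [← f_ker N (mul_mem hv (inv_mem hw)), f_mul N hv (inv_mem hw), f_inv N hw, ← sub_eq_add_neg, sub_eq_zero]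

include t N

/-- `C_V(O²(Y)) ≠ V₀` -/
theorem aa_not_cv : aa p ∉ cv (Std.T (S : Subgroup G) p) Y := by
  intro ha
  have h1 : zl (Std.T (S : Subgroup G) p) Y ≤ cv (Std.T (S : Subgroup G) p) Y := by
    refine ZN.zl_le (fun x hx => ?_) (Y_cv t)
    rcases t.five.std.mem_zcT.1 hx with rfl | rfl | rfl | rfl
    · exact one_mem _
    · exact nn_cv t
    · exact ha
    · rw [← t.five.std.na]; exact mul_mem (nn_cv t) ha
  obtain ⟨v, hv, h2⟩ := f_surj N ![1, 0]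
  rw [(f_ker N hv).2 (h1 hv)] at h2
  have := congrFun h2 0
  simp at this

/-- An element of `T` which is trivial on the line modulo `cv T Y` acts as some `up b`. -/
theorem line_up [CharP F 2] {x : G} (hx : x ∈ Std.T (S : Subgroup G) p)
    (hx' : ∀ v ∈ zl (Std.T (S : Subgroup G) p) Y, N.e v 0 1 = 0 →
      x * v * x⁻¹ * v⁻¹ ∈ cv (Std.T (S : Subgroup G) p) Y) :
    ∃ b, ∀ v ∈ zl (Std.T (S : Subgroup G) p) Y, N.e (x * v * x⁻¹) 0 = ap (up b) (N.e v 0) := by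
  have hxY : x ∈ Y := t.wy.T_Y hx
  choose s hsV hs using f_surj N
  let φ : (Fin 2 → F) → Fin 2 → F := fun y => N.e (x * s y * x⁻¹) 0
  have key : ∀ v ∈ zl (Std.T (S : Subgroup G) p) Y, N.e (x * v * x⁻¹) 0 = φ (N.e v 0) := by
    intro v hv
    change N.e (x * v * x⁻¹) 0 = N.e (x * s (N.e v 0) * x⁻¹) 0
    rw [f_eq N (cmem t hxY hv) (cmem t hxY (hsV _))]
    have h1 := (f_eq N hv (hsV (N.e v 0))).1 (hs _).symm
    have e : x * v * x⁻¹ * (x * s (N.e v 0) * x⁻¹)⁻¹ = x * (v * (s (N.e v 0))⁻¹) * x⁻¹ := by group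
    rw [e]
    exact ccv t hxY h1
  suffices h0 : ∃ b, ∀ x, φ x = ap (up b) x by
    obtain ⟨b, hb⟩ := h0
    exact ⟨b, fun v hv => by rw [key v hv, hb]⟩
  refine exists_up φ ?_ ?_ ?_ ?_
  · intro y z
    have h1 := key _ (mul_mem (hsV y) (hsV z))
    rw [f_mul N (hsV y) (hsV z), hs, hs] at h1
    rw [← h1]
    have e : x * (s y * s z) * x⁻¹ = (x * s y * x⁻¹) * (x * s z * x⁻¹) := by group
    rw [e, f_mul N (cmem t hxY (hsV y)) (cmem t hxY (hsV z))]
  · intro a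
    change N.e (x * s ![a, 0] * x⁻¹) 0 = ![a, 0]
    have h1 := hx' _ (hsV ![a, 0]) (by rw [hs]; rfl)
    rw [(f_eq N (cmem t hxY (hsV _)) (hsV _)).2 h1, hs]
  · intro A
    obtain ⟨g, hg, hA, -⟩ := N.lift fun _ => A
    obtain ⟨B, hB⟩ := N.norm x hxY g hg (fun _ => A) hA
    refine ⟨B 0, fun y => ?_⟩
    have h1 := key _ (cmem t hg (hsV y))
    rw [hA _ (hsV y) 0, hs] at h1
    rw [← h1]
    have e : x * (g * s y * g⁻¹) * x⁻¹ = x * g * x⁻¹ * (x * s y * x⁻¹) * (x * g * x⁻¹)⁻¹ := by group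
    rw [e, hB _ (cmem t hxY (hsV y)) 0]
  · obtain ⟨n, hn⟩ := t.wy.T2 ⟨x, hx⟩
    have hn' : x ^ 2 ^ n = 1 := congrArg Subtype.val hn
    refine ⟨n, fun y => ?_⟩
    have h1 : ∀ k : ℕ, φ^[k] y = N.e (x ^ k * s y * (x ^ k)⁻¹) 0 := by
      intro k
      induction k with
      | zero => simp [hs]
      | succ k ih =>
        have e : x * (x ^ k * s y * (x ^ k)⁻¹) * x⁻¹ = x ^ (k + 1) * s y * (x ^ (k + 1))⁻¹ := by
          rw [pow_succ']; group
        rw [Function.iterate_succ_apply', ih, ← key _ (cmem t (pow_mem hxY k) (hsV y)), e]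
    rw [h1, hn', one_mul, inv_one, mul_one, hs]

end nat

section pair

omit [Finite G] in
theorem pair_cases {x y z : G} (hx : x * x = 1) (hy : y * y = 1) (hz : z * z = 1) (hxy : x * y = z) (hyx : y * x = z)
    {v : G} (hv : v ∈ closure ({x, y} : Set G)) : v = 1 ∨ v = x ∨ v = y ∨ v = z := by
  have hxz : x * z = y := by rw [← hxy, ← mul_assoc, hx, one_mul]
  have hzx : z * x = y := by rw [← hyx, mul_assoc, hx, mul_one]
  have hyz : y * z = x := by rw [← hyx, ← mul_assoc, hy, one_mul]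
  have hzy : z * y = x := by rw [← hxy, mul_assoc, hy, mul_one]
  let K : Subgroup G :=
    { carrier := {v | v = 1 ∨ v = x ∨ v = y ∨ v = z}
      one_mem' := Or.inl rfl
      mul_mem' := by
        rintro a b (rfl | rfl | rfl | rfl) (rfl | rfl | rfl | rfl) <;>
          simp [hx, hy, hz, hxy, hyx, hxz, hzx, hyz, hzy]
      inv_mem' := by
        rintro a (rfl | rfl | rfl | rfl)
        · exact Or.inl inv_one
        · exact Or.inr (Or.inl (inv_eq_of_mul_eq_one_left hx))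
        · exact Or.inr (Or.inr (Or.inl (inv_eq_of_mul_eq_one_left hy)))
        · exact Or.inr (Or.inr (Or.inr (inv_eq_of_mul_eq_one_left hz))) }
  have h1 : closure ({x, y} : Set G) ≤ K := by
    rw [closure_le]
    rintro a (rfl | ha)
    · exact Or.inr (Or.inl rfl)
    · rw [Set.mem_singleton_iff] at ha
      rw [ha]
      exact Or.inr (Or.inr (Or.inl rfl))
  exact h1 hv

end pair

section letters

variable (t : TorS S P p Y)
include t

theorem sq2 (i j : Fin 5) : p i * p j * (p i * p j) = 1 := by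
  have h := t.five.std
  rw [mul_assoc, ← mul_assoc (p j), h.comm j i, mul_assoc (p i), h.sq, mul_one, h.sq]

theorem e2324 : p 2 * p 3 * (p 2 * p 4) = p 3 * p 4 := by
  have h := t.five.std
  rw [h.comm 2 3, mul_assoc, ← mul_assoc (p 2), h.sq, one_mul]

theorem e2423 : p 2 * p 4 * (p 2 * p 3) = p 3 * p 4 := by
  have h := t.five.std
  rw [h.comm 2 4, mul_assoc, ← mul_assoc (p 2), h.sq, one_mul, h.comm]

theorem vt_four {v : G} (hv : v ∈ Vt p) : v = 1 ∨ v = p 2 * p 3 ∨ v = p 2 * p 4 ∨ v = p 3 * p 4 :=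
  pair_cases (sq2 t 2 3) (sq2 t 2 4) (sq2 t 3 4) (e2324 t) (e2423 t) hv

theorem Vt_L : Vt p ≤ zl (S : Subgroup G) P := by
  rw [closure_le]
  rintro a (rfl | ha)
  · exact mul_mem (t.five.toFive.p_mem _) (t.five.toFive.p_mem _)
  · rw [Set.mem_singleton_iff] at ha
    rw [ha]
    exact mul_mem (t.five.toFive.p_mem _) (t.five.toFive.p_mem _)

/-- an element which centralises `p 0`, `nn p`, `V_τ` centralises `L` -/
theorem cent_L_of {x : G} (h0 : x * p 0 = p 0 * x) (hn : x * nn p = nn p * x)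
    (ha : x * (p 2 * p 3) = p 2 * p 3 * x) (hb : x * (p 2 * p 4) = p 2 * p 4 * x) :
    x ∈ centralizer (zl (S : Subgroup G) P : Set G) := by
  have h := t.five.std
  have c0 : Commute x (p 0) := h0
  have cn : Commute x (nn p) := hn
  have ca : Commute x (p 2 * p 3) := ha
  have cb : Commute x (p 2 * p 4) := hb
  have e1 : p 1 = p 0 * nn p := by rw [nn, ← mul_assoc, h.sq, one_mul]
  have e4 : p 4 = nn p * (p 2 * p 3) := h.na.symm
  have c1 : Commute x (p 1) := by rw [e1]; exact c0.mul_right cn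
  have c4 : Commute x (p 4) := by rw [e4]; exact cn.mul_right ca
  have e2 : p 2 = p 2 * p 4 * p 4 := by rw [mul_assoc, h.sq, mul_one]
  have c2 : Commute x (p 2) := by rw [e2]; exact cb.mul_right c4
  have e3 : p 3 = p 2 * (p 2 * p 3) := by rw [← mul_assoc, h.sq, one_mul]
  have c3 : Commute x (p 3) := by rw [e3]; exact c2.mul_right ca
  have h1 : zl (S : Subgroup G) P ≤ centralizer ({x} : Set G) := by
    rw [t.five.gen, closure_le]
    rintro _ ⟨i, rfl⟩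
    rw [SetLike.mem_coe, mem_centralizer_singleton_iff]
    fin_cases i
    · exact c0.eq.symm
    · exact c1.eq.symm
    · exact c2.eq.symm
    · exact c3.eq.symm
    · exact c4.eq.symm
  exact mem_centralizer_iff.2 fun l hl => mem_centralizer_singleton_iff.1 (h1 hl)

end letters

section main

variable {F : Type} [Field F] [Finite F] [CharP F 2] (t : TorS S P p Y)
  (N : NatKM F (Std.T (S : Subgroup G) p) Y (zl (Std.T (S : Subgroup G) p) Y) (cv (Std.T (S : Subgroup G) p) Y) 1)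
  (f4 : Nat.card F = 4)
  (hl : ∀ v ∈ zl (Std.T (S : Subgroup G) p) Y, N.e v 0 1 = 0 ↔ v ∈ Vt p ⊔ cv (Std.T (S : Subgroup G) p) Y)
  (hu : ∀ x ∈ o2 P, ∃ b : F,
    ActsSL N.e (zl (Std.T (S : Subgroup G) p) Y) (cv (Std.T (S : Subgroup G) p) Y) x fun _ => up b)
include t N f4 hl hu

omit f4 hl in
theorem cv_L : cv (Std.T (S : Subgroup G) p) Y ≤ zl (S : Subgroup G) P := by
  rw [← t.wy.cvQ]
  refine fun d hd => ⟨V0_le t hd.1, mem_centralizer_iff.2 fun q hq => ?_⟩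
  obtain ⟨b, hb⟩ := hu q hq
  exact hb.2 d hd

/-- 255's situation -/
theorem hyp : NatOne.Hyp N.toNatK (o2 P) (zl (S : Subgroup G) P) (cl (zpowers (aa p)) Y) where
  syl := t.wy.syl
  min := t.wy.min
  YV := Y_V0 t
  DE := rfl
  oV := t.cent_zl
  f4 := f4
  QT := t.wy.QT
  wc := fun y _ h => t.wy.cl.wc.eq y (h.trans Std.T_le)
  up := hu
  nQ := t.wy.nQ
  hL := fun v hv h0 => (sup_le (Vt_L t) (cv_L t N hu)) ((hl v hv).1 h0)
  QL := by
    rw [le_centralizer_iff]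
    exact Q_L t
  WV := W_V0 t
  YW := le_normalizer_cl _ _
  nW := fun h => aa_not_cv t N (h (le_cl _ Y (mem_zpowers _)))

/-- `h ∈ O²(Y) ∩ N(Q)` of odd order which moves `aa p` -/
theorem exists_h : ∃ h ∈ oddGen Y, h ∈ normalizer (o2 P : Set G) ∧ Odd (orderOf h) ∧ h * aa p * h⁻¹ ≠ aa p := by
  obtain ⟨l, hl0, hl1, hl2, -⟩ := exists_lam f4
  have hl3 : l ^ 3 = 1 := by linear_combination (l - 1) * hl2
  have H := hyp t N f4 hl hu
  obtain ⟨h, hh, hQ, b, hac⟩ := H.exists_h hl0 hl2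
  have hY := oddGen_le Y hh
  obtain ⟨a, m, hm, hn⟩ := Nat.exists_eq_two_pow_mul_odd (n := orderOf h) (orderOf_pos h).ne'
  have h1 : (h ^ (4 ^ a)) ^ m = 1 := by
    rw [← pow_mul, ← orderOf_dvd_iff_pow_eq_one, hn]
    have h2 : (4 : ℕ) ^ a = 2 ^ a * 2 ^ a := by rw [← mul_pow]; norm_num
    rw [h2]
    exact ⟨2 ^ a, by ring⟩
  refine ⟨h ^ (4 ^ a), pow_mem hh _, pow_mem hQ _, Odd.of_dvd_nat hm (orderOf_dvd_of_pow_eq_one h1), fun e => ?_⟩
  have h3 := ac_pow (Y_V0 t) hY hac (4 ^ a)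
  have h4 := ac_e h3 (aa_V0 t)
  rw [e] at h4
  have h5 : ent (up b * dg l hl0) 1 0 = 0 := by rw [ent_mul]; simp
  have h6 : ent (up b * dg l hl0) 0 0 = l := by rw [ent_mul]; simp
  obtain ⟨h7, h8⟩ := pow_lower h5 (4 ^ a)
  rw [h6, pow_four hl3] at h7
  have ha1 : N.e (aa p) 0 1 = 0 := (hl _ (aa_V0 t)).2 (mem_sup_left (subset_closure (Set.mem_insert _ _)))
  have h9 := congrFun h4 0
  rw [ap_zero', h7, ha1, mul_zero, add_zero] at h9
  have h10 : N.e (aa p) 0 0 = 0 := by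
    have : (1 - l) * N.e (aa p) 0 0 = 0 := by linear_combination h9
    rcases mul_eq_zero.1 this with h11 | h11
    · exact absurd (sub_eq_zero.1 h11).symm hl1
    · exact h11
  exact aa_not_cv t N ((f_ker N (aa_V0 t)).1 (ext2 h10 ha1))

/-- the letters of `h` -/
theorem exists_h3 : ∃ h ∈ oddGen Y, h ∈ normalizer (o2 P : Set G) ∧ ∃ σ : Equiv.Perm (Fin 5),
    (∀ i, h * p i * h⁻¹ = p (σ i)) ∧ ((σ 0 = 0 ∧ σ 1 = 1 ∧ σ 2 = 3 ∧ σ 3 = 4 ∧ σ 4 = 2) ∨
      (σ 0 = 0 ∧ σ 1 = 1 ∧ σ 2 = 4 ∧ σ 3 = 2 ∧ σ 4 = 3)) := by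
  obtain ⟨h, hh, hQ, ho, hne⟩ := exists_h t N f4 hl hu
  obtain ⟨σ, hσ⟩ := NQ_act t hQ
  refine ⟨h, hh, hQ, σ, hσ, (perm_odd t.five.std hσ (Y_nn t (oddGen_le Y hh)) ho).resolve_left fun h1 => hne ?_⟩
  rw [aa, cm, hσ, hσ, h1, h1]

/-- `p 2 p 4 ∈ W` -/
theorem mem24 : p 2 * p 4 ∈ cl (zpowers (aa p)) Y := by
  obtain ⟨h, hh, -, σ, hσ, h1⟩ := exists_h3 t N f4 hl hu
  have ha : aa p ∈ cl (zpowers (aa p)) Y := le_cl _ Y (mem_zpowers _)
  have h2 : h * aa p * h⁻¹ ∈ cl (zpowers (aa p)) Y :=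
    (mem_normalizer_iff.1 (le_normalizer_cl (zpowers (aa p)) Y (oddGen_le Y hh)) _).1 ha
  rw [aa, cm, hσ, hσ] at h2
  rcases h1 with ⟨-, -, e2, e3, -⟩ | ⟨-, -, e2, e3, -⟩
  · rw [e2, e3] at h2
    have h3 := mul_mem ha h2
    have e : aa p * (p 3 * p 4) = p 2 * p 4 := by
      have h := t.five.std
      rw [aa, mul_assoc, ← mul_assoc (p 3), h.sq, one_mul]
    rwa [e] at h3
  · rw [e2, e3, t.five.std.comm 4 2] at h2
    exact h2

/-- some `b ∈ O₂(Y)` acts on `L` as `(0 1)` -/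
theorem exists_b : ∃ b ∈ o2 Y, ∀ i, b * p i * b⁻¹ = p (Equiv.swap 0 1 i) := by
  obtain ⟨x, hx, hx1⟩ := exists_t01 t.five
  have hxY := t.TY hx
  have hxVt : ∀ v ∈ Vt p, x * v * x⁻¹ = v := by
    have h1 : Vt p ≤ centralizer ({x} : Set G) := by
      have h2 : x * p 2 * x⁻¹ = p 2 := by rw [hx1]; rfl
      have h3 : x * p 3 * x⁻¹ = p 3 := by rw [hx1]; rfl
      have h4 : x * p 4 * x⁻¹ = p 4 := by rw [hx1]; rfl
      rw [closure_le]
      rintro a (rfl | ha)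
      · rw [SetLike.mem_coe, mem_centralizer_singleton_iff]
        exact (mul_inv_eq_iff_eq_mul.1 (by rw [cm, h2, h3] : x * (p 2 * p 3) * x⁻¹ = p 2 * p 3)).symm
      · rw [Set.mem_singleton_iff] at ha
        rw [ha, SetLike.mem_coe, mem_centralizer_singleton_iff]
        exact (mul_inv_eq_iff_eq_mul.1 (by rw [cm, h2, h4] : x * (p 2 * p 4) * x⁻¹ = p 2 * p 4)).symm
    intro v hv
    exact mul_inv_eq_iff_eq_mul.2 (mem_centralizer_singleton_iff.1 (h1 hv)).symm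
  have hLc : ∀ v ∈ Vt p, ∀ w ∈ cv (Std.T (S : Subgroup G) p) Y, v * w = w * v := fun v hv w hw =>
    t.five.toFive.V_comm (Vt_L t hv) (cv_L t N hu hw)
  obtain ⟨β, hβ⟩ := line_up t N hx fun v hv h0 => by
    obtain ⟨c, hc, d, hd, rfl⟩ := mem_sup_comm hLc ((hl v hv).1 h0)
    have h1 := ccv t hxY hd
    have h2 : x * (c * d) * x⁻¹ * (c * d)⁻¹ = c * (x * d * x⁻¹ * d⁻¹) * c⁻¹ := by
      rw [cm, hxVt c hc]; group
    have h3 : x * d * x⁻¹ * d⁻¹ ∈ cv (Std.T (S : Subgroup G) p) Y := mul_mem h1 (inv_mem hd)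
    rw [h2, hLc c hc _ h3, mul_inv_cancel_right]
    exact h3
  obtain ⟨q, hq, hqb⟩ := t.full N β
  have hqY : q ∈ Y := Q_Y t hq
  have hqi := ac_pow (N := N.toNatK) (Y_V0 t) hqY hqb 1
  refine ⟨q⁻¹ * x, t.ker (mul_mem (inv_mem (Q_T t hq)) hx) fun v hv => ?_, fun i => ?_⟩
  · rw [← f_eq N (cmem t (mul_mem (inv_mem hqY) hxY) hv) hv]
    have h1 := NatOne.ac_inv (N := N.toNatK) (Y_V0 t) hqY hqb
    have h2 := ac_e h1 (cmem t hxY hv)
    have e : q⁻¹ * x * v * (q⁻¹ * x)⁻¹ = q⁻¹ * (x * v * x⁻¹) * q⁻¹⁻¹ := by group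
    rw [e]
    refine h2.trans ?_
    rw [hβ v hv, ← ap_mul, inv_mul_cancel, ap_one]
  · have h1 : q * p (Equiv.swap 0 1 i) = p (Equiv.swap 0 1 i) * q :=
      (mem_centralizer_iff.1 (Q_L t hq) _ (t.five.toFive.p_mem _)).symm
    have e : q⁻¹ * x * p i * (q⁻¹ * x)⁻¹ = q⁻¹ * (x * p i * x⁻¹) * q := by group
    rw [e, hx1, mul_assoc, ← h1]
    group

/-- **`C_V(O²(Y)) = ⟨nn p⟩`** -/
theorem cv_eq {d : G} (hd : d ∈ cv (Std.T (S : Subgroup G) p) Y) : d = 1 ∨ d = nn p := by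
  have h := t.five.std
  obtain ⟨k, hk, -, σ, hσ, h1⟩ := exists_h3 t N f4 hl hu
  obtain ⟨b, hb, hb1⟩ := exists_b t N f4 hl hu
  have kd : k * d * k⁻¹ = d := by
    have := mem_centralizer_iff.1 hd.2 k hk
    rw [this]; group
  have bd : b * d * b⁻¹ = d := by
    have := mem_centralizer_iff.1 (t.cent_zl hb) d hd.1
    rw [← this]; group
  rcases t.five.toFive.elts (cv_L t N hu hd) with h2 | ⟨i, rfl⟩ | ⟨i, j, hij, rfl⟩
  · exact Or.inl h2
  · exfalso
    have h3 : σ i = i := h.inj (by rw [← hσ, kd])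
    have h4 : Equiv.swap 0 1 i = i := h.inj (by rw [← hb1, bd])
    revert h3 h4
    rcases h1 with ⟨e0, e1, e2, e3, e4⟩ | ⟨e0, e1, e2, e3, e4⟩
    · fin_cases i <;> simp_all
    · fin_cases i <;> simp_all
  · right
    rw [cm, hσ, hσ] at kd
    have h3 := h.pair_inj (fun e => hij (σ.injective e)) hij kd
    have h5 : (i = 0 ∧ j = 1) ∨ (i = 1 ∧ j = 0) := by
      revert h3 hij
      rcases h1 with ⟨e0, e1, e2, e3, e4⟩ | ⟨e0, e1, e2, e3, e4⟩
      · fin_cases i <;> fin_cases j <;> simp_all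
      · fin_cases i <;> fin_cases j <;> simp_all
    rcases h5 with ⟨rfl, rfl⟩ | ⟨rfl, rfl⟩
    · rfl
    · exact h.comm _ _

end main

end Cfsg.Agent.Omega.NO3S.WY.Tor.SFiveI

end

section


/-!
# (TOR) for ONE `S₅`: `TorS` gives the facts `Y5`

* `K0_of` : `[Y, p 0] ≤ ⟨nn p⟩` implies `O²(Y) ≤ C(p 0)`;
* `WL_of`; **`y5_of`**.
-/

set_option autoImplicit false
set_option linter.unusedSectionVars false
set_option linter.dupNamespace false

namespace Cfsg.Agent.Omega.NO3S.WY.Tor.SFiveI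

open Subgroup Cfsg Cfsg.Agent.ZN Cfsg.Agent.ZN.ChoiceBase
open Cfsg.Agent.ZN.ChoiceSit (Syl exists_syl syl_conj)
open Cfsg.Agent.Omega.FFThm (OffM ElemM NatK NatKM ActsSL)
open Cfsg.Agent.Lib.SL2Mat
open Cfsg.Agent.Omega.FrameFF (cv)
open Cfsg.Agent.Omega.NTwo (Std nn aa mem_cent cm cc)
open Cfsg.Agent.MinSimple.VModule (oddGen oddGen_def oddGen_le le_normalizer_oddGen)
open Cfsg.Agent.Omega.NO3b.EZero (cl cl_le le_cl cj_le_cl le_normalizer_cl oddGen_sup_syl)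
open Cfsg.Agent.Omega.SQ1.Bau (mem_sup_comm)
open Cfsg.Agent.Omega.NO3S.WY.Tor.SFive (TorS Y5)

universe u

variable {G : Type u} [Group G] [Finite G] {S : Sylow 2 G} {P Y : Subgroup G} {p : Fin 5 → G}

/-- `O²(Y)` centralises `p 0` -/
theorem K0_of (t : TorS S P p Y) (hp : ∀ y ∈ Y, y * p 0 * y⁻¹ * (p 0)⁻¹ ∈ zpowers (nn p)) :
    ∀ k ∈ oddGen Y, k * p 0 = p 0 * k := by
  have h1 : oddGen Y ≤ centralizer ({p 0} : Set G) := by
    rw [oddGen_def, closure_le]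
    rintro g ⟨hg, ho⟩
    rw [SetLike.mem_coe, mem_centralizer_singleton_iff]
    refine SFiveB.comm_of_odd (A := Lm p) (Λ := Lm p) (fun a ha => ?_) ho (hp g hg) (fun z hz => ?_) le_rfl
    · obtain ⟨n, rfl⟩ := mem_zpowers_iff.1 ha
      rw [← (Commute.refl (nn p)).mul_zpow, t.five.std.nsq, one_zpow]
    · exact (mem_centralizer_iff.1 (Y_Lm t hg) z hz).symm
  exact fun k hk => mem_centralizer_singleton_iff.1 (h1 hk)

theorem K1_of (t : TorS S P p Y) (K0 : ∀ k ∈ oddGen Y, k * p 0 = p 0 * k) : ∀ k ∈ oddGen Y, k * p 1 = p 1 * k := by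
  intro k hk
  have e1 : p 1 = p 0 * nn p := by rw [nn, ← mul_assoc, t.five.std.sq, one_mul]
  rw [e1]
  exact ((show Commute k (p 0) from K0 k hk).mul_right (show Commute k (nn p) from Y_nn' t (oddGen_le Y hk))).eq

section main

variable {F : Type} [Field F] [Finite F] [CharP F 2] (t : TorS S P p Y)
  (N : NatKM F (Std.T (S : Subgroup G) p) Y (zl (Std.T (S : Subgroup G) p) Y) (cv (Std.T (S : Subgroup G) p) Y) 1)
  (f4 : Nat.card F = 4)
  (hl : ∀ v ∈ zl (Std.T (S : Subgroup G) p) Y, N.e v 0 1 = 0 ↔ v ∈ Vt p ⊔ cv (Std.T (S : Subgroup G) p) Y)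
  (hu : ∀ x ∈ o2 P, ∃ b : F,
    ActsSL N.e (zl (Std.T (S : Subgroup G) p) Y) (cv (Std.T (S : Subgroup G) p) Y) x fun _ => up b)
include t N f4 hl hu

theorem Vt_W : Vt p ≤ cl (zpowers (aa p)) Y := by
  rw [closure_le]
  rintro a (rfl | ha)
  · exact le_cl _ Y (mem_zpowers _)
  · rw [Set.mem_singleton_iff] at ha
    rw [ha]
    exact mem24 t N f4 hl hu

theorem WL_of {w : G} (hw : w ∈ cl (zpowers (aa p)) Y ⊓ zl (S : Subgroup G) P) :
    ∃ f ∈ cl (zpowers (aa p)) Y ⊓ centralizer (oddGen Y : Set G),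
      w = f ∨ w = p 2 * p 3 * f ∨ w = p 2 * p 4 * f ∨ w = p 3 * p 4 * f := by
  have H := hyp t N f4 hl hu
  have hV := W_V0 t hw.1
  have h0 := (H.mem_L hV).1 hw.2
  have hLc : ∀ v ∈ Vt p, ∀ w ∈ cv (Std.T (S : Subgroup G) p) Y, v * w = w * v := fun v hv w hw =>
    t.five.toFive.V_comm (Vt_L t hv) (cv_L t N hu hw)
  obtain ⟨v, hv, d, hd, rfl⟩ := mem_sup_comm hLc ((hl _ hV).1 h0)
  have hdW : d ∈ cl (zpowers (aa p)) Y := by
    have := mul_mem (inv_mem (Vt_W t N f4 hl hu hv)) hw.1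
    rwa [inv_mul_cancel_left] at this
  refine ⟨d, ⟨hdW, hd.2⟩, ?_⟩
  rcases vt_four t hv with rfl | rfl | rfl | rfl
  · left; rw [one_mul]
  · right; left; rfl
  · right; right; left; rfl
  · right; right; right; rfl

theorem Fq_of {f : G} (hf : f ∈ cl (zpowers (aa p)) Y ⊓ centralizer (oddGen Y : Set G)) : f = 1 ∨ f = p 0 * p 1 :=
  cv_eq t N f4 hl hu ⟨W_V0 t hf.1, hf.2⟩

/-- **`TorS` gives `Y5`.** -/
theorem y5_of (K0 : ∀ k ∈ oddGen Y, k * p 0 = p 0 * k)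
    (KE : oddGen Y ≤ normalizer ((o2 P ⊓ centralizer (cl (zpowers (p 2 * p 3)) Y : Set G) : Subgroup G) : Set G))
    (syl : Syl (o2 P) (oddGen Y ⊔ o2 P)) :
    ∃ (K W F R : Subgroup G) (g h : G), K ≤ Y ∧ Y5 (o2 P) (zl (S : Subgroup G) P) K W F R g h p ∧
      ∀ A ≤ o2 P, ¬ A ≤ o2 Y → ¬ A ≤ centralizer (W : Set G) := by
  have H := hyp t N f4 hl hu
  obtain ⟨R, g, h, o⟩ := H.out
  exact ⟨oddGen Y, cl (zpowers (aa p)) Y, _, R, g, h, oddGen_le Y,
    { QW := o.QW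
      idx := o.idx
      cW := o.cW
      ix := o.ix
      KW := o.KW
      KE := KE
      syl := syl
      FW := o.FW
      KF := o.KF
      Fe := o.Fe
      iF := o.iF
      RK := o.RK
      nR := o.nR
      ER := o.ER
      RW := o.RW
      gK := o.gK
      gn := o.gn
      hK := o.hK
      hQ := o.hQ
      hv := o.hv
      WK := o.WK
      WC := o.WC
      K0 := K0
      K1 := K1_of t K0
      Fq := fun f hf => Fq_of t N f4 hl hu hf
      V3 := le_cl _ Y (mem_zpowers _)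
      V4 := mem24 t N f4 hl hu
      WL := fun w hw => WL_of t N f4 hl hu hw }, fun A hA hAY => t.mvW hA hAY⟩

end main

end Cfsg.Agent.Omega.NO3S.WY.Tor.SFiveI

end

end

-- merged: Cfsg.Agent.Mrg.Omega.NO3S.WY.Tor.SFiveSyl
section

/-!
# (TOR') for one `S₅`: `O₂(P)` is a Sylow 2-subgroup of `O²(Y) O₂(P)`
-/

set_option autoImplicit false
set_option linter.unusedSectionVars false

namespace Cfsg.Agent.Omega.NO3S.WY.Tor.SFive

open Subgroup Cfsg Cfsg.Agent.ZN Cfsg.Agent.ZN.ChoiceBase Cfsg.Agent.ZN.ChoiceSit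
open Cfsg.Agent.MinSimple.VModule (oddGen oddGen_def mem_oddGen oddGen_le le_normalizer_oddGen)
open Cfsg.Agent.Omega.MinPar
open Cfsg.Agent.Omega.FFThm (OffM ElemM NatKM ActsSL)
open Cfsg.Agent.Omega.NatPair (ap ap_one)
open Cfsg.Agent.Lib.SL2Mat (up)
open Cfsg.Agent.Omega.FrameFF (cv)
open Cfsg.Agent.Omega.NTwo (Std nn aa Fv cm mem_cent)
open Cfsg.Agent.Omega.NO3S.Sym.Light (FiveL)

universe u

variable {G : Type u} [Group G] [Finite G] {S : Sylow 2 G} {P Y : Subgroup G} {p : Fin 5 → G}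

theorem key_syl : ∀ σ : Equiv.Perm (Fin 5), σ 4 = 4 → σ 0 = 0 → ((σ 0 = 0 ∧ σ 1 = 1) ∨ (σ 0 = 1 ∧ σ 1 = 0)) →
    σ = 1 ∨ (σ 2 = 3 ∧ σ 3 = 2) := by decide +kernel

namespace TorS

variable (t : TorS S P p Y)
include t

/-- an element of `K ∩ T` lies in `Q` -/
theorem KT_le {F : Type} [Field F] [Finite F] [CharP F 2]
    (N : NatKM F (Std.T (S : Subgroup G) p) Y (zl (Std.T (S : Subgroup G) p) Y) (cv (Std.T (S : Subgroup G) p) Y) 1)
    (hN : ∀ v ∈ zl (Std.T (S : Subgroup G) p) Y,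
      N.e v 0 1 = 0 ↔ v ∈ closure {p 2 * p 3, p 2 * p 4} ⊔ cv (Std.T (S : Subgroup G) p) Y)
    (D1 : ∀ d ∈ cv (Std.T (S : Subgroup G) p) Y, d = 1 ∨ d = nn p)
    (h24 : p 2 * p 4 ∈ zl (Std.T (S : Subgroup G) p) Y) (K0 : ∀ k ∈ oddGen Y, k * p 0 = p 0 * k) {k : G}
    (hk : k ∈ oddGen Y) (hkT : k ∈ Std.T (S : Subgroup G) p) : k ∈ o2 P := by
  have hs := t.five.std
  have hV : Y ≤ normalizer (zl (Std.T (S : Subgroup G) p) Y : Set G) := ZN.le_normalizer_zl _ _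
  have hD : Y ≤ normalizer (cv (Std.T (S : Subgroup G) p) Y : Set G) := fun y hy => by
    rw [mem_normalizer_iff_cj, FrameFF.cv, cj_inf, cj_centralizer,
      cj_eq_of_mem_normalizer (ZN.le_normalizer_zl _ _ hy), cj_eq_of_mem_normalizer (le_normalizer_oddGen Y hy)]
  obtain ⟨b, hb⟩ := NatOne.T_up N.toNatK t.wy.syl hV hD hkT hk
  have hkY := oddGen_le Y hk
  -- `[p 2 p 4, k] ∈ D`
  have h0 : N.e (p 2 * p 4) 0 1 = 0 :=
    (hN _ h24).2 (mem_sup_left (SFiveI.mem_vt24 p))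
  have hw : k * (p 2 * p 4) * k⁻¹ ∈ zl (Std.T (S : Subgroup G) p) Y := (mem_normalizer_iff.1 (hV hkY) _).1 h24
  have h1 : k * (p 2 * p 4) * k⁻¹ * (p 2 * p 4)⁻¹ ∈ cv (Std.T (S : Subgroup G) p) Y := by
    refine (NatOne.div1 N.toNatK hw h24).2 ?_
    rw [NatOne.ac_e hb h24]
    funext j
    fin_cases j
    · change 1 * N.e (p 2 * p 4) 0 0 + b * N.e (p 2 * p 4) 0 1 = N.e (p 2 * p 4) 0 0
      rw [h0, mul_zero, add_zero, one_mul]
    · change 0 * N.e (p 2 * p 4) 0 0 + 1 * N.e (p 2 * p 4) 0 1 = N.e (p 2 * p 4) 0 1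
      rw [zero_mul, zero_add, one_mul]
  have h2 := D1 _ h1
  -- the permutation
  obtain ⟨σ, hσ⟩ := hs.perm k (hs.le (Std.T_le hkT))
  have h4 : σ 4 = 4 := by
    have h3 := hs.fix k (Std.T_le hkT)
    rw [hσ] at h3
    exact hs.inj h3
  have h00 : σ 0 = 0 := by
    have h3 : k * p 0 * k⁻¹ = p 0 := by rw [K0 k hk, mul_inv_cancel_right]
    rw [hσ] at h3
    exact hs.inj h3
  have hn : (σ 0 = 0 ∧ σ 1 = 1) ∨ (σ 0 = 1 ∧ σ 1 = 0) := by
    have h3 := mem_cent.1 (t.cen hkY)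
    rw [nn, cm, hσ, hσ] at h3
    exact hs.pair_inj (fun e => absurd (σ.injective e) (by decide)) (by decide) h3
  rcases key_syl σ h4 h00 hn with rfl | ⟨h23, h32⟩
  · -- `k` centralises `L`
    rw [← MinPar.IsParS.inf_centralizer S t.five.ctx.char2 t.five.star]
    refine ⟨Std.T_le hkT, mem_centralizer_iff.2 fun v hv => ?_⟩
    have hv : v ∈ zl (S : Subgroup G) P := hv
    rw [t.five.gen] at hv
    have h5 : closure (Set.range p) ≤ centralizer ({k} : Set G) := by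
      rw [closure_le]
      rintro _ ⟨i, rfl⟩
      refine mem_centralizer_singleton_iff.2 ?_
      have h6 := hσ i
      rw [Equiv.Perm.one_apply] at h6
      exact (mul_inv_eq_iff_eq_mul.1 h6).symm
    exact mem_centralizer_singleton_iff.1 (h5 hv)
  · exfalso
    have e : k * (p 2 * p 4) * k⁻¹ * (p 2 * p 4)⁻¹ = aa p := by
      rw [cm, hσ, hσ, h23, h4, mul_inv_rev, hs.pinv, hs.pinv, mul_assoc, ← mul_assoc (p 4), hs.sq, one_mul,
        hs.comm 3 2]
    rw [e] at h2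
    rcases h2 with h2 | h2
    · exact hs.a_ne_one h2
    · exact hs.n_ne_a h2.symm

theorem syl_of {F : Type} [Field F] [Finite F] [CharP F 2]
    (N : NatKM F (Std.T (S : Subgroup G) p) Y (zl (Std.T (S : Subgroup G) p) Y) (cv (Std.T (S : Subgroup G) p) Y) 1)
    (hN : ∀ v ∈ zl (Std.T (S : Subgroup G) p) Y,
      N.e v 0 1 = 0 ↔ v ∈ closure {p 2 * p 3, p 2 * p 4} ⊔ cv (Std.T (S : Subgroup G) p) Y)
    (D1 : ∀ d ∈ cv (Std.T (S : Subgroup G) p) Y, d = 1 ∨ d = nn p)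
    (h24 : p 2 * p 4 ∈ zl (Std.T (S : Subgroup G) p) Y) (K0 : ∀ k ∈ oddGen Y, k * p 0 = p 0 * k) :
    Syl (o2 P) (oddGen Y ⊔ o2 P) := by
  have hQT : o2 P ≤ Std.T (S : Subgroup G) p := t.wy.toWQ.QT
  have hQY : o2 P ≤ Y := hQT.trans t.TY
  have hKQY : oddGen Y ⊔ o2 P ≤ Y := sup_le (oddGen_le Y) hQY
  have hTQ : Std.T (S : Subgroup G) p ≤ normalizer (o2 P : Set G) :=
    (Std.T_le.trans t.five.std.le).trans (ZN.le_normalizer_o2 P)
  have hQK : o2 P ≤ normalizer (oddGen Y : Set G) := hQY.trans (le_normalizer_oddGen Y)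
  -- `T ∩ K Q ≤ Q`
  have hint : ∀ x ∈ Std.T (S : Subgroup G) p, x ∈ oddGen Y ⊔ o2 P → x ∈ o2 P := by
    intro x hx hxK
    have h1 : x ∈ ((o2 P ⊔ oddGen Y : Subgroup G) : Set G) := by rw [sup_comm]; exact hxK
    rw [coe_mul_of_left_le_normalizer_right _ _ hQK] at h1
    obtain ⟨q, hq, k, hk, rfl⟩ := h1
    have hq' : q ∈ o2 P := hq
    have hk' : k ∈ oddGen Y := hk
    have hkT : k ∈ Std.T (S : Subgroup G) p := by
      have h2 : (fun x1 x2 : G => x1 * x2) q k ∈ Std.T (S : Subgroup G) p := hx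
      have h3 := mul_mem (inv_mem (hQT hq')) h2
      rwa [inv_mul_cancel_left] at h3
    exact mul_mem hq' (t.KT_le N hN D1 h24 K0 hk' hkT)
  -- `Y ≤ N(K Q)`
  have hY : Y ≤ normalizer ((oddGen Y ⊔ o2 P : Subgroup G) : Set G) := by
    have h1 : Y = oddGen Y ⊔ Std.T (S : Subgroup G) p := (NO3b.EZero.oddGen_sup_syl t.wy.syl).symm
    rw [h1]
    rw [← h1]
    have h2 : oddGen Y ⊔ Std.T (S : Subgroup G) p ≤ normalizer ((oddGen Y ⊔ o2 P : Subgroup G) : Set G) := by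
      refine sup_le (le_sup_left.trans le_normalizer) fun x hx => ?_
      rw [mem_normalizer_iff_cj, cj_sup, cj_eq_of_mem_normalizer (le_normalizer_oddGen Y (t.TY hx)),
        cj_eq_of_mem_normalizer (hTQ hx)]
    exact h1.le.trans h2
  refine ⟨le_sup_right, ChoiceSit.isPGroup_o2 P, fun R hR hR2 hQR => ?_⟩
  obtain ⟨y, hy, hyR⟩ := TTn.exists_conj_le_of_odd_relIndex t.T2 t.Tn hR2 (hR.trans hKQY)
  have h1 : cj y R ≤ o2 P := by
    rintro _ ⟨x, hx, rfl⟩
    exact hint _ (hyR x hx) ((mem_normalizer_iff.1 (hY hy) x).1 (hR hx))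
  have h2 : Nat.card R ≤ Nat.card (o2 P) := by
    have h3 : Nat.card (cj y R) = Nat.card R := card_cj y R
    rw [← h3]
    exact Subgroup.card_le_of_le h1
  exact (Subgroup.eq_of_le_of_card_ge hQR h2).symm

end TorS

end Cfsg.Agent.Omega.NO3S.WY.Tor.SFive

end

-- merged: Cfsg.Agent.Mrg.Omega.Node.NoWFiveYFive
section

/-!
# NoW for one `S₅`: the facts `Y5`

* `kE` : `Q ⊓ C(W) = O₂(Y) ⊓ C(p 0)` is normalised by `O²(Y)`;
* **`y5Of : Y5Of`**; `noWFive' : FinF K → TorSOf K → NoWFive K`.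
-/

set_option autoImplicit false
set_option linter.unusedSectionVars false
set_option linter.dupNamespace false

namespace Cfsg.Agent.Omega.Node.NoWFiveYFive

open Subgroup Cfsg Cfsg.Agent.ZN Cfsg.Agent.ZN.ChoiceBase
open Cfsg.Agent.Omega.FFThm (NatKM ActsSL)
open Cfsg.Agent.Omega.FrameFF (cv)
open Cfsg.Agent.Omega.Frame (Cls)
open Cfsg.Agent.Omega.NTwo (Std nn aa)
open Cfsg.Agent.MinSimple.VModule (oddGen oddGen_le)
open Cfsg.Agent.Omega.NO3b.EZero (cl)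
open Cfsg.Agent.Omega.NO3S.WY.Tor.SFive (TorS Y5)
open Cfsg.Agent.Omega.NO3S.WY.Tor.SFiveI
open Cfsg.Agent.Omega.Node.NoWFiveSel Cfsg.Agent.Omega.Node.NoWFivePlug
open Cfsg.Agent.Omega.Node.ELXUni (NoWFive)

universe u

variable {G : Type u} [Group G] [Finite G] {S : Sylow 2 G} {P Y : Subgroup G} {p : Fin 5 → G}

theorem inf_eq (t : TorS S P p Y) (h24 : p 2 * p 4 ∈ zl (Std.T (S : Subgroup G) p) Y) :
    o2 P ⊓ centralizer (cl (zpowers (p 2 * p 3)) Y : Set G) = o2 Y ⊓ centralizer ({p 0} : Set G) := by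
  refine le_antisymm ?_ ?_
  · rintro q ⟨hq, hqW⟩
    refine ⟨t.ker (Q_T t hq) fun v hv => ?_, ?_⟩
    · have h1 : zl (Std.T (S : Subgroup G) p) Y ≤ centralizer ({q} : Set G) := by
        refine (V0_le_W t).trans (sup_le ?_ ?_)
        · exact fun w hw => mem_centralizer_singleton_iff.2 (mem_centralizer_iff.1 hqW w hw)
        · exact fun w hw => mem_centralizer_singleton_iff.2
            (mem_centralizer_iff.1 (Y_Lm t (Q_Y t hq)) w hw)
      have h2 := mem_centralizer_singleton_iff.1 (h1 hv)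
      rw [← h2, mul_inv_cancel_right, mul_inv_cancel]
      exact one_mem _
    · exact mem_centralizer_singleton_iff.2 (mem_centralizer_iff.1 (Q_L t hq) _ (t.five.toFive.p_mem 0)).symm
  · rintro y ⟨hy, hy0⟩
    have hc : ∀ v ∈ zl (Std.T (S : Subgroup G) p) Y, y * v = v * y := fun v hv =>
      (mem_centralizer_iff.1 (t.cent_zl hy) v hv).symm
    refine ⟨S_L t ⟨Std.T_le (t.o2T hy), ?_⟩, mem_centralizer_iff.2 fun w hw => (hc w (W_V0 t hw)).symm⟩
    exact cent_L_of t (mem_centralizer_singleton_iff.1 hy0) (hc _ (nn_V0 t)) (hc _ (aa_V0 t)) (hc _ h24)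

theorem kE (t : TorS S P p Y) (h24 : p 2 * p 4 ∈ zl (Std.T (S : Subgroup G) p) Y) :
    oddGen Y ≤ normalizer ((o2 P ⊓ centralizer (cl (zpowers (p 2 * p 3)) Y : Set G) : Subgroup G) : Set G) := by
  intro k hk
  have h1 : k ∈ centralizer ({p 0} : Set G) := mem_centralizer_singleton_iff.2 (t.K0 k hk)
  rw [inf_eq t h24, mem_normalizer_iff_cj, cj_inf,
    cj_eq_of_mem_normalizer (ZN.le_normalizer_o2 Y (oddGen_le Y hk)), cj_eq_of_mem_normalizer (le_normalizer h1)]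

/-- **the facts `Y5`** -/
theorem y5Of : Y5Of.{u} := by
  intro G _ _ S P p Y t
  obtain ⟨F, _, _, _, N, f4, hl, hu⟩ := t.nat
  have h24 : p 2 * p 4 ∈ zl (Std.T (S : Subgroup G) p) Y := W_V0 t (mem24 t N f4 hl hu)
  exact y5_of t N f4 hl hu t.K0 (kE t h24)
    (t.syl_of N hl (fun d hd => cv_eq t N f4 hl hu hd) h24 t.K0)

/-- **NoW for one `S₅`** from the finite stage and `TorS` -/
theorem noWFive' {K : Cls.{u}} (hF : FinF K) (hT : TorSOf K) : NoWFive K := noWFive hF hT y5Of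

end Cfsg.Agent.Omega.Node.NoWFiveYFive

end

-- merged: Cfsg.Agent.Mrg.Omega.Node.NO3SDone
section

/-!
# The leaf NO-3S is closed

* `offN` : THEOREM L(q) over `MulL` (helper498, 291, 276, 993, 555 and others);
* `openL_of : MLK → Y5Of → OpenL K`;
* **`openL : Landed → OpenL K`**, **`node : Landed → NodeNO3S K`**, for every class `K`.
-/

set_option autoImplicit false

namespace Cfsg.Agent.Omega.NO3S

open Cfsg Cfsg.Agent.Omega.Frame Cfsg.Agent.Omega.FrameNOFF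

universe u

variable {K : Cls.{u}}

/-- **THEOREM L(q)** over `MulL`. -/
theorem offN (hML : ML.Final.MLK.{u, u}) : EK3.QL.OffNK K :=
  Node.OffNOf.offNK_of fun _ _ _ _ _ _ _ _ _ _ _ _ _ _ _ _ _ h => CaseLW.QWHz.hFam h hML

theorem openL_of (hML : ML.Final.MLK.{u, u}) (h5 : Node.NoWFivePlug.Y5Of.{u}) : OpenL K where
  offN := offN hML
  torS := CaseLQ.FiveI.torSOf
  y5 := h5

/-- **No input of the leaf NO-3S is open.** -/
theorem openL (L : Cfsg.Agent.Omega.Landed.Landed.{u}) (K : Cls.{u}) : OpenL K :=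
  openL_of L.mlk Node.NoWFiveYFive.y5Of

/-- **The leaf NO-3S.** -/
theorem node (L : Cfsg.Agent.Omega.Landed.Landed.{u}) (K : Cls.{u}) : NodeNO3S K :=
  (openL L K).node (landed_of L)

end Cfsg.Agent.Omega.NO3S

end

-- merged: Cfsg.Agent.Mrg.Omega.OpenAll
section

/-!
# OMEGA: the classification from the leaf NO-3L

The odd half (S1765), `LandedAll.landed` and the leaf NO-3S (`Node/NO3SDone.lean`) are plugged.
-/

set_option autoImplicit false

namespace Cfsg.Agent.Omega.OpenAll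

open Cfsg Cfsg.Agent.Omega.Frame

universe u

/-- **S1765.** -/
theorem odd : Assembly.OddLit.{u} := fun _ _ _ _ h1 h2 h3 => Cfsg.Agent.OddHalf.S1765Plug.result h1 h2 h3

/-- **The inputs of the even half**, from the open sockets of the leaf NO-3L. -/
theorem openAll_of (I : Node.NO3LOpen.OpenR All.{u}) : OpenTree.Open All.{u} :=
  ⟨NO3S.openL LandedAll.landed All, I⟩

/-- **Literal S0000** from the open sockets of the leaf NO-3L. -/
theorem classification_of (I : Node.NO3LOpen.OpenR All.{u}) (G : Type u) [Group G] [Finite G] [IsSimpleGroup G] :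
    IsKnownSimple' G :=
  OpenTree.classification LandedAll.landed (openAll_of I) odd G

end Cfsg.Agent.Omega.OpenAll

end
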